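import Groth.Prelude.Def_Disc
import Mathlib.RingTheory.Ideal.AssociatedPrime.Basic
import Mathlib.RingTheory.Ideal.GoingUp
import Mathlib.RingTheory.Ideal.Over
import Mathlib.RingTheory.Ideal.Quotient.Noetherian
import Mathlib.RingTheory.Flat.Basic
import Mathlib.Algebra.Module.FinitePresentation
import Mathlib.Algebra.Module.LocalizedModule.Basic
import Mathlib.RingTheory.Localization.FractionRing
import Mathlib.LinearAlgebra.Dual.Lemmas
import Mathlib.LinearAlgebra.TensorProduct.Pi
import Mathlib.RingTheory.TensorProduct.Basic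
import Mathlib.LinearAlgebra.TensorProduct.RightExactness

/-! Associated primes of `ω`. -/

set_option autoImplicit false
set_option linter.style.haveILetI false

universe u v w

open scoped TensorProduct
open Submodule

namespace Groth.Agent.Lib.Disc.AssOmega

theorem exists_dual_ne_zero (R : Type u) (M : Type v) [CommRing R] [IsDomain R] [IsNoetherianRing R]
    [AddCommGroup M] [Module R M] [Module.Finite R M] (m : M) (hm : ∀ r : R, r • m = 0 → r = 0) :
    ∃ h : M →ₗ[R] R, h m ≠ 0 := by
  let S := nonZeroDivisors R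
  let v : LocalizedModule S M := LocalizedModule.mkLinearMap S M m
  have hv : v ≠ 0 := fun h0 => by
    obtain ⟨s, hs⟩ := (IsLocalizedModule.eq_zero_iff S (LocalizedModule.mkLinearMap S M)).1 h0
    exact nonZeroDivisors.ne_zero s.2 (hm _ hs)
  obtain ⟨f, hf⟩ : ∃ f : Module.Dual (FractionRing R) (LocalizedModule S M), f v ≠ 0 := by
    by_contra hcon
    simp only [not_exists, not_not] at hcon
    exact hv ((Module.forall_dual_apply_eq_zero_iff (FractionRing R) v).1 hcon)
  haveI : Module.FinitePresentation R M := Module.finitePresentation_of_finite R M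
  let ι : R →ₗ[R] FractionRing R := Algebra.linearMap R (FractionRing R)
  haveI : IsLocalizedModule S ι := inferInstance
  obtain ⟨h, s, hs⟩ := Module.FinitePresentation.exists_lift_of_isLocalizedModule S ι
    ((f.restrictScalars R).comp (LocalizedModule.mkLinearMap S M))
  refine ⟨h, fun h0 => hf ?_⟩
  have h1 : (0 : FractionRing R) = (s : R) • f v := by
    have := LinearMap.congr_fun hs m
    simpa [ι, h0, v, Submonoid.smul_def] using this
  rw [Algebra.smul_def] at h1
  exact (mul_eq_zero.1 h1.symm).resolve_left (IsLocalization.map_units (FractionRing R) s).ne_zero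

section Finite

variable {A : Type u} {B : Type v} [CommRing A] [CommRing B] [Algebra A B]
  [IsNoetherianRing A] [IsNoetherianRing B] [Module.Finite A B]

theorem comap_mem {q : Ideal B} (hq : IsAssociatedPrime q (_root_.Disc.Omega A B)) :
    q.comap (algebraMap A B) ∈ associatedPrimes A A := by
  classical
  obtain ⟨hprime, φ, hφ⟩ := isAssociatedPrime_iff.1 hq
  rw [AssociatedPrimes.mem_iff, isAssociatedPrime_iff]
  refine ⟨Ideal.IsPrime.comap _, ?_⟩
  obtain ⟨s, hs⟩ := Module.Finite.fg_top (R := A) (M := B)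
  have hle : ∀ y : B, q.comap (algebraMap A B) ≤ (⊥ : Submodule A A).colon {φ.toLinearMap y} := by
    intro y a ha
    rw [mem_colon_singleton, mem_bot]
    have h : algebraMap A B a • φ = 0 := by
      rw [Ideal.mem_comap, hφ, mem_colon_singleton, mem_bot] at ha
      exact ha
    have := congrArg (fun l : _root_.Disc.Omega A B => l.toLinearMap y) h
    rw [_root_.Disc.Omega.smul_toLinearMap_apply, ← Algebra.smul_def, map_smul] at this
    simpa using this
  have hinf : s.inf (fun y => (⊥ : Submodule A A).colon {φ.toLinearMap y}) ≤ q.comap (algebraMap A B) := by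
    intro a ha
    rw [Submodule.mem_finsetInf] at ha
    rw [Ideal.mem_comap, hφ, mem_colon_singleton, mem_bot]
    refine _root_.Disc.Omega.ext (LinearMap.ext_on hs fun y hy => ?_)
    rw [_root_.Disc.Omega.smul_toLinearMap_apply, ← Algebra.smul_def, map_smul]
    simpa [mem_colon_singleton] using ha y hy
  obtain ⟨y, -, hy⟩ := (Ideal.IsPrime.inf_le' (Ideal.IsPrime.comap (K := q) (algebraMap A B))).1 hinf
  exact ⟨φ.toLinearMap y, le_antisymm (hle y) hy⟩

theorem mem_of_comap {q : Ideal B} [q.IsPrime]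
    (hq : q.comap (algebraMap A B) ∈ associatedPrimes A A) :
    IsAssociatedPrime q (_root_.Disc.Omega A B) := by
  set p := q.under A with hp
  obtain ⟨-, c, hc⟩ := isAssociatedPrime_iff.1 (AssociatedPrimes.mem_iff.1 hq)
  haveI : q.LiesOver p := q.over_under
  haveI : Module.Finite (A ⧸ p) (B ⧸ q) := Module.Finite.of_restrictScalars_finite A _ _
  haveI : Algebra.IsIntegral (A ⧸ p) (B ⧸ q) := Algebra.IsIntegral.of_finite _ _
  have hinj : Function.Injective (algebraMap (A ⧸ p) (B ⧸ q)) := by
    refine (injective_iff_map_eq_zero _).2 fun x hx => ?_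
    obtain ⟨a, rfl⟩ := Ideal.Quotient.mk_surjective x
    exact Ideal.Quotient.eq_zero_iff_mem.2 (Ideal.Quotient.eq_zero_iff_mem.1 hx : algebraMap A B a ∈ q)
  obtain ⟨h, hh⟩ := exists_dual_ne_zero (A ⧸ p) (B ⧸ q) 1 fun r hr =>
    hinj (by rw [map_zero, ← hr, Algebra.smul_def, mul_one])
  let θ : (A ⧸ p) →ₗ[A] A := Submodule.liftQ p (LinearMap.toSpanSingleton A A c) fun a ha => by
    have : a ∈ (⊥ : Submodule A A).colon {c} := hc.le ha
    simpa [mem_colon_singleton] using this
  have hθ : ∀ x, θ x = 0 → x = 0 := by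
    intro x hx
    obtain ⟨a, rfl⟩ := Ideal.Quotient.mk_surjective x
    exact Ideal.Quotient.eq_zero_iff_mem.2 (hc.ge (mem_colon_singleton.2 ((mem_bot A).2 hx)) : a ∈ p)
  let φ : _root_.Disc.Omega A B :=
    ⟨θ.comp ((h.restrictScalars A).comp (Ideal.Quotient.mkₐ A q).toLinearMap)⟩
  refine isAssociatedPrime_iff.2 ⟨inferInstance, φ, ?_⟩
  ext b
  rw [mem_colon_singleton, mem_bot]
  constructor
  · intro hb
    refine _root_.Disc.Omega.ext (LinearMap.ext fun x => ?_)
    have : Ideal.Quotient.mk q (b * x) = 0 := Ideal.Quotient.eq_zero_iff_mem.2 (q.mul_mem_right _ hb)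
    simp [φ, this, Ideal.Quotient.mkₐ_eq_mk]
  · intro hb
    by_contra hbq
    have hb0 : Ideal.Quotient.mk q b ≠ 0 := fun h0 => hbq (Ideal.Quotient.eq_zero_iff_mem.1 h0)
    obtain ⟨a, ha, ha0⟩ := Submodule.exists_mem_ne_zero_of_ne_bot
      (Ideal.comap_ne_bot_of_integral_mem (R := A ⧸ p) (I := Ideal.span {Ideal.Quotient.mk q b}) hb0
        (Ideal.mem_span_singleton_self _) (Algebra.IsIntegral.isIntegral _))
    obtain ⟨y, hy⟩ := Ideal.mem_span_singleton'.1 ha
    obtain ⟨y, rfl⟩ := Ideal.Quotient.mk_surjective y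
    have h2 : h (algebraMap (A ⧸ p) (B ⧸ q) a) = 0 := by
      refine hθ _ ?_
      rw [← hy, mul_comm, ← map_mul]
      have := congrArg (fun l : _root_.Disc.Omega A B => l.toLinearMap y) hb
      exact this
    rw [Algebra.algebraMap_eq_smul_one, map_smul, smul_eq_mul, mul_eq_zero] at h2
    exact h2.elim ha0 hh

theorem associatedPrimes_omega :
    associatedPrimes B (_root_.Disc.Omega A B) =
      {q : Ideal B | q.IsPrime ∧ q.comap (algebraMap A B) ∈ associatedPrimes A A} :=
  Set.ext fun q => ⟨fun h => ⟨IsAssociatedPrime.isPrime h, comap_mem h⟩,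
    fun ⟨h₁, h₂⟩ => haveI := h₁; mem_of_comap h₂⟩

end Finite

section Tensor

variable {B' : Type u} {B : Type v} [CommRing B'] [CommRing B] [Algebra B' B]
  [IsNoetherianRing B'] [IsNoetherianRing B] [Module.Flat B' B]
  {M : Type w} [AddCommGroup M] [Module B' M] [Module.Finite B' M]

theorem colon_one_tmul (m : M) :
    (⊥ : Submodule B (B ⊗[B'] M)).colon {(1 : B) ⊗ₜ[B'] m} =
      ((⊥ : Submodule B' M).colon {m}).map (algebraMap B' B) := by
  refine le_antisymm (fun b hb => ?_) (Ideal.map_le_iff_le_comap.2 fun a ha => ?_)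
  · rw [mem_colon_singleton, mem_bot, TensorProduct.smul_tmul', smul_eq_mul, mul_one] at hb
    let l : B' →ₗ[B'] M := LinearMap.toSpanSingleton B' M m
    have h0 : l.lTensor B (b ⊗ₜ[B'] (1 : B')) = 0 := by simpa [l] using hb
    obtain ⟨t, ht⟩ := (Module.Flat.lTensor_exact B (LinearMap.exact_subtype_ker_map l) _).1 h0
    have key : ∀ t : B ⊗[B'] LinearMap.ker l,
        TensorProduct.rid B' B ((LinearMap.ker l).subtype.lTensor B t) ∈
          ((⊥ : Submodule B' M).colon {m}).map (algebraMap B' B) := by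
      intro t
      induction t using TensorProduct.induction_on with
      | zero => simp
      | tmul c y =>
          simp only [LinearMap.lTensor_tmul, TensorProduct.rid_tmul, Submodule.subtype_apply, Algebra.smul_def]
          refine Ideal.mul_mem_right _ _ (Ideal.mem_map_of_mem _ ?_)
          rw [mem_colon_singleton, mem_bot]
          exact y.2
      | add a b ha hb => rw [map_add, map_add]; exact add_mem ha hb
    have h1 := key t
    rwa [ht, TensorProduct.rid_tmul, one_smul] at h1
  · rw [Ideal.mem_comap, mem_colon_singleton, mem_bot, algebraMap_smul, ← TensorProduct.tmul_smul,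
      (mem_bot B').1 (mem_colon_singleton.1 ha), TensorProduct.tmul_zero]

theorem comap_mem_of_tensor {q : Ideal B} (hq : IsAssociatedPrime q (B ⊗[B'] M)) :
    q.comap (algebraMap B' B) ∈ associatedPrimes B' M := by
  classical
  obtain ⟨hprime, x, hx⟩ := isAssociatedPrime_iff.1 hq
  set q' := q.comap (algebraMap B' B) with hq'
  haveI : q'.IsPrime := Ideal.IsPrime.comap _
  by_contra hnot
  obtain ⟨n, r, hr⟩ := Submodule.fg_iff_exists_fin_generating_family.1 (IsNoetherian.noetherian q')
  let L : M →ₗ[B'] (Fin n → M) := LinearMap.pi fun i => LinearMap.lsmul B' M (r i)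
  have hL : L.lTensor B x = 0 := by
    refine (TensorProduct.piRight B' B' B (fun _ : Fin n => M)).injective ?_
    rw [map_zero]
    funext i
    have hri : r i ∈ q' := hr ▸ Submodule.subset_span (Set.mem_range_self i)
    have h0 : algebraMap B' B (r i) • x = 0 := by
      rw [hq', Ideal.mem_comap, hx, mem_colon_singleton, mem_bot] at hri
      exact hri
    rw [algebraMap_smul] at h0
    rw [Pi.zero_apply, ← h0]
    clear hx h0
    induction x using TensorProduct.induction_on with
    | zero => simp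
    | tmul b m => simp [L, TensorProduct.tmul_smul]
    | add a b ha hb => simp only [map_add, Pi.add_apply, ha, hb, smul_add]
  obtain ⟨t, ht⟩ := (Module.Flat.lTensor_exact B (LinearMap.exact_subtype_ker_map L) x).1 hL
  obtain ⟨g, hg⟩ := IsNoetherian.noetherian (LinearMap.ker L)
  have hout : ∀ y ∈ g, ∃ s : B', s ∉ q' ∧ s • y = 0 := by
    intro y hy
    have hker : y ∈ LinearMap.ker L := hg ▸ Submodule.subset_span hy
    by_contra hno
    refine hnot (AssociatedPrimes.mem_iff.2 (isAssociatedPrime_iff.2 ⟨inferInstance, y, le_antisymm ?_ ?_⟩))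
    · rw [← hr, Submodule.span_le]
      rintro _ ⟨i, rfl⟩
      rw [SetLike.mem_coe, mem_colon_singleton, mem_bot]
      exact congrFun (LinearMap.mem_ker.1 hker) i
    · intro s hs
      by_contra hsq
      exact hno ⟨s, hsq, (mem_bot B').1 (mem_colon_singleton.1 hs)⟩
  choose! s hs hs0 using hout
  have hprod : ∏ y ∈ g, s y ∉ q' := fun hmem => by
    obtain ⟨y, hy, hy'⟩ := (Ideal.IsPrime.prod_mem_iff).1 hmem
    exact hs y hy hy'
  refine hprod ?_
  rw [hq', Ideal.mem_comap, hx, mem_colon_singleton, mem_bot, algebraMap_smul, ← ht, ← map_smul]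
  have hkill : ∀ m : LinearMap.ker L, (∏ y ∈ g, s y) • m = 0 := by
    rintro ⟨m, hm⟩
    refine Subtype.ext ?_
    change (∏ y ∈ g, s y) • m = 0
    rw [← hg] at hm
    induction hm using Submodule.span_induction with
    | mem y hy => rw [← Finset.prod_erase_mul g s hy, mul_smul, hs0 y hy, smul_zero]
    | zero => rw [smul_zero]
    | add _ _ _ _ h1 h2 => rw [smul_add, h1, h2, add_zero]
    | smul c _ _ h1 => rw [smul_comm, h1, smul_zero]
  have h0 : ∀ t : B ⊗[B'] LinearMap.ker L, (∏ y ∈ g, s y) • t = 0 := fun t => by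
    induction t using TensorProduct.induction_on with
    | zero => exact smul_zero _
    | tmul b m => rw [← TensorProduct.tmul_smul, hkill, TensorProduct.tmul_zero]
    | add a b ha hb => rw [smul_add, ha, hb, add_zero]
  rw [h0, map_zero]

theorem associatedPrimes_tensor
    (hinj : ∀ q₀ q₁ : Ideal B, q₀.IsPrime → q₁.IsPrime →
      q₀.comap (algebraMap B' B) = q₁.comap (algebraMap B' B) → q₀ = q₁) :
    associatedPrimes B (B ⊗[B'] M) =
      {q : Ideal B | q.IsPrime ∧ q.comap (algebraMap B' B) ∈ associatedPrimes B' M} := by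
  refine Set.ext fun q => ⟨fun h => ⟨IsAssociatedPrime.isPrime h, comap_mem_of_tensor h⟩, fun ⟨hq, h⟩ => ?_⟩
  haveI := hq
  obtain ⟨-, m, hm⟩ := isAssociatedPrime_iff.1 (AssociatedPrimes.mem_iff.1 h)
  refine isAssociatedPrime_iff.2 ⟨hq, exists_eq_colon_of_mem_minimalPrimes (x := (1 : B) ⊗ₜ[B'] m) ?_⟩
  rw [colon_one_tmul, ← hm]
  refine ⟨⟨hq, Ideal.map_comap_le⟩, ?_⟩
  rintro q₀ ⟨hq₀, hle₀⟩ hle
  refine le_of_eq (hinj q q₀ hq hq₀ (le_antisymm (Ideal.map_le_iff_le_comap.1 hle₀) (Ideal.comap_mono hle)))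

end Tensor

end Groth.Agent.Lib.Disc.AssOmega
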