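import Mathlib.RingTheory.PicardGroup
import Mathlib.RingTheory.Flat.Basic
import Mathlib.RingTheory.Flat.Stability
import Mathlib.RingTheory.Flat.IsBaseChange
import Mathlib.Algebra.Module.FinitePresentation

/-! Descent of invertibility and flatness along a jointly surjective family of flat algebras. -/

set_option autoImplicit false

universe u

open scoped TensorProduct

namespace Groth.Agent.Lib.Disc.Cover

variable {B : Type u} [CommRing B]

/-- Elements are detected by flat algebras covering the maximal ideals. -/
theorem eq_zero_of_cover {M : Type u} [AddCommGroup M] [Module B M] (z : M)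
    (h : ∀ q : Ideal B, q.IsMaximal → ∃ (C : Type u) (_ : CommRing C) (_ : Algebra B C)
      (_ : Module.Flat B C), q.map (algebraMap B C) ≠ ⊤ ∧ (1 : C) ⊗ₜ[B] z = 0) : z = 0 := by
  by_contra hz
  let l : B →ₗ[B] M := LinearMap.toSpanSingleton B M z
  obtain ⟨q, hq, hle⟩ := Ideal.exists_le_maximal (LinearMap.ker l)
    (fun hl => hz (by simpa [l] using (LinearMap.mem_ker.1 ((Ideal.eq_top_iff_one _).1 hl))))
  obtain ⟨C, _, _, _, hne, h0⟩ := h q hq
  obtain ⟨t, ht⟩ := (Module.Flat.lTensor_exact C (LinearMap.exact_subtype_ker_map l)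
    ((1 : C) ⊗ₜ[B] (1 : B))).1 (by simpa [l] using h0)
  have key : ∀ t : C ⊗[B] LinearMap.ker l,
      TensorProduct.rid B C ((LinearMap.ker l).subtype.lTensor C t) ∈
        Ideal.map (algebraMap B C) (LinearMap.ker l) := by
    intro t
    induction t using TensorProduct.induction_on with
    | zero => simp
    | tmul c y =>
        simp only [LinearMap.lTensor_tmul, TensorProduct.rid_tmul, Submodule.subtype_apply, Algebra.smul_def]
        exact Ideal.mul_mem_right _ _ (Ideal.mem_map_of_mem _ y.2)
    | add a b ha hb => rw [map_add, map_add]; exact add_mem ha hb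
  have h1 := key t
  rw [ht, TensorProduct.rid_tmul, one_smul] at h1
  exact hne (top_le_iff.1 ((Ideal.eq_top_iff_one _).2 h1 ▸ Ideal.map_mono hle))

theorem hom_comm_free {C : Type u} [CommRing C] {N : Type u} [AddCommGroup N] [Module C N]
    (e : N ≃ₗ[C] C) (f : N →ₗ[C] C) (x y : N) : f x • y = f y • x := by
  have h : ∀ z, f z = e z * f (e.symm 1) := fun z => by
    rw [← smul_eq_mul, ← map_smul, ← map_smul, smul_eq_mul, mul_one, e.symm_apply_apply]
  refine e.injective ?_
  rw [map_smul, map_smul, smul_eq_mul, smul_eq_mul, h x, h y]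
  ring

/-- Invertibility is detected by flat algebras covering the maximal ideals. -/
theorem invertible_of_cover {M : Type u} [AddCommGroup M] [Module B M] [Module.FinitePresentation B M]
    (h : ∀ q : Ideal B, q.IsMaximal → ∃ (C : Type u) (_ : CommRing C) (_ : Algebra B C)
      (_ : Module.Flat B C), q.map (algebraMap B C) ≠ ⊤ ∧ Nonempty (C ⊗[B] M ≃ₗ[C] C)) :
    Module.Invertible B M := by
  classical
  have hswap : ∀ (f : M →ₗ[B] B) (x y : M), f x • y = f y • x := by
    intro f x y
    refine sub_eq_zero.1 (eq_zero_of_cover (B := B) (f x • y - f y • x) fun q hq => ?_)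
    obtain ⟨C, _, _, _, hne, ⟨e⟩⟩ := h q hq
    refine ⟨C, inferInstance, inferInstance, inferInstance, hne, ?_⟩
    let F : C ⊗[B] M →ₗ[C] C :=
      (TensorProduct.AlgebraTensorModule.rid B C C).toLinearMap.comp (f.baseChange C)
    have hF : ∀ z : M, F ((1 : C) ⊗ₜ[B] z) = algebraMap B C (f z) := fun z => by
      simp [F, Algebra.algebraMap_eq_smul_one]
    have := hom_comm_free e F ((1 : C) ⊗ₜ[B] x) ((1 : C) ⊗ₜ[B] y)
    rw [hF, hF, algebraMap_smul C (f x), algebraMap_smul C (f y)] at this
    rw [TensorProduct.tmul_sub, TensorProduct.tmul_smul, TensorProduct.tmul_smul, this, sub_self]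
  let I : Ideal B := Ideal.span {b | ∃ (f : M →ₗ[B] B) (x : M), f x = b}
  have hI : I = ⊤ := by
    by_contra hne'
    obtain ⟨q, hq, hle⟩ := Ideal.exists_le_maximal _ hne'
    obtain ⟨C, _, _, _, hne, ⟨e⟩⟩ := h q hq
    let ψ : C ⊗[B] M →ₗ[C] C ⊗[B] B :=
      (TensorProduct.AlgebraTensorModule.rid B C C).symm.toLinearMap.comp e.toLinearMap
    have hmem : ∀ z, TensorProduct.AlgebraTensorModule.rid B C C (ψ z) ∈ I.map (algebraMap B C) := by
      refine IsBaseChange.inductionOn (Module.FinitePresentation.isBaseChange_map B M B C) ψ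
        (fun χ => ∀ z, TensorProduct.AlgebraTensorModule.rid B C C (χ z) ∈ I.map (algebraMap B C))
        (fun z => by simp) (fun f z => ?_) (fun c χ hχ z => ?_) (fun χ χ' h1 h2 z => ?_)
      · induction z using TensorProduct.induction_on with
        | zero => simp
        | tmul c m =>
            simp only [LinearMap.baseChangeHom_apply, LinearMap.baseChange_tmul,
              TensorProduct.AlgebraTensorModule.rid_tmul, Algebra.smul_def]
            exact Ideal.mul_mem_right _ _ (Ideal.mem_map_of_mem _ (Ideal.subset_span ⟨f, m, rfl⟩))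
        | add a b ha hb => rw [map_add, map_add]; exact add_mem ha hb
      · rw [LinearMap.smul_apply, map_smul, smul_eq_mul]
        exact Ideal.mul_mem_left _ _ (hχ z)
      · rw [LinearMap.add_apply, map_add]
        exact add_mem (h1 z) (h2 z)
    have h1 := hmem (e.symm 1)
    simp [ψ] at h1
    exact hne (top_le_iff.1 ((Ideal.eq_top_iff_one _).2 h1 ▸ Ideal.map_mono hle))
  obtain ⟨S, hS⟩ : ∃ S : Finset ((M →ₗ[B] B) × M), ∃ c : (M →ₗ[B] B) × M → B,
      ∑ i ∈ S, c i * i.1 i.2 = 1 := by
    have h1 : (1 : B) ∈ I := hI ▸ Submodule.mem_top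
    have : {b | ∃ (f : M →ₗ[B] B) (x : M), f x = b} = Set.range fun i : (M →ₗ[B] B) × M => i.1 i.2 := by
      ext b; simp
    rw [show I = Ideal.span _ from rfl, this] at h1
    obtain ⟨c, hc⟩ := (Finsupp.mem_span_range_iff_exists_finsupp).1 h1
    exact ⟨c.support, c, hc⟩
  obtain ⟨c, hc⟩ := hS
  refine ⟨⟨fun t t' ht => ?_, fun b => ⟨∑ i ∈ S, (b * c i) • (i.1 ⊗ₜ[B] i.2), ?_⟩⟩⟩
  · have key : ∀ t : Module.Dual B M ⊗[B] M,
        t = contractLeft B M t • ∑ i ∈ S, c i • (i.1 ⊗ₜ[B] i.2) := by
      intro t
      induction t using TensorProduct.induction_on with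
      | zero => simp
      | add a b ha hb => rw [map_add, add_smul, ← ha, ← hb]
      | tmul g y =>
          rw [contractLeft_apply, Finset.smul_sum]
          conv_lhs => rw [← one_smul B (g ⊗ₜ[B] y), ← hc, Finset.sum_smul]
          refine Finset.sum_congr rfl fun i _ => ?_
          rw [smul_smul, mul_comm (g y), mul_smul, mul_smul]
          congr 1
          rw [← TensorProduct.tmul_smul, hswap i.1 i.2 y, TensorProduct.tmul_smul,
            TensorProduct.smul_tmul', TensorProduct.smul_tmul']
          congr 1
          refine LinearMap.ext fun z => ?_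
          rw [LinearMap.smul_apply, LinearMap.smul_apply, smul_eq_mul, smul_eq_mul]
          have := congrArg g (hswap i.1 y z)
          rw [map_smul, map_smul, smul_eq_mul, smul_eq_mul] at this
          rw [this, mul_comm]
    rw [key t, key t', ht]
  · rw [map_sum]
    simp only [map_smul, contractLeft_apply, smul_eq_mul, mul_assoc]
    rw [← Finset.mul_sum, hc, mul_one]

/-- Flatness over a base is detected by flat algebras covering the maximal ideals. -/
theorem flat_of_cover {A : Type u} [CommRing A] [Algebra A B] {M : Type u} [AddCommGroup M]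
    [Module B M] [Module A M] [IsScalarTower A B M]
    (h : ∀ q : Ideal B, q.IsMaximal → ∃ (C : Type u) (_ : CommRing C) (_ : Algebra B C)
      (_ : Module.Flat B C) (_ : Algebra A C) (_ : IsScalarTower A B C),
      q.map (algebraMap B C) ≠ ⊤ ∧ Module.Flat A (C ⊗[B] M)) :
    Module.Flat A M := by
  rw [Module.Flat.iff_lTensor_preserves_injective_linearMap]
  intro N N' _ _ _ _ f hf
  refine (injective_iff_map_eq_zero _).2 fun z hz => eq_zero_of_cover (B := B) z fun q hq => ?_
  obtain ⟨C, _, _, _, _, _, hne, hflat⟩ := h q hq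
  refine ⟨C, inferInstance, inferInstance, inferInstance, hne, ?_⟩
  let a := TensorProduct.AlgebraTensorModule.assoc A B B C M N
  let a' := TensorProduct.AlgebraTensorModule.assoc A B B C M N'
  haveI := hflat
  have hnat : ∀ w : (C ⊗[B] M) ⊗[A] N, a' (f.lTensor (C ⊗[B] M) w) =
      (TensorProduct.AlgebraTensorModule.lTensor B M f).lTensor C (a w) := by
    intro w
    induction w using TensorProduct.induction_on with
    | zero => simp
    | add x y hx hy => simp only [map_add, hx, hy]
    | tmul x n =>
        induction x using TensorProduct.induction_on with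
        | zero => simp
        | add x y hx hy => simp only [TensorProduct.add_tmul, map_add, hx, hy]
        | tmul c m => simp [a, a']
  have h1 := Module.Flat.lTensor_preserves_injective_linearMap (M := C ⊗[B] M) f hf
  refine a.symm.injective ?_
  rw [map_zero]
  refine h1 ?_
  rw [map_zero]
  refine a'.injective ?_
  rw [hnat, map_zero, a.apply_symm_apply, LinearMap.lTensor_tmul]
  rw [show TensorProduct.AlgebraTensorModule.lTensor B M f z = f.lTensor M z from rfl, hz, TensorProduct.tmul_zero]

end Groth.Agent.Lib.Disc.Cover
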