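import Groth.Agent.Lib.Disc.Pairing
import Mathlib.RingTheory.PicardGroup
import Mathlib.RingTheory.Artinian.Instances
import Mathlib.RingTheory.Artinian.Module
import Mathlib.RingTheory.Nakayama
import Mathlib.RingTheory.Ideal.Quotient.Operations

/-! The different of a finite free algebra: discriminant and invertible `ω`. -/

set_option autoImplicit false

universe u v w

open scoped TensorProduct

namespace Groth.Agent.Lib.Disc.Different

open Groth.Agent.Lib.Disc.Pairing

variable {A : Type u} {B : Type v} [CommRing A] [CommRing B] [Algebra A B]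

theorem mem_differentSet_iff [Module.Free A B] [Module.Finite A B] {x : B} :
    x ∈ _root_.Disc.differentSet A B ↔
      ∀ ψ : _root_.Disc.Omega A B, ∃ c : B, x • ψ = c • _root_.Disc.Omega.trace A B := by
  refine ⟨fun h ψ => ?_, fun h φ => ?_⟩
  · obtain ⟨c, hc⟩ := h ψ.toLinearMap
    exact ⟨c, _root_.Disc.Omega.ext (LinearMap.ext hc)⟩
  · obtain ⟨c, hc⟩ := h ⟨φ⟩
    exact ⟨c, fun y => LinearMap.congr_fun (congrArg _root_.Disc.Omega.toLinearMap hc) y⟩

theorem norm_mem_span_discr {ι : Type w} [Fintype ι] [DecidableEq ι] (b : Module.Basis ι A B) {x : B}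
    (hx : x ∈ _root_.Disc.differentSet A B) :
    Algebra.norm A x ∈ Ideal.span {Algebra.discr A b} := by
  choose c hc using fun j => hx (b.coord j)
  have h : Algebra.leftMulMatrix b x =
      Matrix.of (fun j k => b.repr (c j) k) * Algebra.traceMatrix A b := by
    ext j i
    rw [Algebra.leftMulMatrix_eq_repr_mul, Matrix.mul_apply]
    refine (hc j (b i)).trans ?_
    conv_lhs => rw [← b.sum_repr (c j), Finset.sum_mul, map_sum]
    refine Finset.sum_congr rfl fun k _ => ?_
    rw [smul_mul_assoc, map_smul, smul_eq_mul]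
    rfl
  rw [Algebra.norm_eq_matrix_det b, h, Matrix.det_mul, Algebra.discr_def]
  exact Ideal.mul_mem_left _ _ (Ideal.mem_span_singleton_self _)

theorem hom_comm {M : Type*} [AddCommGroup M] [Module B M] [Module.Invertible B M] (f : M →ₗ[B] B)
    (x y : M) : f x • y = f y • x := by
  have h := congrArg (TensorProduct.lift ((LinearMap.lsmul B M).comp f))
    (Module.Invertible.tmul_comm (R := B) (m₁ := x) (m₂ := y))
  simpa using h

theorem exists_sum_eq_one (M : Type*) [AddCommGroup M] [Module B M] [Module.Invertible B M] :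
    ∃ S : Finset ((M →ₗ[B] B) × M), ∑ i ∈ S, i.1 i.2 = (1 : B) := by
  obtain ⟨S, hS⟩ := ((Module.Invertible.linearEquiv B M).symm 1).exists_finset
  refine ⟨S, ?_⟩
  have h := congrArg (Module.Invertible.linearEquiv B M) hS
  rw [LinearEquiv.apply_symm_apply, map_sum] at h
  exact h.symm

theorem differentSet_eq_noetherDifferent [Module.Free A B] [Module.Finite A B]
    [Module.Invertible B (_root_.Disc.Omega A B)] :
    _root_.Disc.differentSet A B = (_root_.Disc.noetherDifferent A B : Set B) := by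
  ext x
  rw [SetLike.mem_coe, mem_noetherDifferent_iff, mem_differentSet_iff]
  constructor
  · intro h
    choose c hc using h
    obtain ⟨S, hS⟩ := exists_sum_eq_one (B := B) (_root_.Disc.Omega A B)
    refine ⟨∑ i ∈ S, c i.2 • i.1, ?_⟩
    calc (∑ i ∈ S, c i.2 • i.1) (_root_.Disc.Omega.trace A B)
        = ∑ i ∈ S, x * i.1 i.2 := by
          rw [LinearMap.sum_apply]
          refine Finset.sum_congr rfl fun i _ => ?_
          rw [LinearMap.smul_apply, ← map_smul, ← hc, map_smul, smul_eq_mul]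
      _ = x := by rw [← Finset.mul_sum, hS, mul_one]
  · rintro ⟨φ, rfl⟩ ψ
    exact ⟨φ ψ, hom_comm φ _ ψ⟩

theorem finite_maximal_above [Module.Finite A B] (p : Ideal A) [p.IsMaximal] :
    {q : Ideal B | q.IsMaximal ∧ p.map (algebraMap A B) ≤ q}.Finite := by
  let R := B ⧸ p.map (algebraMap A B)
  letI : Field (A ⧸ p) := Ideal.Quotient.field p
  letI : Algebra (A ⧸ p) R := Ideal.Quotient.algebraQuotientOfLEComap Ideal.le_comap_map
  haveI : IsScalarTower A (A ⧸ p) R := .of_algebraMap_eq' rfl
  haveI : Module.Finite (A ⧸ p) R := Module.Finite.of_restrictScalars_finite A _ _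
  haveI : IsArtinianRing R := IsArtinianRing.of_finite (A ⧸ p) R
  refine ((Set.finite_range (fun P : PrimeSpectrum R => P.asIdeal.comap (Ideal.Quotient.mk _))).subset ?_)
  rintro q ⟨hq, hle⟩
  refine ⟨⟨q.map (Ideal.Quotient.mk _), Ideal.map_isPrime_of_surjective Ideal.Quotient.mk_surjective
    (by rwa [Ideal.mk_ker])⟩, ?_⟩
  change (q.map (Ideal.Quotient.mk _)).comap (Ideal.Quotient.mk _) = q
  rw [Ideal.comap_map_of_surjective _ Ideal.Quotient.mk_surjective, ← RingHom.ker_eq_comap_bot,
    Ideal.mk_ker, sup_eq_left]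
  exact hle

theorem exists_local_gen [Module.Finite A B] (M : Type*) [AddCommGroup M] [Module B M]
    [Module.Invertible B M] (p : Ideal A) [p.IsMaximal] :
    ∃ (l : M) (f : M →ₗ[B] B) (r : A), r ∉ p ∧ f l = algebraMap A B r := by
  classical
  obtain ⟨S, hS⟩ := exists_sum_eq_one (B := B) M
  let Q := (finite_maximal_above (B := B) p).toFinset
  have hQ : ∀ q ∈ Q, ∃ (i : (M →ₗ[B] B) × M) (u : B), u * i.1 i.2 ∉ q ∧ ∀ q' ∈ Q, q' ≠ q → u ∈ q' := by
    intro q hq
    have hq' : q.IsMaximal := ((Set.Finite.mem_toFinset _).1 hq).1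
    obtain ⟨i, -, hi⟩ : ∃ i ∈ S, i.1 i.2 ∉ q := by
      by_contra! h
      exact hq'.ne_top ((Ideal.eq_top_iff_one q).2 (hS ▸ Ideal.sum_mem _ h))
    have hu : ∀ q' ∈ Q.erase q, ∃ u ∈ q', u ∉ q := fun q' hq'' => SetLike.not_le_iff_exists.1
      fun hle => (Finset.mem_erase.1 hq'').1
        (((Set.Finite.mem_toFinset _).1 (Finset.mem_erase.1 hq'').2).1.eq_of_le hq'.ne_top hle)
    choose! u hu hu' using hu
    refine ⟨i, ∏ q' ∈ Q.erase q, u q', fun h => ?_, fun q' h1 h2 => ?_⟩
    · rcases hq'.isPrime.mem_or_mem h with h' | h'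
      · obtain ⟨q', h1, h2⟩ := hq'.isPrime.prod_mem_iff.1 h'
        exact hu' q' h1 h2
      · exact hi h'
    · rw [← Finset.mul_prod_erase _ _ (Finset.mem_erase.2 ⟨h2, h1⟩)]
      exact Ideal.mul_mem_right _ _ (hu q' (Finset.mem_erase.2 ⟨h2, h1⟩))
  choose! i u hu1 hu2 using hQ
  let l : M := ∑ q ∈ Q, u q • (i q).2
  let J : Ideal B := LinearMap.range (LinearMap.applyₗ l : (M →ₗ[B] B) →ₗ[B] B)
  have htop : J ⊔ p.map (algebraMap A B) = ⊤ := by
    by_contra hne
    obtain ⟨q, hq, hle⟩ := Ideal.exists_le_maximal _ hne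
    have hqQ : q ∈ Q := (Set.Finite.mem_toFinset _).2 ⟨hq, le_sup_right.trans hle⟩
    have h1 : (i q).1 l ∈ q := le_sup_left.trans hle (LinearMap.mem_range_self _ (i q).1)
    refine hu1 q hqQ ?_
    rw [map_sum, ← Finset.add_sum_erase _ _ hqQ, map_smul, smul_eq_mul] at h1
    refine (Ideal.add_mem_iff_left _ (Ideal.sum_mem _ fun q' hq' => ?_)).1 h1
    rw [map_smul, smul_eq_mul]
    exact Ideal.mul_mem_right _ _ (hu2 q' (Finset.mem_erase.1 hq').2 q hqQ (Finset.mem_erase.1 hq').1.symm)
  let J' : Submodule A B := J.restrictScalars A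
  have hN : (⊤ : Submodule A (B ⧸ J')) ≤ p • ⊤ := by
    rintro z -
    obtain ⟨z, rfl⟩ := J'.mkQ_surjective z
    obtain ⟨a, ha, c, hc, rfl⟩ := Submodule.mem_sup.1 (htop.ge Submodule.mem_top : z ∈ J ⊔ p.map (algebraMap A B))
    rw [map_add, Submodule.mkQ_apply, (Submodule.Quotient.mk_eq_zero J').2 ha, zero_add]
    have hc' : c ∈ p • (⊤ : Submodule A B) := by
      rw [Ideal.smul_top_eq_map]
      exact hc
    have := Submodule.mem_map_of_mem (f := J'.mkQ) hc'
    rw [Submodule.map_smul'', Submodule.map_top, Submodule.range_mkQ] at this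
    exact this
  obtain ⟨r, hr, hr'⟩ := Submodule.exists_sub_one_mem_and_smul_eq_zero_of_fg_of_le_smul p
    (⊤ : Submodule A (B ⧸ J')) Module.Finite.fg_top hN
  have hrp : r ∉ p := fun h => Ideal.IsPrime.ne_top inferInstance
    ((Ideal.eq_top_iff_one p).2 (by simpa using sub_mem h hr))
  have h1 : algebraMap A B r ∈ J := by
    have := hr' (J'.mkQ 1) Submodule.mem_top
    rw [← map_smul, Submodule.mkQ_apply, Submodule.Quotient.mk_eq_zero, Algebra.smul_def, mul_one] at this
    exact this
  obtain ⟨f, hf⟩ := h1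
  exact ⟨l, f, r, hrp, hf⟩

theorem span_norm_differentSet {ι : Type w} [Fintype ι] [DecidableEq ι] (b : Module.Basis ι A B)
    [Module.Invertible B (_root_.Disc.Omega A B)] :
    Ideal.span (Algebra.norm A '' _root_.Disc.differentSet A B) = Ideal.span {Algebra.discr A b} := by
  haveI : Module.Free A B := Module.Free.of_basis b
  haveI : Module.Finite A B := Module.Finite.of_basis b
  refine le_antisymm (Ideal.span_le.2 ?_) ((Ideal.span_singleton_le_iff_mem _).2 ?_)
  · rintro _ ⟨x, hx, rfl⟩
    exact norm_mem_span_discr b hx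
  set J := Ideal.span (Algebra.norm A '' _root_.Disc.differentSet A B)
  suffices h : J.colon {Algebra.discr A b} = ⊤ by
    simpa [Submodule.mem_colon_singleton] using (Ideal.eq_top_iff_one _).1 h
  by_contra hne
  obtain ⟨p, hp, hle⟩ := Ideal.exists_le_maximal _ hne
  obtain ⟨l, f, r, hr, hfl⟩ := exists_local_gen (B := B) (_root_.Disc.Omega A B) p
  set τ := _root_.Disc.Omega.trace A B with hτdef
  have hswap : ∀ ψ : _root_.Disc.Omega A B, algebraMap A B r • ψ = f ψ • l := fun ψ =>
    hfl ▸ hom_comm f l ψ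
  have hxdiff : algebraMap A B r * f τ ∈ _root_.Disc.differentSet A B := by
    refine mem_differentSet_iff.2 fun ψ => ⟨f ψ * algebraMap A B r, ?_⟩
    rw [mul_smul, mul_smul, ← hτdef, hswap τ, ← smul_comm (f τ), hswap ψ, smul_comm]
  have hT : r • Algebra.traceMatrix A b = (Algebra.leftMulMatrix b (f τ)).transpose *
      Matrix.of (fun k j => l.toLinearMap (b k * b j)) := by
    ext i j
    rw [Matrix.smul_apply, Algebra.traceMatrix_apply, Algebra.traceForm_apply, Matrix.mul_apply]
    have h := LinearMap.congr_fun (congrArg _root_.Disc.Omega.toLinearMap (hswap τ)) (b i * b j)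
    rw [Pairing.smul_algebraMap, _root_.Disc.Omega.smul_toLinearMap_apply] at h
    refine h.trans ?_
    rw [← mul_assoc]
    conv_lhs => rw [← b.sum_repr (f τ * b i), Finset.sum_mul, map_sum]
    refine Finset.sum_congr rfl fun k _ => ?_
    rw [Matrix.transpose_apply, Algebra.leftMulMatrix_eq_repr_mul, smul_mul_assoc, map_smul, smul_eq_mul,
      Matrix.of_apply]
  have hdet := congrArg Matrix.det hT
  rw [Matrix.det_smul, Matrix.det_mul, Matrix.det_transpose, ← Algebra.discr_def,
    ← Algebra.norm_eq_matrix_det] at hdet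
  set n := Fintype.card ι
  have hmem : r ^ (2 * n) * Algebra.discr A b ∈ J := by
    have h1 : Algebra.norm A (algebraMap A B r * f τ) ∈ J := Ideal.subset_span ⟨_, hxdiff, rfl⟩
    rw [map_mul, Algebra.norm_algebraMap_of_basis b] at h1
    rw [two_mul, pow_add, mul_assoc, hdet, ← mul_assoc]
    exact Ideal.mul_mem_right _ _ h1
  exact hr (hp.isPrime.mem_of_pow_mem (2 * n) (hle (Submodule.mem_colon_singleton.2 hmem)))

end Groth.Agent.Lib.Disc.Different
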