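import Groth.Agent.Lib.Disc.Cover
import Mathlib.RingTheory.Flat.EquationalCriterion
import Mathlib.RingTheory.Nakayama
import Mathlib.RingTheory.PicardGroup
import Mathlib.RingTheory.LocalRing.Module
import Mathlib.RingTheory.Localization.AtPrime.Basic
import Mathlib.RingTheory.LocalRing.ResidueField.Ideal
import Mathlib.RingTheory.Ideal.Quotient.Operations
import Mathlib.LinearAlgebra.TensorProduct.Quotient
import Mathlib.RingTheory.RingHom.Flat

/-! Invertibility of a flat module is a fibrewise condition. -/

set_option autoImplicit false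
set_option linter.style.haveILetI false

universe u

open scoped TensorProduct

namespace Groth.Agent.Lib.Disc.Fibre

/-- A localisation (or any flat base change) of a module flat over the ground ring is flat. -/
theorem flat_tensor {A B : Type u} [CommRing A] [CommRing B] [Algebra A B] (C : Type u) [CommRing C]
    [Algebra B C] [Algebra A C] [IsScalarTower A B C] [Module.Flat B C] (M : Type u) [AddCommGroup M]
    [Module B M] [Module A M] [IsScalarTower A B M] [Module.Flat A M] :
    Module.Flat A (C ⊗[B] M) := by
  rw [Module.Flat.iff_lTensor_preserves_injective_linearMap]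
  intro N N' _ _ _ _ f hf
  let a := TensorProduct.AlgebraTensorModule.assoc A B B C M N
  let a' := TensorProduct.AlgebraTensorModule.assoc A B B C M N'
  let g : M ⊗[A] N →ₗ[B] M ⊗[A] N' := TensorProduct.AlgebraTensorModule.lTensor B M f
  have hg : Function.Injective (g.lTensor C) :=
    Module.Flat.lTensor_preserves_injective_linearMap (M := C) g
      (Module.Flat.lTensor_preserves_injective_linearMap (M := M) f hf)
  have hnat : ∀ w, a' (f.lTensor (C ⊗[B] M) w) = g.lTensor C (a w) := by
    intro w
    induction w using TensorProduct.induction_on with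
    | zero => simp
    | add x y hx hy => simp only [map_add, hx, hy]
    | tmul x n =>
        induction x using TensorProduct.induction_on with
        | zero => simp
        | add x y hx hy => simp only [TensorProduct.add_tmul, map_add, hx, hy]
        | tmul c m => simp [a, a', g]
  intro x y h
  exact a.injective (hg (by rw [← hnat, ← hnat, h]))

variable {A C N : Type u} [CommRing A] [CommRing C] [Algebra A C] [AddCommGroup N] [Module C N]
  [Module A N] [IsScalarTower A C N]

/-- Flatness: the relations of `N` meet `pC` only in `p` times the relations. -/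
theorem ker_inf_le [Module.Flat A N] (l : C →ₗ[C] N) (hl : Function.Surjective l) (p : Ideal A) :
    LinearMap.ker l ⊓ (p.map (algebraMap A C)) ≤ p.map (algebraMap A C) • LinearMap.ker l := by
  rintro x ⟨hx, hxp⟩
  obtain ⟨n, a, ha⟩ : ∃ (n : ℕ) (a : Fin n → A × C), (∀ i, (a i).1 ∈ p) ∧
      x = ∑ i, algebraMap A C (a i).1 * (a i).2 := by
    clear hx
    induction hxp using Submodule.span_induction with
    | mem z hz =>
        obtain ⟨a, ha, rfl⟩ := hz
        exact ⟨1, fun _ => (a, 1), fun _ => ha, by simp⟩
    | zero => exact ⟨0, Fin.elim0, fun i => i.elim0, by simp⟩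
    | add z w _ _ h1 h2 =>
        obtain ⟨n, a, ha, rfl⟩ := h1
        obtain ⟨m, b, hb, rfl⟩ := h2
        exact ⟨n + m, Fin.append a b, fun i => Fin.addCases (fun i => by simpa using ha i) (fun i => by simpa using hb i) i,
          by simp [Fin.sum_univ_add]⟩
    | smul c z _ h1 =>
        obtain ⟨n, a, ha, rfl⟩ := h1
        exact ⟨n, fun i => ((a i).1, c * (a i).2), ha, by simp [Finset.mul_sum, mul_left_comm]⟩
  obtain ⟨ha, rfl⟩ := ha
  have hrel : ∑ i, (a i).1 • l (a i).2 = 0 := by
    rw [← LinearMap.mem_ker.1 hx, map_sum]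
    refine Finset.sum_congr rfl fun i _ => ?_
    rw [← smul_eq_mul, map_smul, algebraMap_smul]
  obtain ⟨k, b, y, hb, hy⟩ := Module.Flat.isTrivialRelation_of_sum_smul_eq_zero hrel
  choose d hd using fun j => hl (y j)
  have hk : ∀ i, (a i).2 - ∑ j, algebraMap A C (b i j) * d j ∈ LinearMap.ker l := fun i => by
    rw [LinearMap.mem_ker, map_sub, map_sum, sub_eq_zero, show l (a i).2 = _ from hb i]
    exact Finset.sum_congr rfl fun j _ => by rw [← smul_eq_mul, map_smul, algebraMap_smul, hd]
  have hsum : ∑ i, algebraMap A C (a i).1 * (a i).2 =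
      ∑ i, algebraMap A C (a i).1 • ((a i).2 - ∑ j, algebraMap A C (b i j) * d j) := by
    simp only [smul_eq_mul, mul_sub, Finset.sum_sub_distrib, Finset.mul_sum, ← mul_assoc, ← map_mul]
    rw [eq_comm, sub_eq_self, Finset.sum_comm]
    refine Finset.sum_eq_zero fun j _ => ?_
    rw [← Finset.sum_mul, ← map_sum]
    simp only [hy j, map_zero, zero_mul]
  rw [hsum]
  exact sum_mem fun i _ => Submodule.smul_mem_smul (Ideal.mem_map_of_mem _ (ha i)) (hk i)

/-- A finite flat module over a local algebra with free rank one fibre is free of rank one. -/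
theorem nonempty_equiv [IsLocalRing C] [IsNoetherianRing C] [Module.Finite C N] [Module.Flat A N]
    (p : Ideal A) (hp : p.map (algebraMap A C) ≤ IsLocalRing.maximalIdeal C)
    (ε : (C ⧸ p.map (algebraMap A C)) ⊗[C] N ≃ₗ[C] C ⧸ p.map (algebraMap A C)) :
    Nonempty (N ≃ₗ[C] C) := by
  set I := p.map (algebraMap A C) with hI
  have hjac : I ≤ (⊥ : Ideal C).jacobson := hp.trans (IsLocalRing.maximalIdeal_le_jacobson ⊥)
  have hsurj : Function.Surjective (TensorProduct.mk C (C ⧸ I) N 1) := by
    intro z
    induction z using TensorProduct.induction_on with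
    | zero => exact ⟨0, map_zero _⟩
    | add x y hx hy =>
        obtain ⟨x, rfl⟩ := hx
        obtain ⟨y, rfl⟩ := hy
        exact ⟨x + y, map_add _ _ _⟩
    | tmul c m =>
        obtain ⟨c, rfl⟩ := Ideal.Quotient.mk_surjective c
        refine ⟨c • m, ?_⟩
        rw [TensorProduct.mk_apply, ← TensorProduct.smul_tmul, Algebra.smul_def, mul_one]
        rfl
  obtain ⟨n, hn⟩ := hsurj (ε.symm 1)
  let l : C →ₗ[C] N := LinearMap.toSpanSingleton C N n
  have hn' : ε ((1 : C ⧸ I) ⊗ₜ[C] n) = 1 := by
    rw [show (1 : C ⧸ I) ⊗ₜ[C] n = ε.symm 1 from hn, ε.apply_symm_apply]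
  have hmod : ∀ c, ε ((1 : C ⧸ I) ⊗ₜ[C] (c • n)) = Ideal.Quotient.mk I c := fun c => by
    rw [TensorProduct.tmul_smul, map_smul, hn', Algebra.smul_def, mul_one]
    rfl
  have hl : Function.Surjective l := by
    have hle : (⊤ : Submodule C N) ≤ LinearMap.range l ⊔ I • (⊤ : Submodule C N) := by
      intro x _
      obtain ⟨c, hc⟩ := Ideal.Quotient.mk_surjective (ε ((1 : C ⧸ I) ⊗ₜ[C] x))
      have h0 : (1 : C ⧸ I) ⊗ₜ[C] (x - c • n) = 0 := by
        refine ε.injective ?_
        rw [TensorProduct.tmul_sub, map_sub, hmod, hc, sub_self, map_zero]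
      have h1 := congrArg (TensorProduct.quotTensorEquivQuotSMul N I) h0
      rw [show (1 : C ⧸ I) = Ideal.Quotient.mk I 1 from rfl, TensorProduct.quotTensorEquivQuotSMul_mk_tmul,
        one_smul, map_zero, Submodule.Quotient.mk_eq_zero] at h1
      rw [← add_sub_cancel (c • n) x]
      exact Submodule.add_mem_sup ⟨c, rfl⟩ h1
    exact LinearMap.range_eq_top.1 (top_le_iff.1
      (Submodule.le_of_le_smul_of_le_jacobson_bot Module.Finite.fg_top hjac hle))
  have hker : LinearMap.ker l ≤ I • LinearMap.ker l := by
    intro c hc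
    refine ker_inf_le l hl p ⟨hc, ?_⟩
    have h1 := hmod c
    rw [show c • n = l c from rfl, LinearMap.mem_ker.1 hc, TensorProduct.tmul_zero, map_zero] at h1
    exact Ideal.Quotient.eq_zero_iff_mem.1 h1.symm
  have hbot : LinearMap.ker l = ⊥ :=
    Submodule.eq_bot_of_le_smul_of_le_jacobson_bot I _ (IsNoetherian.noetherian _) hker hjac
  exact ⟨(LinearEquiv.ofBijective l ⟨LinearMap.ker_eq_bot.1 hbot, hl⟩).symm⟩

section Global

variable {A B M : Type u} [CommRing A] [CommRing B] [Algebra A B] [IsNoetherianRing B]
  [AddCommGroup M] [Module B M] [Module A M] [IsScalarTower A B M] [Module.Finite B M] [Module.Flat A M]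

/-- Invertibility of a flat module can be checked modulo the primes of the ground ring. -/
theorem invertible_of_fibres
    (h : ∀ q : Ideal B, ∀ [q.IsMaximal],
      Nonempty ((Localization.AtPrime q ⧸ (q.under A).map (algebraMap A (Localization.AtPrime q))) ⊗[B] M
        ≃ₗ[Localization.AtPrime q ⧸ (q.under A).map (algebraMap A (Localization.AtPrime q))]
        Localization.AtPrime q ⧸ (q.under A).map (algebraMap A (Localization.AtPrime q)))) :
    Module.Invertible B M := by
  haveI : Module.FinitePresentation B M := Module.finitePresentation_of_finite _ _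
  refine Cover.invertible_of_cover fun q hq => ?_
  haveI := hq
  let C := Localization.AtPrime q
  have hle : (q.under A).map (algebraMap A C) ≤ IsLocalRing.maximalIdeal C := by
    rw [Ideal.map_le_iff_le_comap]
    intro a ha
    rw [Ideal.mem_comap, IsScalarTower.algebraMap_apply A B C,
      IsLocalization.AtPrime.to_map_mem_maximal_iff C q]
    exact ha
  haveI : Module.Flat B C := IsLocalization.flat C q.primeCompl
  haveI : IsNoetherianRing C := IsLocalization.isNoetherianRing q.primeCompl C inferInstance
  haveI : Module.Flat A (C ⊗[B] M) := flat_tensor C M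
  obtain ⟨e⟩ := h q
  refine ⟨C, inferInstance, inferInstance, inferInstance, ?_, nonempty_equiv (q.under A) hle
    ((TensorProduct.AlgebraTensorModule.cancelBaseChange B C
      (C ⧸ (q.under A).map (algebraMap A C)) (C ⧸ (q.under A).map (algebraMap A C)) M).trans e |>.restrictScalars C)⟩
  intro htop
  have : q.map (algebraMap B C) ≤ IsLocalRing.maximalIdeal C := by
    exact Ideal.map_le_iff_le_comap.2 fun b hb =>
      (IsLocalization.AtPrime.to_map_mem_maximal_iff C q b).2 hb
  exact (IsLocalRing.maximalIdeal.isMaximal C).ne_top (top_le_iff.1 (htop ▸ this))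

end Global

end Groth.Agent.Lib.Disc.Fibre
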