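import Groth.Agent.Lib.Disc.QFChart
import Groth.Prelude.Def_QFDual
import Mathlib.RingTheory.Noetherian.Basic
import Mathlib.RingTheory.Flat.Stability
import Mathlib.RingTheory.LocalRing.Module

/-! The dualizing module of a flat quasi-finite algebra, via étale-local charts. -/

set_option autoImplicit false
set_option linter.style.haveILetI false

universe u

open scoped TensorProduct

namespace Groth.Agent.Lib.Disc.QFOmega

open AlgebraicGeometry CategoryTheory

attribute [local instance] Algebra.TensorProduct.rightAlgebra

theorem finite_omega (A B : Type u) [CommRing A] [CommRing B] [Algebra A B] [IsNoetherianRing A]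
    [Module.Finite A B] : Module.Finite B (_root_.Disc.Omega A B) := by
  obtain ⟨n, p, hp⟩ := Module.Finite.exists_fin' A (B →ₗ[A] A)
  let g : Fin n → _root_.Disc.Omega A B := fun i => ⟨p (Pi.single i 1)⟩
  refine Module.Finite.of_surjective (Fintype.linearCombination B g) fun φ => ?_
  obtain ⟨c, hc⟩ := hp φ.toLinearMap
  refine ⟨fun i => algebraMap A B (c i), _root_.Disc.Omega.ext (LinearMap.ext fun b => ?_)⟩
  rw [← hc]
  conv_rhs => rw [pi_eq_sum_univ' c]
  rw [Fintype.linearCombination_apply]
  let F : _root_.Disc.Omega A B →+ A :=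
    { toFun := fun ψ => ψ.toLinearMap b, map_zero' := rfl, map_add' := fun _ _ => rfl }
  show F (∑ i, algebraMap A B (c i) • g i) = _
  simp [F, g, ← Algebra.smul_def]

/-- `ω` of a finite free algebra is flat over any base over which the ground ring is flat. -/
theorem flat_of_omega {A A₁ C : Type u} [CommRing A] [CommRing A₁] [CommRing C] [Algebra A A₁]
    [Module.Flat A A₁] [Algebra A₁ C] [Algebra A C] [IsScalarTower A A₁ C] [Module.Finite A₁ C]
    [Module.Free A₁ C] {X : Type u} [AddCommGroup X] [Module C X] [Module A X] [IsScalarTower A C X]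
    (Ψ : X ≃ₗ[C] _root_.Disc.Omega A₁ C) : Module.Flat A X := by
  classical
  let b := Module.Free.chooseBasis A₁ C
  let Φ : X →ₗ[A] (Module.Free.ChooseBasisIndex A₁ C → A₁) :=
    { toFun := fun x i => (Ψ x).toLinearMap (b i)
      map_add' := fun x y => by
        funext i
        rw [map_add]
        rfl
      map_smul' := fun a x => by
        funext i
        rw [← algebraMap_smul C a x, map_smul, _root_.Disc.Omega.smul_toLinearMap_apply,
          IsScalarTower.algebraMap_apply A A₁ C, ← Algebra.smul_def, map_smul]
        simp [Algebra.smul_def] }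
  have hΦ : Function.Bijective Φ := by
    refine ⟨fun x y h => Ψ.injective (_root_.Disc.Omega.ext (b.ext fun i => congrFun h i)), fun f => ?_⟩
    refine ⟨Ψ.symm ⟨b.constr A₁ f⟩, funext fun i => ?_⟩
    change (Ψ (Ψ.symm ⟨b.constr A₁ f⟩)).toLinearMap (b i) = f i
    rw [Ψ.apply_symm_apply]
    exact b.constr_basis A₁ f i
  haveI : Module.Flat A₁ (Module.Free.ChooseBasisIndex A₁ C → A₁) := inferInstance
  haveI : Module.Flat A (Module.Free.ChooseBasisIndex A₁ C → A₁) :=
    Module.Flat.trans A A₁ (Module.Free.ChooseBasisIndex A₁ C → A₁)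
  exact Module.Flat.of_linearEquiv (LinearEquiv.ofBijective Φ hΦ)

end Groth.Agent.Lib.Disc.QFOmega
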