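import Groth.Prelude.Def_Disc
import Mathlib.RingTheory.Ideal.Pure
import Mathlib.RingTheory.Noetherian.Basic
import Mathlib.LinearAlgebra.TensorProduct.Tower

/-! `ω` of a clopen quotient of a finite algebra. -/

set_option autoImplicit false

universe u

open scoped TensorProduct

namespace Groth.Agent.Lib.Disc.QFSplit

theorem exists_idem {R C : Type u} [CommRing R] [IsNoetherianRing R] [CommRing C] [Algebra R C]
    [Module.Flat R C] (hs : Function.Surjective (algebraMap R C)) :
    ∃ ε : R, IsIdempotentElem ε ∧ RingHom.ker (algebraMap R C) = Ideal.span {ε} := by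
  haveI : (RingHom.ker (algebraMap R C)).Pure :=
    Module.Flat.of_linearEquiv (Ideal.quotientKerAlgEquivOfSurjective (f := Algebra.ofId R C) hs).toLinearEquiv
  obtain ⟨e, he, h⟩ := (Ideal.isIdempotentElem_iff_of_fg _ (IsNoetherian.noetherian _)).1
    (Ideal.isIdempotentElem_of_pure (RingHom.ker (algebraMap R C)))
  exact ⟨e, he, h⟩

theorem exists_equiv_symm {A₁ R C : Type u} [CommRing A₁] [CommRing R] [CommRing C]
    [Algebra A₁ R] [Algebra A₁ C] [Algebra R C] [IsScalarTower A₁ R C]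
    (hs : Function.Surjective (algebraMap R C)) {ε : R} (hε : IsIdempotentElem ε)
    (hker : RingHom.ker (algebraMap R C) = Ideal.span {ε}) :
    ∃ e : C ⊗[R] _root_.Disc.Omega A₁ R ≃ₗ[C] _root_.Disc.Omega A₁ C, ∀ ψ : _root_.Disc.Omega A₁ C,
      e.symm ψ = (1 : C) ⊗ₜ[R] ⟨ψ.toLinearMap.comp (IsScalarTower.toAlgHom A₁ R C).toLinearMap⟩ := by
  have hπε : algebraMap R C ε = 0 := RingHom.mem_ker.1 (hker.ge (Ideal.mem_span_singleton_self ε))
  have key : ∀ x y : R, algebraMap R C x = algebraMap R C y → x * (1 - ε) = y * (1 - ε) := by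
    intro x y h
    obtain ⟨d, hd⟩ := Ideal.mem_span_singleton'.1
      (hker.le (show x - y ∈ RingHom.ker (algebraMap R C) by rw [RingHom.mem_ker, map_sub, h, sub_self]))
    rw [← sub_eq_zero, ← sub_mul, ← hd, mul_assoc, hε.mul_one_sub_self, mul_zero]
  let σ₀ : C → R := fun y => Function.surjInv hs y * (1 - ε)
  have hσ : ∀ x, σ₀ (algebraMap R C x) = x * (1 - ε) := fun x => key _ _ (Function.surjInv_eq hs _)
  have hπσ : ∀ y, algebraMap R C (σ₀ y) = y := fun y => by
    rw [map_mul, Function.surjInv_eq hs, map_sub, map_one, hπε, sub_zero, mul_one]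
  let σ : C →ₗ[R] R :=
    { toFun := σ₀
      map_add' := fun y y' => by
        obtain ⟨x, rfl⟩ := hs y
        obtain ⟨x', rfl⟩ := hs y'
        rw [← map_add, hσ, hσ, hσ, add_mul]
      map_smul' := fun r y => by
        obtain ⟨x, rfl⟩ := hs y
        rw [Algebra.smul_def, ← map_mul, hσ, hσ, RingHom.id_apply, smul_eq_mul, mul_assoc] }
  let : Module R (_root_.Disc.Omega A₁ C) := Module.compHom _ (algebraMap R C)
  have : IsScalarTower R C (_root_.Disc.Omega A₁ C) := IsScalarTower.of_algebraMap_smul fun _ _ => rfl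
  let res : _root_.Disc.Omega A₁ R →ₗ[R] _root_.Disc.Omega A₁ C :=
    { toFun := fun φ => ⟨φ.toLinearMap.comp (σ.restrictScalars A₁)⟩
      map_add' := fun φ ψ => _root_.Disc.Omega.ext (LinearMap.ext fun _ => rfl)
      map_smul' := fun r φ => by
        rw [RingHom.id_apply]
        refine _root_.Disc.Omega.ext (LinearMap.ext fun y => ?_)
        obtain ⟨x, rfl⟩ := hs y
        change φ.toLinearMap (r * σ₀ (algebraMap R C x)) = φ.toLinearMap (σ₀ (algebraMap R C r * algebraMap R C x))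
        rw [← map_mul, hσ, hσ, mul_assoc] }
  let G : C ⊗[R] _root_.Disc.Omega A₁ R →ₗ[C] _root_.Disc.Omega A₁ C := res.liftBaseChange C
  have hr : ∀ ψ : _root_.Disc.Omega A₁ C,
      G ((1 : C) ⊗ₜ[R] ⟨ψ.toLinearMap.comp (IsScalarTower.toAlgHom A₁ R C).toLinearMap⟩) = ψ := fun ψ => by
    simp only [G, LinearMap.liftBaseChange_tmul, one_smul]
    refine _root_.Disc.Omega.ext (LinearMap.ext fun y => ?_)
    change ψ.toLinearMap (algebraMap R C (σ₀ y)) = ψ.toLinearMap y
    rw [hπσ]
  refine ⟨LinearEquiv.ofBijective G ⟨fun z z' h => ?_, fun ψ => ⟨_, hr ψ⟩⟩,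
    fun ψ => (LinearEquiv.symm_apply_eq _).2 (hr ψ).symm⟩
  · let back : _root_.Disc.Omega A₁ C → C ⊗[R] _root_.Disc.Omega A₁ R := fun ψ =>
      (1 : C) ⊗ₜ[R] ⟨ψ.toLinearMap.comp (IsScalarTower.toAlgHom A₁ R C).toLinearMap⟩
    have hb : ∀ z, back (G z) = z := by
      intro z
      obtain ⟨φ, rfl⟩ : ∃ φ, (1 : C) ⊗ₜ[R] φ = z := by
        induction z using TensorProduct.induction_on with
        | zero => exact ⟨0, TensorProduct.tmul_zero _ _⟩
        | tmul c φ =>
            obtain ⟨r, rfl⟩ := hs c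
            exact ⟨r • φ, by rw [TensorProduct.tmul_smul, TensorProduct.smul_tmul', Algebra.smul_def, mul_one]⟩
        | add a b ha hb =>
            obtain ⟨φ, rfl⟩ := ha
            obtain ⟨φ', rfl⟩ := hb
            exact ⟨φ + φ', TensorProduct.tmul_add _ _ _⟩
      have hG : G ((1 : C) ⊗ₜ[R] φ) = res φ := by simp [G]
      rw [hG]
      change (1 : C) ⊗ₜ[R] _ = _
      rw [show (⟨(res φ).toLinearMap.comp (IsScalarTower.toAlgHom A₁ R C).toLinearMap⟩ :
          _root_.Disc.Omega A₁ R) = (1 - ε) • φ from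
        _root_.Disc.Omega.ext (LinearMap.ext fun x => by
          change φ.toLinearMap (σ₀ (algebraMap R C x)) = φ.toLinearMap ((1 - ε) * x)
          rw [hσ, mul_comm]), TensorProduct.tmul_smul, TensorProduct.smul_tmul', Algebra.smul_def,
        map_sub, map_one, hπε, sub_zero, one_mul]
    rw [← hb z, ← hb z', h]

theorem exists_equiv {A₁ R C : Type u} [CommRing A₁] [CommRing R] [IsNoetherianRing R] [CommRing C]
    [Algebra A₁ R] [Algebra A₁ C] [Algebra R C] [IsScalarTower A₁ R C] [Module.Flat R C]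
    (hs : Function.Surjective (algebraMap R C)) :
    Nonempty (C ⊗[R] _root_.Disc.Omega A₁ R ≃ₗ[C] _root_.Disc.Omega A₁ C) :=
  let ⟨_, hε, hker⟩ := exists_idem (R := R) (C := C) hs
  ⟨(exists_equiv_symm hs hε hker).choose⟩

end Groth.Agent.Lib.Disc.QFSplit
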