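import Groth.Agent.Lib.Goren.Artin
import Groth.Agent.Lib.Disc.QFSplit
import Groth.Agent.Lib.Disc.QFOmega
import Mathlib.RingTheory.PicardGroup
import Mathlib.RingTheory.Artinian.Ring
import Mathlib.RingTheory.LocalRing.Module

/-! Gorenstein finite algebras over a field and their dualizing modules. -/

set_option autoImplicit false
set_option linter.style.haveILetI false

universe u

open scoped TensorProduct
open IsLocalRing

namespace Groth.Agent.Lib.Disc.FieldGor

theorem finrank_omega (k C : Type u) [Field k] [CommRing C] [Algebra k C] [Module.Finite k C]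
    (f : C →ₗ[C] _root_.Disc.Omega k C) (hf : Function.Injective f) : Function.Surjective f := by
  let F : C →ₗ[k] Module.Dual k C :=
    { toFun := fun c => (f c).toLinearMap
      map_add' := fun c d => by rw [map_add]; rfl
      map_smul' := fun a c => by
        refine LinearMap.ext fun x => ?_
        rw [Algebra.smul_def, ← smul_eq_mul, map_smul, _root_.Disc.Omega.smul_toLinearMap_apply,
          ← Algebra.smul_def, map_smul]
        rfl }
  have hF : Function.Injective F := fun c d h => hf (_root_.Disc.Omega.ext h)
  have := (LinearMap.injective_iff_surjective_of_finrank_eq_finrank (Subspace.dual_finrank_eq).symm).1 hF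
  intro ω
  obtain ⟨c, hc⟩ := this ω.toLinearMap
  exact ⟨c, _root_.Disc.Omega.ext hc⟩

variable {k C : Type u} [Field k] [CommRing C] [Algebra k C] [Module.Finite k C] [IsLocalRing C]

theorem local_iff : LocCoh.IsGorensteinLocalRing C ↔ Nonempty (C ≃ₗ[C] _root_.Disc.Omega k C) := by
  haveI : IsArtinianRing C := IsArtinianRing.of_finite k C
  rw [Goren.Artin.isGorensteinLocalRing_iff_socle]
  set S := LocCoh.torsionBy (maximalIdeal C) C with hS
  have hmem : ∀ {c : C}, c ∈ S ↔ ∀ m ∈ maximalIdeal C, m * c = 0 := fun {c} => by
    rw [hS]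
    exact (Submodule.mem_torsionBySet_iff _ _).trans
      ⟨fun h m hm => h ⟨m, hm⟩, fun h m => h m m.2⟩
  have hne : ∀ J : Ideal C, J ≠ ⊥ → ∃ s, s ∈ J ∧ s ∈ S ∧ s ≠ 0 := by
    intro J hJ
    obtain ⟨n, hn⟩ := IsArtinianRing.isNilpotent_jacobson_bot (R := C)
    rw [IsLocalRing.jacobson_eq_maximalIdeal ⊥ bot_ne_top] at hn
    obtain ⟨x, hx, hx0⟩ := Submodule.exists_mem_ne_zero_of_ne_bot hJ
    have hex : ∃ i, ∀ y ∈ maximalIdeal C ^ i, y * x = 0 :=
      ⟨n, fun y hy => by rw [hn] at hy; rw [(Submodule.mem_bot C).1 hy, zero_mul]⟩
    classical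
    have hi0 : Nat.find hex ≠ 0 := fun h0 =>
      hx0 (by simpa using Nat.find_spec hex 1 (by rw [h0, pow_zero, Ideal.one_eq_top]; exact Submodule.mem_top))
    obtain ⟨i, hi⟩ := Nat.exists_eq_succ_of_ne_zero hi0
    have := Nat.find_min hex (m := i) (by omega)
    push Not at this
    obtain ⟨y, hy, hyx⟩ := this
    exact ⟨y * x, J.mul_mem_left _ hx, hmem.2 fun m hm => by
      rw [← mul_assoc]
      exact Nat.find_spec hex _ (by rw [hi, pow_succ']; exact Ideal.mul_mem_mul hm hy), hyx⟩
  constructor
  · intro hlen
    have hsimple : IsSimpleModule C S := Module.length_eq_one_iff.1 hlen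
    obtain ⟨s, -, hs, hs0⟩ := hne ⊤ top_ne_bot
    obtain ⟨φ, hφ⟩ : ∃ φ : Module.Dual k C, φ s ≠ 0 := by
      by_contra h
      simp only [not_exists, not_not] at h
      exact hs0 ((Module.forall_dual_apply_eq_zero_iff k s).1 h)
    let f : C →ₗ[C] _root_.Disc.Omega k C := LinearMap.toSpanSingleton C _ ⟨φ⟩
    have hinj : Function.Injective f := by
      rw [← LinearMap.ker_eq_bot]
      by_contra hker
      obtain ⟨y, hy, hyS, hy0⟩ := hne _ hker
      obtain ⟨d, hd⟩ := IsSimpleModule.toSpanSingleton_surjective C
        (m := (⟨y, hyS⟩ : S)) (fun h => hy0 (congrArg Subtype.val h)) ⟨s, hs⟩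
      have hds : s ∈ LinearMap.ker f := by
        rw [show s = d • y from (congrArg Subtype.val hd).symm]
        exact Submodule.smul_mem _ _ hy
      have h1 := congrArg (fun ω : _root_.Disc.Omega k C => ω.toLinearMap 1) (LinearMap.mem_ker.1 hds)
      simp only [f, LinearMap.toSpanSingleton_apply, _root_.Disc.Omega.smul_toLinearMap_apply, mul_one] at h1
      exact hφ (by simpa using h1)
    exact ⟨LinearEquiv.ofBijective f ⟨hinj, finrank_omega k C f hinj⟩⟩
  · rintro ⟨e⟩
    let ω := e 1
    have hω : ∀ c, e c = c • ω := fun c => by rw [← map_smul, smul_eq_mul, mul_one]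
    obtain ⟨s0, -, hs0, hs00⟩ := hne ⊤ top_ne_bot
    haveI : Nontrivial S := ⟨⟨⟨s0, hs0⟩, 0, fun h => hs00 (congrArg Subtype.val h)⟩⟩
    haveI : IsSimpleModule C S := by
      refine isSimpleModule_iff_toSpanSingleton_surjective.2 ⟨inferInstance, fun s hs => ?_⟩
      let F : C →ₗ[k] Module.Dual k C :=
        { toFun := fun c => (c • ω).toLinearMap
          map_add' := fun c d => by rw [add_smul]; rfl
          map_smul' := fun a c => by
            refine LinearMap.ext fun x => ?_
            rw [_root_.Disc.Omega.smul_toLinearMap_apply, Algebra.smul_mul_assoc, map_smul]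
            rfl }
      have hF : Function.Injective F := fun c d h =>
        e.injective (by rw [hω, hω]; exact _root_.Disc.Omega.ext h)
      let V : Submodule k C := S.restrictScalars k
      let M : Submodule k C := (maximalIdeal C).restrictScalars k
      have hann : ∀ c ∈ V, F c ∈ M.dualAnnihilator := fun c hc =>
        (Submodule.mem_dualAnnihilator _).2 fun m hm => by
          change ω.toLinearMap (c * m) = 0
          rw [mul_comm, hmem.1 hc m hm, map_zero]
      have hdim : Module.finrank k V ≤ Module.finrank k (C ⧸ M) := by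
        rw [← Subspace.dual_finrank_eq (K := k) (V := C ⧸ M), ← (Submodule.dualQuotEquivDualAnnihilator M).symm.finrank_eq]
        exact LinearMap.finrank_le_finrank_of_injective (f := (F.comp V.subtype).codRestrict _ fun c => hann c c.2)
          fun c d h => Subtype.ext (hF (congrArg Subtype.val h))
      let g : C →ₗ[k] V :=
        { toFun := fun c => ⟨c * (s : C), S.smul_mem c s.2⟩
          map_add' := fun c d => Subtype.ext (add_mul c d _)
          map_smul' := fun a c => Subtype.ext (Algebra.smul_mul_assoc a c _) }
      have hker : LinearMap.ker g ≤ M := fun c hc => by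
        by_contra hcm
        have hu : IsUnit c := by
          by_contra h
          exact hcm ((IsLocalRing.mem_maximalIdeal c).2 h)
        exact hs (Subtype.ext (hu.mul_right_eq_zero.1 (congrArg Subtype.val (LinearMap.mem_ker.1 hc))))
      have hge : Module.finrank k V ≤ Module.finrank k (LinearMap.range g) := by
        refine hdim.trans ?_
        rw [← (g.quotKerEquivRange).finrank_eq]
        exact (Submodule.mapQ (LinearMap.ker g) M LinearMap.id hker).finrank_le_finrank_of_surjective (fun x => by
          obtain ⟨x, rfl⟩ := Submodule.Quotient.mk_surjective _ x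
          exact ⟨Submodule.Quotient.mk x, rfl⟩)
      have htop : LinearMap.range g = ⊤ :=
        Submodule.eq_top_of_finrank_eq (le_antisymm (Submodule.finrank_le _) hge)
      intro t
      obtain ⟨c, hc⟩ := LinearMap.range_eq_top.1 htop ⟨t, t.2⟩
      exact ⟨c, Subtype.ext (congrArg Subtype.val hc)⟩
    exact Module.length_eq_one C S

/-- A finite algebra over a field is Gorenstein iff its dualizing module is invertible. -/
theorem field_iff {k B : Type u} [Field k] [CommRing B] [Algebra k B] [Module.Finite k B] :
    LocCoh.IsGorensteinRing B ↔ Module.Invertible B (_root_.Disc.Omega k B) := by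
  haveI : IsArtinianRing B := IsArtinianRing.of_finite k B
  haveI : IsNoetherianRing B := inferInstance
  haveI : Module.Finite B (_root_.Disc.Omega k B) := QFOmega.finite_omega k B
  haveI : Module.FinitePresentation B (_root_.Disc.Omega k B) := Module.finitePresentation_of_finite _ _
  have key : ∀ (q : Ideal B) [q.IsPrime],
      LocCoh.IsGorensteinLocalRing (Localization.AtPrime q) ↔
        Nonempty (Localization.AtPrime q ⊗[B] _root_.Disc.Omega k B ≃ₗ[Localization.AtPrime q]
          Localization.AtPrime q) := by
    intro q _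
    have hs : Function.Surjective (algebraMap B (Localization.AtPrime q)) :=
      IsArtinianRing.localization_surjective q.primeCompl _
    haveI : Module.Flat B (Localization.AtPrime q) := IsLocalization.flat _ q.primeCompl
    haveI : Module.Finite k (Localization.AtPrime q) :=
      Module.Finite.of_surjective (IsScalarTower.toAlgHom k B (Localization.AtPrime q)).toLinearMap hs
    obtain ⟨θ⟩ := QFSplit.exists_equiv (A₁ := k) hs
    rw [local_iff (k := k)]
    exact ⟨fun ⟨e⟩ => ⟨θ.trans e.symm⟩, fun ⟨e⟩ => ⟨e.symm.trans θ⟩⟩
  constructor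
  · intro h
    refine Cover.invertible_of_cover fun q hq => ?_
    haveI := hq.isPrime
    obtain ⟨e⟩ := (key q).1 (h.isGorensteinLocalRing_localization q)
    refine ⟨Localization.AtPrime q, inferInstance, inferInstance, IsLocalization.flat _ q.primeCompl, ?_, ⟨e⟩⟩
    exact ne_top_of_le_ne_top (IsLocalRing.maximalIdeal.isMaximal _).ne_top (Ideal.map_le_iff_le_comap.2
      fun b hb => (IsLocalization.AtPrime.to_map_mem_maximal_iff (Localization.AtPrime q) q b).2 hb)
  · intro h
    refine { isGorensteinLocalRing_localization := fun q _ => (key q).2 ?_ }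
    haveI : Module.FinitePresentation (Localization.AtPrime q)
        (Localization.AtPrime q ⊗[B] _root_.Disc.Omega k B) := Module.finitePresentation_of_projective _ _
    exact Module.Invertible.free_iff_linearEquiv.1 Module.free_of_flat_of_isLocalRing

end Groth.Agent.Lib.Disc.FieldGor
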