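import Mathlib.RingTheory.Flat.Localization
import Mathlib.RingTheory.Flat.Stability
import Mathlib.RingTheory.Localization.BaseChange
import Mathlib.RingTheory.Localization.FractionRing
import Mathlib.RingTheory.Ideal.AssociatedPrime.Basic
import Mathlib.RingTheory.Ideal.AssociatedPrime.Finiteness
import Mathlib.RingTheory.Localization.LocalizationLocalization

universe u

namespace Groth.Agent.Lib.Disc

open TensorProduct

variable (A B : Type u) [CommRing A] [CommRing B] [Algebra A B]

/-- The localization of `B` at the image of the nonzerodivisors of `A`. -/
abbrev NzdLoc : Type u := Localization (Algebra.algebraMapSubmonoid B (nonZeroDivisors A))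

lemma flat_fractionRing_tensor_iff :
    Module.Flat (FractionRing A) (FractionRing A ⊗[A] B) ↔ Module.Flat A (NzdLoc A B) := by
  rw [Module.flat_iff_of_isLocalization (FractionRing A) (nonZeroDivisors A)]
  haveI : IsLocalizedModule (nonZeroDivisors A) (TensorProduct.mk A (FractionRing A) B 1) :=
    (isLocalizedModule_iff_isBaseChange (nonZeroDivisors A) (FractionRing A) _).2
      (TensorProduct.isBaseChange A B (FractionRing A))
  haveI : IsLocalizedModule (nonZeroDivisors A) (IsScalarTower.toAlgHom A B (NzdLoc A B)).toLinearMap :=
    isLocalizedModule_iff_isLocalization.2 inferInstance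
  let e := IsLocalizedModule.linearEquiv (nonZeroDivisors A) (TensorProduct.mk A (FractionRing A) B 1)
    (IsScalarTower.toAlgHom A B (NzdLoc A B)).toLinearMap
  exact ⟨fun _ => Module.Flat.of_linearEquiv e.symm, fun _ => Module.Flat.of_linearEquiv e⟩

variable {A B}

/-- If `B_N` is flat over `A` and `M ≥ N`, then `B_M` is flat over `A`. -/
lemma flat_localization_of_le (N M : Submonoid B) (h : N ≤ M) [Module.Flat A (Localization N)] :
    Module.Flat A (Localization M) := by
  letI : Algebra (Localization N) (Localization M) :=
    (IsLocalization.lift (M := N) (g := algebraMap B (Localization M))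
      (fun y => IsLocalization.map_units (Localization M) ⟨y.1, h y.2⟩)).toAlgebra
  haveI : IsScalarTower B (Localization N) (Localization M) :=
    IsScalarTower.of_algebraMap_eq fun x => (IsLocalization.lift_eq _ x).symm
  haveI : IsScalarTower A (Localization N) (Localization M) :=
    IsScalarTower.of_algebraMap_eq fun x => by
      rw [IsScalarTower.algebraMap_apply A B (Localization M), IsScalarTower.algebraMap_apply A B (Localization N)]
      exact IsScalarTower.algebraMap_apply B (Localization N) (Localization M) _
  haveI := IsLocalization.isLocalization_of_submonoid_le (Localization N) (Localization M) N M h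
  haveI : Module.Flat (Localization N) (Localization M) :=
    IsLocalization.flat (Localization M) (M.map (algebraMap B (Localization N)))
  exact Module.Flat.trans A (Localization N) (Localization M)

lemma notMem_nonZeroDivisors_of_mem {R : Type u} [CommRing R] [IsNoetherianRing R] {p : Ideal R}
    (hp : IsAssociatedPrime p R) {x : R} (hx : x ∈ p) : x ∉ nonZeroDivisors R := by
  have h : x ∈ (nonZeroDivisors R : Set R)ᶜ := by
    rw [← biUnion_associatedPrimes_eq_compl_nonZeroDivisors R]
    exact Set.mem_biUnion hp hx
  exact h

lemma le_primeCompl (q : Ideal B) [q.IsPrime]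
    (h : ∀ a ∈ nonZeroDivisors A, algebraMap A B a ∉ q) :
    Algebra.algebraMapSubmonoid B (nonZeroDivisors A) ≤ q.primeCompl := by
  rintro _ ⟨a, ha, rfl⟩
  exact h a ha

end Groth.Agent.Lib.Disc
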