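import Groth.Agent.Lib.Disc.Jacobian
import Groth.Agent.H25.Fitting
import Mathlib.RingTheory.Kaehler.Basic
import Mathlib.Algebra.MvPolynomial.Derivation

/-! The Kähler different of a square presentation. -/

set_option autoImplicit false

universe u

open scoped TensorProduct

namespace Groth.Agent.Lib.Disc.Kaehler

open MvPolynomial Groth.Agent.Lib.Disc.Jacobian

variable {A : Type u} [CommRing A] {B : Type u} [CommRing B] [Algebra A B] {n : ℕ} (P : Pres A B n)

/-- The gradient in `B`. -/
noncomputable def grad : MvPolynomial (Fin n) A →ₗ[A] (Fin n → B) :=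
  LinearMap.pi fun j => P.π.toLinearMap.comp (MvPolynomial.pderiv j).toLinearMap

theorem grad_apply (p : MvPolynomial (Fin n) A) (j : Fin n) :
    grad P p j = P.π (MvPolynomial.pderiv j p) := rfl

/-- The rows of the Jacobian matrix. -/
noncomputable def row (i : Fin n) : Fin n → B := grad P (P.f i)

theorem grad_mul (p q : MvPolynomial (Fin n) A) :
    grad P (p * q) = P.π p • grad P q + P.π q • grad P p := funext fun j => by
  simp only [grad_apply, Pi.add_apply, Pi.smul_apply, smul_eq_mul, (MvPolynomial.pderiv j).leibniz,
    map_add, map_mul]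

theorem grad_mem {p : MvPolynomial (Fin n) A} (hp : P.π p = 0) :
    grad P p ∈ Submodule.span B (Set.range (row P)) := by
  obtain ⟨a, rfl⟩ := Ideal.mem_span_range_iff_exists_fun.1 (P.ker_eq.le hp)
  rw [map_sum]
  refine Submodule.sum_mem _ fun i _ => ?_
  have hfi : P.π (P.f i) = 0 :=
    RingHom.mem_ker.1 (P.ker_eq.ge (Ideal.subset_span (Set.mem_range_self i)))
  rw [grad_mul, hfi, zero_smul, add_zero]
  exact Submodule.smul_mem _ _ (Submodule.subset_span (Set.mem_range_self i))

/-- The universal derivation into the cokernel of the Jacobian matrix. -/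
noncomputable def deriv : Derivation A B ((Fin n → B) ⧸ Submodule.span B (Set.range (row P))) :=
  have key : ∀ p q, P.π p = P.π q →
      Submodule.mkQ (Submodule.span B (Set.range (row P))) (grad P p) =
        Submodule.mkQ (Submodule.span B (Set.range (row P))) (grad P q) := fun p q h =>
    (Submodule.Quotient.eq _).2 (by rw [← map_sub]; exact grad_mem P (by rw [map_sub, h, sub_self]))
  have hs : ∀ b, P.π (Function.surjInv P.surj b) = b := Function.surjInv_eq P.surj
  { toFun := fun b => Submodule.mkQ _ (grad P (Function.surjInv P.surj b))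
    map_add' := fun x y => by
      rw [key _ (Function.surjInv P.surj x + Function.surjInv P.surj y)
        (by rw [map_add, hs, hs, hs]), map_add (grad P), map_add]
    map_smul' := fun a x => by
      rw [key _ (a • Function.surjInv P.surj x) (by rw [map_smul, hs, hs]), map_smul (grad P),
        RingHom.id_apply, LinearMap.map_smul_of_tower]
    map_one_eq_zero' := by
      change Submodule.mkQ _ (grad P (Function.surjInv P.surj 1)) = 0
      rw [key _ 1 (by rw [hs, map_one]),
        show grad P 1 = 0 from funext fun j => by rw [grad_apply, Derivation.map_one_eq_zero, map_zero]; rfl,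
        map_zero]
    leibniz' := fun x y => by
      change Submodule.mkQ _ (grad P (Function.surjInv P.surj (x * y))) =
        x • Submodule.mkQ _ (grad P (Function.surjInv P.surj y)) +
          y • Submodule.mkQ _ (grad P (Function.surjInv P.surj x))
      rw [key _ (Function.surjInv P.surj x * Function.surjInv P.surj y) (by rw [map_mul, hs, hs, hs]),
        grad_mul, hs, hs, map_add, map_smul, map_smul] }

theorem deriv_π (p : MvPolynomial (Fin n) A) :
    deriv P (P.π p) = Submodule.mkQ _ (grad P p) :=
  (Submodule.Quotient.eq _).2 (by
    rw [← map_sub]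
    exact grad_mem P (by rw [map_sub, Function.surjInv_eq P.surj, sub_self]))

theorem D_π (p : MvPolynomial (Fin n) A) :
    KaehlerDifferential.D A B (P.π p) =
      ∑ j, grad P p j • KaehlerDifferential.D A B (P.π (MvPolynomial.X j)) := by
  induction p using MvPolynomial.induction_on with
  | C a =>
      rw [← MvPolynomial.algebraMap_eq, AlgHom.commutes, Derivation.map_algebraMap]
      refine (Finset.sum_eq_zero fun j _ => ?_).symm
      rw [grad_apply, Derivation.map_algebraMap, map_zero, zero_smul]
  | add p q hp hq =>
      rw [map_add, map_add, map_add, hp, hq, ← Finset.sum_add_distrib]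
      simp only [Pi.add_apply, add_smul]
  | mul_X p i hp =>
      rw [map_mul, Derivation.leibniz, hp, grad_mul]
      simp only [Pi.add_apply, Pi.smul_apply, add_smul, smul_eq_mul, mul_smul, Finset.sum_add_distrib,
        ← Finset.smul_sum]
      congr 1
      have : ∀ j, grad P (MvPolynomial.X i) j = if j = i then 1 else 0 := fun j => by
        rw [grad_apply]
        split_ifs with h
        · rw [h, MvPolynomial.pderiv_X_self, map_one]
        · rw [MvPolynomial.pderiv_X_of_ne (Ne.symm h), map_zero]
      simp [this]

theorem span_D : Submodule.span B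
    (Set.range fun j => KaehlerDifferential.D A B (P.π (MvPolynomial.X j))) = ⊤ := by
  rw [eq_top_iff, ← KaehlerDifferential.span_range_derivation A B, Submodule.span_le]
  rintro _ ⟨b, rfl⟩
  obtain ⟨p, rfl⟩ := P.surj b
  rw [SetLike.mem_coe, D_π]
  exact Submodule.sum_mem _ fun j _ => Submodule.smul_mem _ _ (Submodule.subset_span ⟨j, rfl⟩)

theorem rel_eq : H25.Fitting.rel (R := B) (fun j => KaehlerDifferential.D A B (P.π (MvPolynomial.X j))) =
    Submodule.span B (Set.range (row P)) := by
  classical
  refine le_antisymm (fun v hv => ?_) (Submodule.span_le.2 ?_)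
  · have hv' : ∑ j, v j • KaehlerDifferential.D A B (P.π (MvPolynomial.X j)) = 0 := by
      simpa [H25.Fitting.rel, Fintype.linearCombination_apply] using hv
    have h := congrArg (deriv P).liftKaehlerDifferential hv'
    simp only [map_sum, map_smul, map_zero, Derivation.liftKaehlerDifferential_comp_D, deriv_π] at h
    have h2 : Submodule.mkQ (Submodule.span B (Set.range (row P)))
        (∑ j, v j • grad P (MvPolynomial.X j)) = 0 := by
      simpa only [map_sum, map_smul] using h
    rw [Submodule.mkQ_apply, Submodule.Quotient.mk_eq_zero] at h2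
    convert h2 using 1
    refine pi_eq_sum_univ v |>.trans (Finset.sum_congr rfl fun j _ => ?_)
    congr 1
    funext k
    rw [grad_apply]
    split_ifs with hk
    · subst hk; rw [MvPolynomial.pderiv_X_self, map_one]
    · rw [MvPolynomial.pderiv_X_of_ne hk, map_zero]
  · rintro _ ⟨i, rfl⟩
    have hfi : P.π (P.f i) = 0 :=
      RingHom.mem_ker.1 (P.ker_eq.ge (Ideal.subset_span (Set.mem_range_self i)))
    have h := D_π P (P.f i)
    rw [hfi, map_zero] at h
    simpa [H25.Fitting.rel, Fintype.linearCombination_apply, row] using h.symm

theorem fitting_eq : Fitt.ideal B (KaehlerDifferential A B) 0 = Ideal.span {jac P} := by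
  classical
  rw [H25.Fitting.ideal_eq_of_rel _ (span_D P) _ (rel_eq P), Nat.sub_zero]
  have hJ : jac P = (Matrix.of fun i j => grad P (P.f i) j).det := by
    rw [jac, AlgHom.map_det]
    rfl
  apply le_antisymm
  · refine Ideal.span_le.2 ?_
    rintro _ ⟨z, e, hz, rfl⟩
    choose σ hσ using hz
    have h : (Matrix.of fun a b => z b (e a)) =
        ((Matrix.of fun i j => grad P (P.f i) j).submatrix σ e).transpose :=
      Matrix.ext fun a b => by simp [← hσ b, row]
    rw [h, Matrix.det_transpose, SetLike.mem_coe, hJ, Ideal.mem_span_singleton]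
    by_cases hσi : Function.Injective σ
    · by_cases hei : Function.Injective e
      · have hs := (Matrix.of fun i j => grad P (P.f i) j).det_permute' (Equiv.ofBijective e ((Finite.injective_iff_bijective).1 hei))
        have hσb := (Finite.injective_iff_bijective).1 hσi
        rw [show (Matrix.of fun i j => grad P (P.f i) j).submatrix σ e =
          ((Matrix.of fun i j => grad P (P.f i) j).submatrix id (Equiv.ofBijective e ((Finite.injective_iff_bijective).1 hei))).submatrix (Equiv.ofBijective σ hσb) id from rfl,
          Matrix.det_permute, hs]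
        exact Dvd.dvd.mul_left (Dvd.dvd.mul_left dvd_rfl _) _
      · obtain ⟨a, b, hab, hne⟩ : ∃ a b, e a = e b ∧ a ≠ b := by
          simpa [Function.Injective, and_comm] using hei
        rw [show ((Matrix.of fun i j => grad P (P.f i) j).submatrix σ e).det = 0 from
          Matrix.det_zero_of_column_eq hne fun k => by simp [hab]]
        exact dvd_zero _
    · obtain ⟨a, b, hab, hne⟩ : ∃ a b, σ a = σ b ∧ a ≠ b := by
        simpa [Function.Injective, and_comm] using hσi
      rw [show ((Matrix.of fun i j => grad P (P.f i) j).submatrix σ e).det = 0 from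
        Matrix.det_zero_of_row_eq hne (by funext k; simp [hab])]
      exact dvd_zero _
  · rw [Ideal.span_singleton_le_iff_mem, hJ, ← Matrix.det_transpose]
    exact H25.Fitting.det_mem_Mn (row P) id fun b => ⟨b, rfl⟩

end Groth.Agent.Lib.Disc.Kaehler
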