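import Groth.Agent.Lib.Disc.Present
import Groth.Agent.Lib.Disc.Kaehler
import Groth.Agent.Lib.Disc.Different
import Groth.Agent.S6890
import Groth.Agent.S6892
import Mathlib.RingTheory.TensorProduct.Free
import Mathlib.RingTheory.Kaehler.TensorProduct
import Mathlib.RingTheory.Localization.AtPrime.Basic

/-! The different of a finite free syntomic algebra. -/

set_option autoImplicit false

universe u

open scoped TensorProduct

namespace Groth.Agent.Lib.Disc.Global

open Groth.Agent.Lib.Disc.Pairing Groth.Agent.Lib.Disc.Different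

variable {A : Type u} [CommRing A] {B : Type u} [CommRing B] [Algebra A B]

/-- The different as an ideal. -/
noncomputable def diffIdeal (A : Type u) [CommRing A] (B : Type u) [CommRing B] [Algebra A B]
    [Module.Free A B] [Module.Finite A B] : Ideal B where
  carrier := _root_.Disc.differentSet A B
  add_mem' {x y} hx hy φ := by
    obtain ⟨c, hc⟩ := hx φ
    obtain ⟨d, hd⟩ := hy φ
    exact ⟨c + d, fun z => by rw [add_mul, add_mul, map_add, map_add, hc, hd]⟩
  zero_mem' φ := ⟨0, fun z => by simp⟩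
  smul_mem' a x hx φ := by
    obtain ⟨c, hc⟩ := hx (φ.comp (LinearMap.mulLeft A a))
    refine ⟨c, fun z => ?_⟩
    rw [← hc z, smul_eq_mul, mul_assoc]
    rfl

section BaseChange

variable (A' : Type u) [CommRing A'] [Algebra A A']

theorem repr_one_tmul {ι : Type u} [Fintype ι] (b : Module.Basis ι A B) (y : B) (i : ι) :
    ((Algebra.TensorProduct.basis A' b)).repr ((1 : A') ⊗ₜ[A] y) i = algebraMap A A' (b.repr y i) := by
  simp

theorem basis_apply' {ι : Type u} [Fintype ι] (b : Module.Basis ι A B) (i : ι) : (Algebra.TensorProduct.basis A' b) i = (1 : A') ⊗ₜ[A] b i := by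
  simp [Algebra.TensorProduct.basis_apply]

theorem trace_one_tmul {ι : Type u} [Fintype ι] (b : Module.Basis ι A B) (y : B) :
    Algebra.trace A' (A' ⊗[A] B) ((1 : A') ⊗ₜ[A] y) = algebraMap A A' (Algebra.trace A B y) := by
  classical
  rw [Algebra.trace_eq_matrix_trace (Algebra.TensorProduct.basis A' b), Algebra.trace_eq_matrix_trace b, Matrix.trace, Matrix.trace,
    map_sum]
  refine Finset.sum_congr rfl fun i _ => ?_
  rw [Matrix.diag_apply, Matrix.diag_apply, Algebra.leftMulMatrix_eq_repr_mul,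
    Algebra.leftMulMatrix_eq_repr_mul, basis_apply', Algebra.TensorProduct.tmul_mul_tmul, one_mul,
    repr_one_tmul]

theorem image_mem [Module.Free A B] [Module.Finite A B] {x : B}
    (hx : x ∈ _root_.Disc.differentSet A B) :
    (1 : A') ⊗ₜ[A] x ∈ _root_.Disc.differentSet A' (A' ⊗[A] B) := by
  intro ψ
  let b := Module.Free.chooseBasis A B
  choose c hc using fun i => hx (b.coord i)
  refine ⟨∑ i, ψ (Algebra.TensorProduct.basis A' b i) • ((1 : A') ⊗ₜ[A] c i), ?_⟩
  suffices h : ψ.comp (LinearMap.mulLeft A' ((1 : A') ⊗ₜ[A] x)) =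
      (Algebra.trace A' (A' ⊗[A] B)).comp (LinearMap.mulLeft A'
        (∑ i, ψ (Algebra.TensorProduct.basis A' b i) • ((1 : A') ⊗ₜ[A] c i))) from
    fun z => LinearMap.congr_fun h z
  refine (Algebra.TensorProduct.basis A' b).ext fun j => ?_
  simp only [LinearMap.comp_apply, LinearMap.mulLeft_apply]
  conv_lhs => rw [← (Algebra.TensorProduct.basis A' b).sum_repr ((1 : A') ⊗ₜ[A] x *
    Algebra.TensorProduct.basis A' b j)]
  rw [map_sum, Finset.sum_mul, map_sum]
  refine Finset.sum_congr rfl fun i _ => ?_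
  rw [map_smul, smul_mul_assoc, map_smul, smul_eq_mul, smul_eq_mul, mul_comm, basis_apply' A' b j,
    Algebra.TensorProduct.tmul_mul_tmul, Algebra.TensorProduct.tmul_mul_tmul, one_mul, repr_one_tmul,
    trace_one_tmul A' b, ← hc i (b j)]
  rfl

theorem eq_zero_of_one_tmul {ι : Type u} [Fintype ι] (b : Module.Basis ι A B) (S : Submonoid A) [IsLocalization S A'] {y : B}
    (hy : (1 : A') ⊗ₜ[A] y = 0) : ∃ s ∈ S, s • y = 0 := by
  classical
  have h : ∀ i, ∃ s : S, (s : A) * b.repr y i = 0 := fun i => by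
    refine (IsLocalization.map_eq_zero_iff S A' _).1 ?_
    rw [← repr_one_tmul A' b, hy, map_zero, Finsupp.zero_apply]
  choose s hs using h
  refine ⟨∏ i, (s i : A), Submonoid.prod_mem _ fun i _ => (s i).2, b.ext_elem fun i => ?_⟩
  rw [map_smul, Finsupp.smul_apply, smul_eq_mul, map_zero, Finsupp.zero_apply,
    ← Finset.prod_erase_mul _ _ (Finset.mem_univ i), mul_assoc, hs, mul_zero]

theorem exists_smul_eq (S : Submonoid A) [IsLocalization S A'] (z : A' ⊗[A] B) :
    ∃ s ∈ S, ∃ y : B, s • z = (1 : A') ⊗ₜ[A] y := by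
  induction z using TensorProduct.induction_on with
  | zero => exact ⟨1, S.one_mem, 0, by simp⟩
  | tmul a y =>
      obtain ⟨⟨u, s⟩, h⟩ := IsLocalization.surj S a
      refine ⟨s, s.2, u • y, ?_⟩
      rw [TensorProduct.smul_tmul', TensorProduct.tmul_smul, TensorProduct.smul_tmul']
      congr 1
      rw [Algebra.smul_def, Algebra.smul_def, mul_one, mul_comm]
      exact h
  | add z w hz hw =>
      obtain ⟨s, hs, y, hy⟩ := hz
      obtain ⟨t, ht, y', hy'⟩ := hw
      refine ⟨s * t, S.mul_mem hs ht, t • y + s • y', ?_⟩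
      rw [smul_add, TensorProduct.tmul_add, TensorProduct.tmul_smul, TensorProduct.tmul_smul, ← hy, ← hy',
        smul_smul, smul_smul, mul_comm t s]

theorem exists_smul_mem (S : Submonoid A) [IsLocalization S A'] [Module.Free A B] [Module.Finite A B]
    {x : B} (hx : (1 : A') ⊗ₜ[A] x ∈ _root_.Disc.differentSet A' (A' ⊗[A] B)) :
    ∃ s ∈ S, s • x ∈ _root_.Disc.differentSet A B := by
  classical
  let b := Module.Free.chooseBasis A B
  have h : ∀ i, ∃ s ∈ S, ∃ c : B, ∀ y : B, s * b.coord i (x * y) = Algebra.trace A B (c * y) := by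
    intro i
    obtain ⟨c', hc'⟩ := hx ((Algebra.TensorProduct.basis A' b).coord i)
    obtain ⟨s, hs, c, hc⟩ := exists_smul_eq A' S c'
    have h1 : ∀ j, algebraMap A A' (s * b.coord i (x * b j)) =
        algebraMap A A' (Algebra.trace A B (c * b j)) := by
      intro j
      have e1 : (1 : A') ⊗ₜ[A] x * Algebra.TensorProduct.basis A' b j = (1 : A') ⊗ₜ[A] (x * b j) := by
        rw [basis_apply', Algebra.TensorProduct.tmul_mul_tmul, one_mul]
      have e2 : s • c' * Algebra.TensorProduct.basis A' b j = (1 : A') ⊗ₜ[A] (c * b j) := by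
        rw [hc, basis_apply', Algebra.TensorProduct.tmul_mul_tmul, one_mul]
      rw [map_mul, Module.Basis.coord_apply, ← repr_one_tmul A' b, ← trace_one_tmul A' b, ← e1, ← e2,
        smul_mul_assoc, ← Module.Basis.coord_apply, hc', ← Algebra.smul_def,
        LinearMap.map_smul_of_tower]
    choose t ht using fun j => (IsLocalization.eq_iff_exists S A').1 (h1 j)
    refine ⟨(∏ j, (t j : A)) * s, S.mul_mem (Submonoid.prod_mem _ fun j _ => (t j).2) hs,
      (∏ j, (t j : A)) • c, fun y => ?_⟩
    suffices h : ((∏ j, (t j : A)) * s) • (b.coord i).comp (LinearMap.mulLeft A x) =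
        (Algebra.trace A B).comp (LinearMap.mulLeft A ((∏ j, (t j : A)) • c)) from
      LinearMap.congr_fun h y
    refine b.ext fun j => ?_
    simp only [LinearMap.smul_apply, LinearMap.comp_apply, LinearMap.mulLeft_apply, smul_mul_assoc,
      map_smul, smul_eq_mul]
    rw [← Finset.prod_erase_mul _ _ (Finset.mem_univ j), mul_assoc, mul_assoc, mul_assoc, ht j]
  choose s hs c hc using h
  refine ⟨∏ i, s i, Submonoid.prod_mem _ fun i _ => hs i, fun φ =>
    ⟨∑ i, (φ (b i) * ∏ k ∈ Finset.univ.erase i, s k) • c i, fun y => ?_⟩⟩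
  rw [smul_mul_assoc, map_smul, smul_eq_mul, Finset.sum_mul, map_sum]
  conv_lhs => rw [← b.sum_repr (x * y), map_sum, Finset.mul_sum]
  refine Finset.sum_congr rfl fun i _ => ?_
  rw [smul_mul_assoc, map_smul, map_smul, smul_eq_mul, smul_eq_mul, ← hc i y, Module.Basis.coord_apply,
    ← Finset.prod_erase_mul _ _ (Finset.mem_univ i)]
  ring

theorem exists_smul_mem_of_map (S : Submonoid A) [IsLocalization S A'] [Module.Free A B] [Module.Finite A B]
    (J : Ideal B) {x : B} (hx : (1 : A') ⊗ₜ[A] x ∈ J.map (Algebra.TensorProduct.includeRight : B →ₐ[A] A' ⊗[A] B)) :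
    ∃ s ∈ S, s • x ∈ J := by
  classical
  have key : ∀ z ∈ J.map (Algebra.TensorProduct.includeRight : B →ₐ[A] A' ⊗[A] B),
      ∃ s ∈ S, ∃ y ∈ J, s • z = (1 : A') ⊗ₜ[A] y := by
    intro z hz
    induction hz using Submodule.span_induction with
    | mem z hz => obtain ⟨y, hy, rfl⟩ := hz; exact ⟨1, S.one_mem, y, hy, one_smul _ _⟩
    | zero => exact ⟨1, S.one_mem, 0, J.zero_mem, by simp⟩
    | add z w _ _ hz hw =>
        obtain ⟨s, hs, y, hyJ, hy⟩ := hz
        obtain ⟨t, ht, y', hyJ', hy'⟩ := hw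
        refine ⟨s * t, S.mul_mem hs ht, t • y + s • y',
          add_mem (Submodule.smul_of_tower_mem J t hyJ) (Submodule.smul_of_tower_mem J s hyJ'), ?_⟩
        rw [smul_add, TensorProduct.tmul_add, TensorProduct.tmul_smul, TensorProduct.tmul_smul, ← hy, ← hy',
          smul_smul, smul_smul, mul_comm t s]
    | smul r z _ hz =>
        obtain ⟨s, hs, y, hyJ, hy⟩ := hz
        obtain ⟨t, ht, r', hr'⟩ := exists_smul_eq A' S r
        refine ⟨t * s, S.mul_mem ht hs, r' * y, J.mul_mem_left _ hyJ, ?_⟩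
        rw [smul_eq_mul, ← smul_mul_smul_comm, hr', hy, Algebra.TensorProduct.tmul_mul_tmul, one_mul]
  obtain ⟨s, hs, y, hyJ, hy⟩ := key _ hx
  rw [← TensorProduct.tmul_smul] at hy
  obtain ⟨t, ht, ht'⟩ := eq_zero_of_one_tmul A' (Module.Free.chooseBasis A B) S (y := s • x - y)
    (by rw [TensorProduct.tmul_sub, hy, sub_self])
  refine ⟨t * s, S.mul_mem ht hs, ?_⟩
  rw [mul_smul, ← sub_add_cancel (s • x) y, smul_add, ht', zero_add]
  exact Submodule.smul_of_tower_mem J t hyJ

end BaseChange

theorem isSquare_baseChange [Module.Finite A B] [Module.Free A B] [Algebra.FinitePresentation A B]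
    (A' k : Type u) [CommRing A'] [IsLocalRing A'] [Algebra A A'] [Field k] [Algebra A k] [Algebra A' k]
    [IsScalarTower A A' k] (hk : Function.Surjective (algebraMap A' k))
    (hker : RingHom.ker (algebraMap A' k) = IsLocalRing.maximalIdeal A')
    (h : Synt.IsLCIOver k (k ⊗[A] B)) : Square.IsSquare A' (A' ⊗[A] B) := by
  refine Present.isSquare_of_fiber hk hker (Algebra.TensorProduct.map (Algebra.ofId A' k) (AlgHom.id A B))
    (Algebra.TensorProduct.map_surjective _ _ hk Function.surjective_id) ?_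
    (Present.isSquare_of_isLCIOver h)
  rw [Algebra.TensorProduct.rTensor_ker (Algebra.ofId A' k) hk,
    show RingHom.ker (Algebra.ofId A' k) = IsLocalRing.maximalIdeal A' from hker]
  rfl

theorem fitting_baseChange [Algebra.FiniteType A B] (A' : Type u) [CommRing A'] [Algebra A A'] :
    Fitt.ideal (A' ⊗[A] B) (KaehlerDifferential A' (A' ⊗[A] B)) 0 =
      (Fitt.ideal B (KaehlerDifferential A B) 0).map
        (Algebra.TensorProduct.includeRight : B →ₐ[A] A' ⊗[A] B) := by
  let := Algebra.TensorProduct.rightAlgebra (R := A) (A := A') (B := B)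
  let e := KaehlerDifferential.tensorKaehlerEquiv A A' B (A' ⊗[A] B)
  haveI : Module.Finite (A' ⊗[A] B) (KaehlerDifferential A' (A' ⊗[A] B)) := Module.Finite.equiv e
  refine Eq.trans ?_ (Groth.Agent.S6890.result (R := B) (R' := A' ⊗[A] B) (KaehlerDifferential A B) 0)
  exact le_antisymm
    ((Groth.Agent.S6892.result _ _ 0).2.2 e.symm.toLinearMap e.symm.surjective)
    ((Groth.Agent.S6892.result _ _ 0).2.2 e.toLinearMap e.surjective)

theorem differentSet_baseChange [Module.Finite A B] [Module.Free A B] [Algebra.FinitePresentation A B]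
    (A' k : Type u) [CommRing A'] [IsLocalRing A'] [Algebra A A'] [Field k] [Algebra A k] [Algebra A' k]
    [IsScalarTower A A' k] (hk : Function.Surjective (algebraMap A' k))
    (hker : RingHom.ker (algebraMap A' k) = IsLocalRing.maximalIdeal A')
    (h : Synt.IsLCIOver k (k ⊗[A] B)) :
    _root_.Disc.differentSet A' (A' ⊗[A] B) =
      (((Fitt.ideal B (KaehlerDifferential A B) 0).map
        (Algebra.TensorProduct.includeRight : B →ₐ[A] A' ⊗[A] B)) : Set (A' ⊗[A] B)) := by
  obtain ⟨n, ⟨P⟩⟩ := isSquare_baseChange (B := B) A' k hk hker h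
  rw [Jacobian.differentSet_eq P, ← Kaehler.fitting_eq P, fitting_baseChange]

theorem differentSet_eq_fitting [Module.Finite A B] [Module.Free A B] (h : Synt.IsSyntomic A B) :
    _root_.Disc.differentSet A B = (Fitt.ideal B (KaehlerDifferential A B) 0 : Set B) := by
  classical
  obtain ⟨-, hfp, hfib⟩ := h
  haveI := hfp
  set J := Fitt.ideal B (KaehlerDifferential A B) 0
  have loc : ∀ (p : Ideal A) [p.IsMaximal],
      _root_.Disc.differentSet (Localization.AtPrime p) (Localization.AtPrime p ⊗[A] B) =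
        ((J.map (Algebra.TensorProduct.includeRight :
          B →ₐ[A] Localization.AtPrime p ⊗[A] B)) : Set (Localization.AtPrime p ⊗[A] B)) := fun p _ =>
    differentSet_baseChange (Localization.AtPrime p) p.ResidueField IsLocalRing.residue_surjective
      IsLocalRing.ker_residue (hfib ⟨p, inferInstance⟩)
  have glue : ∀ (I : Ideal B) (x : B),
      (∀ (p : Ideal A) [p.IsMaximal], ∃ s ∈ p.primeCompl, s • x ∈ I) → x ∈ I := by
    intro I x hx
    suffices htop : (I.restrictScalars A).colon {x} = ⊤ by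
      simpa [Submodule.mem_colon_singleton] using (Ideal.eq_top_iff_one _).1 htop
    by_contra hne
    obtain ⟨p, hp, hle⟩ := Ideal.exists_le_maximal _ hne
    obtain ⟨s, hs, hsx⟩ := hx p
    exact hs (hle (Submodule.mem_colon_singleton.2 hsx))
  refine Set.Subset.antisymm (fun x hx => glue J x fun p _ => ?_) (fun x hx => glue (diffIdeal A B) x fun p _ => ?_)
  · exact exists_smul_mem_of_map _ p.primeCompl J ((loc p).le (image_mem _ hx))
  · exact exists_smul_mem _ p.primeCompl ((loc p).ge (Ideal.mem_map_of_mem _ hx))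

end Groth.Agent.Lib.Disc.Global
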