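import Groth.Agent.Lib.Disc.Pairing
import Groth.Agent.Lib.Wiebe.Bridge
import Groth.Agent.Lib.Synt92.GCIBasic
import Groth.Agent.Lib.Synt92.KoszulLocal
import Groth.Agent.S9254
import Mathlib.RingTheory.QuasiFinite.Basic
import Mathlib.RingTheory.Ideal.AssociatedPrime.Localization
import Mathlib.Algebra.MvPolynomial.PDeriv

/-! The diagonal of a quasi-finite square complete intersection. -/

set_option autoImplicit false

universe u

open scoped TensorProduct

namespace Groth.Agent.Lib.Disc.Jacobian

open MvPolynomial Groth.Agent.Lib.Wiebe Groth.Agent.Lib.Wiebe.Link Groth.Agent.Lib.Disc.Pairing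

variable {A : Type u} [CommRing A] {n : ℕ}


theorem dim_of_artinian (S : Type u) [CommRing S] [Nontrivial S] [IsArtinianRing S] :
    ringKrullDim S = 0 :=
  ringKrullDimZero_iff_ringKrullDim_eq_zero.1 ((isArtinianRing_iff_krullDimLE_zero (R := S)).1 inferInstance)

theorem fiber_dim_zero {R : Type u} [CommRing R] {n : ℕ} (F : Fin n → MvPolynomial (Fin n) R)
    [Algebra.QuasiFinite R (MvPolynomial (Fin n) R ⧸ Ideal.span (Set.range F))] :
    Synt.IsRelGCI R n n F := by
  intro p hp
  refine ⟨le_rfl, ?_⟩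
  haveI : IsArtinianRing (p.asIdeal.Fiber (MvPolynomial (Fin n) R ⧸ Ideal.span (Set.range F))) :=
    inferInstance
  rw [Nat.sub_self, Nat.cast_zero]
  exact dim_of_artinian (p.asIdeal.Fiber (MvPolynomial (Fin n) R ⧸ Ideal.span (Set.range F)))

theorem acyc {R : Type u} [CommRing R] {n : ℕ} (F : Fin n → MvPolynomial (Fin n) R)
    (h : Synt.IsRelGCI R n n F) : Acyc F :=
  Bridge.acyc_of_isKoszulRegularSeq F (Groth.Agent.S9254.result R n n F h)

/-- The equations with coefficients in an algebra. -/
noncomputable abbrev Fmap (f : Fin n → MvPolynomial (Fin n) A) (L : Type u) [CommRing L] [Algebra A L] :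
    Fin n → MvPolynomial (Fin n) L := fun i => MvPolynomial.map (algebraMap A L) (f i)

/-- A square presentation `B = A[x_1, …, x_n]/(f_1, …, f_n)`. -/
structure Pres (A : Type u) [CommRing A] (B : Type u) [CommRing B] [Algebra A B] (n : ℕ) where
  f : Fin n → MvPolynomial (Fin n) A
  π : MvPolynomial (Fin n) A →ₐ[A] B
  surj : Function.Surjective π
  ker_eq : RingHom.ker π = Ideal.span (Set.range f)

variable {B : Type u} [CommRing B] [Algebra A B] (P : Pres A B n)

/-- The left factor. -/
noncomputable def leftHom (L : Type u) [CommRing L] [Algebra A L] :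
    B →ₐ[A] MvPolynomial (Fin n) L ⧸ Ideal.span (Set.range (Fmap P.f L)) :=
  (Ideal.Quotient.liftₐ _
    ((Ideal.Quotient.mkₐ A _).comp (MvPolynomial.mapAlgHom (Algebra.ofId A L))) (fun a ha => by
      rw [AlgHom.comp_apply, Ideal.Quotient.mkₐ_eq_mk, Ideal.Quotient.eq_zero_iff_mem]
      rw [P.ker_eq] at ha
      have h := Ideal.mem_map_of_mem (MvPolynomial.mapAlgHom (σ := Fin n) (Algebra.ofId A L)) ha
      rw [Ideal.map_span, ← Set.range_comp] at h
      exact h)).comp (Ideal.quotientKerAlgEquivOfSurjective P.surj).symm.toAlgHom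

theorem leftHom_apply (L : Type u) [CommRing L] [Algebra A L] (p : MvPolynomial (Fin n) A) :
    leftHom P L (P.π p) = Ideal.Quotient.mk _ (MvPolynomial.map (algebraMap A L) p) := by
  have h : (Ideal.quotientKerAlgEquivOfSurjective P.surj).symm (P.π p) =
      Ideal.Quotient.mk (RingHom.ker P.π) p :=
    (AlgEquiv.symm_apply_eq _).2 rfl
  rw [leftHom, AlgHom.comp_apply]
  erw [h]
  rfl

theorem quasiFinite_baseChange [Algebra.QuasiFinite A B] (L : Type u) [CommRing L] [Algebra A L] :
    Algebra.QuasiFinite L (MvPolynomial (Fin n) L ⧸ Ideal.span (Set.range (Fmap P.f L))) := by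
  let φ : L ⊗[A] B →ₐ[L] MvPolynomial (Fin n) L ⧸ Ideal.span (Set.range (Fmap P.f L)) :=
    Algebra.TensorProduct.lift (Algebra.ofId L _) (leftHom P L) fun _ _ => Commute.all _ _
  refine Algebra.QuasiFinite.of_surjective_algHom φ fun z => ?_
  obtain ⟨p, rfl⟩ := Ideal.Quotient.mk_surjective z
  induction p using MvPolynomial.induction_on with
  | C a => exact φ.range.algebraMap_mem a
  | add p q hp hq =>
      obtain ⟨a, ha⟩ := hp
      obtain ⟨b, hb⟩ := hq
      exact ⟨a + b, by rw [map_add, ha, hb, map_add]⟩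
  | mul_X p i hp =>
      obtain ⟨a, ha⟩ := hp
      refine ⟨a * (1 : L) ⊗ₜ[A] P.π (MvPolynomial.X i), ?_⟩
      rw [map_mul, ha, map_mul]
      congr 1
      rw [Algebra.TensorProduct.lift_tmul, map_one, one_mul, leftHom_apply, MvPolynomial.map_X]

/-- The diagonal equations. -/
noncomputable abbrev diag {L : Type u} [CommRing L] (x : Fin n → L) : Fin n → MvPolynomial (Fin n) L :=
  fun i => MvPolynomial.X i - MvPolynomial.C (x i)

theorem sub_C_eval_mem {L : Type u} [CommRing L] (x : Fin n → L) (p : MvPolynomial (Fin n) L) :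
    p - MvPolynomial.C (MvPolynomial.eval x p) ∈ Ideal.span (Set.range (diag x)) := by
  induction p using MvPolynomial.induction_on with
  | C a => simp
  | add p q hp hq =>
      rw [map_add, map_add, add_sub_add_comm]
      exact add_mem hp hq
  | mul_X p i hp =>
      rw [map_mul, map_mul, MvPolynomial.eval_X,
        show p * MvPolynomial.X i - MvPolynomial.C (MvPolynomial.eval x p) * MvPolynomial.C (x i) =
          (p - MvPolynomial.C (MvPolynomial.eval x p)) * MvPolynomial.X i +
            MvPolynomial.C (MvPolynomial.eval x p) * diag x i by simp only [diag]; ring]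
      exact add_mem (Ideal.mul_mem_right _ _ hp) (Ideal.mul_mem_left _ _ (Ideal.subset_span ⟨i, rfl⟩))

theorem ker_eval {L : Type u} [CommRing L] (x : Fin n → L) :
    RingHom.ker (MvPolynomial.eval x) = Ideal.span (Set.range (diag x)) := by
  refine le_antisymm (fun p hp => ?_) (Ideal.span_le.2 ?_)
  · have h := sub_C_eval_mem x p
    rwa [RingHom.mem_ker.1 hp, map_zero, sub_zero] at h
  · rintro _ ⟨i, rfl⟩
    simp [diag]

theorem exists_matrix {L : Type u} [CommRing L] (x : Fin n → L) (F : Fin n → MvPolynomial (Fin n) L)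
    (hF : ∀ i, MvPolynomial.eval x (F i) = 0) :
    ∃ c : Matrix (Fin n) (Fin n) (MvPolynomial (Fin n) L), (∀ i, F i = ∑ j, c i j * diag x j) ∧
      ∀ i k, MvPolynomial.eval x (c i k) = MvPolynomial.eval x (MvPolynomial.pderiv k (F i)) := by
  classical
  have h : ∀ i, F i ∈ Ideal.span (Set.range (diag x)) := fun i => ker_eval x ▸ hF i
  choose c hc using fun i => Ideal.mem_span_range_iff_exists_fun.1 (h i)
  refine ⟨Matrix.of c, fun i => (hc i).symm, fun i k => ?_⟩
  conv_rhs => rw [← hc i, map_sum, map_sum]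
  rw [Finset.sum_eq_single k]
  · simp [diag]
  · intro j _ hj
    simp [diag, MvPolynomial.pderiv_X_of_ne hj]
  · simp

/-- The annihilator of the image of `(g)` modulo `(F)`. -/
theorem annihilator_span_image {Q R : Type u} [CommRing Q] [CommRing R] {n : ℕ}
    (F g : Fin n → Q) (c : Matrix (Fin n) (Fin n) Q) (hc : ∀ i, F i = ∑ j, c i j * g j)
    (hF : Acyc F) (μ : Q →+* R) (hμ : Function.Surjective μ)
    (hker : RingHom.ker μ = Ideal.span (Set.range F)) :
    Submodule.annihilator (Ideal.map μ (Ideal.span (Set.range g))) = Ideal.span {μ c.det} := by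
  rw [Ideal.map_span]
  apply le_antisymm
  · intro r hr
    obtain ⟨y, rfl⟩ := hμ r
    have hy : ∀ j, y * g j ∈ Ideal.span (Set.range F) := by
      intro j
      rw [← hker, RingHom.mem_ker, map_mul]
      exact (Submodule.mem_annihilator.1 hr) _ (Ideal.subset_span ⟨g j, ⟨j, rfl⟩, rfl⟩)
    obtain ⟨a, ha, b, hb, hab⟩ := Submodule.mem_sup.1 (Link.mem_of_mul_mem F g c hc hF hy)
    rw [← hker, RingHom.mem_ker] at hb
    obtain ⟨t, rfl⟩ := Ideal.mem_span_singleton'.1 ha
    rw [← hab, map_add, hb, add_zero, map_mul]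
    exact Ideal.mul_mem_left _ _ (Ideal.mem_span_singleton_self _)
  · rw [Ideal.span_le, Set.singleton_subset_iff, SetLike.mem_coe, Submodule.mem_annihilator_span]
    rintro ⟨_, _, ⟨j, rfl⟩, rfl⟩
    rw [smul_eq_mul, ← map_mul, ← RingHom.mem_ker, hker]
    have h : c.det • g = Matrix.mulVec c.adjugate F := by
      have hF' : F = Matrix.mulVec c g := funext fun i => by rw [hc i]; rfl
      rw [hF', Matrix.mulVec_mulVec, Matrix.adjugate_mul, Matrix.smul_mulVec, Matrix.one_mulVec]
    have hj := congr_fun h j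
    rw [Pi.smul_apply, smul_eq_mul] at hj
    rw [hj]
    change ∑ i, c.adjugate j i * F i ∈ Ideal.span (Set.range F)
    exact Ideal.sum_mem _ fun i _ => Ideal.mul_mem_left _ _ (Ideal.subset_span (Set.mem_range_self i))

section

local notation3 "pt" => fun i => P.π (MvPolynomial.X i)

/-- `B[x] → B ⊗ B`. -/
noncomputable def mu : MvPolynomial (Fin n) B →+* B ⊗[A] B :=
  MvPolynomial.eval₂Hom (Algebra.TensorProduct.includeRight : B →ₐ[A] B ⊗[A] B).toRingHom
    (fun i => P.π (MvPolynomial.X i) ⊗ₜ[A] (1 : B))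

theorem mu_C (y : B) : mu P (MvPolynomial.C y) = (1 : B) ⊗ₜ[A] y := by simp [mu]

theorem mu_map (p : MvPolynomial (Fin n) A) :
    mu P (MvPolynomial.map (algebraMap A B) p) = P.π p ⊗ₜ[A] (1 : B) := by
  induction p using MvPolynomial.induction_on with
  | C a =>
      rw [MvPolynomial.map_C, mu_C, ← MvPolynomial.algebraMap_eq, P.π.commutes]
      exact ((Algebra.TensorProduct.includeRight : B →ₐ[A] B ⊗[A] B).commutes a).trans
        ((Algebra.TensorProduct.includeLeft : B →ₐ[A] B ⊗[A] B).commutes a).symm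
  | add p q hp hq => rw [map_add, map_add, hp, hq, map_add, TensorProduct.add_tmul]
  | mul_X p i hp =>
      rw [map_mul, map_mul, hp, MvPolynomial.map_X, map_mul]
      simp [mu]

theorem mu_surjective : Function.Surjective (mu P) := by
  intro z
  induction z using TensorProduct.induction_on with
  | zero => exact ⟨0, map_zero _⟩
  | tmul a b =>
      obtain ⟨p, rfl⟩ := P.surj a
      refine ⟨MvPolynomial.map (algebraMap A B) p * MvPolynomial.C b, ?_⟩
      rw [map_mul, mu_map, mu_C, Algebra.TensorProduct.tmul_mul_tmul, mul_one, one_mul]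
  | add x y hx hy =>
      obtain ⟨x, rfl⟩ := hx
      obtain ⟨y, rfl⟩ := hy
      exact ⟨x + y, map_add _ _ _⟩

theorem ker_mu : RingHom.ker (mu P) = Ideal.span (Set.range (Fmap P.f B)) := by
  refine le_antisymm (fun p hp => ?_) (Ideal.span_le.2 ?_)
  · let ν : B ⊗[A] B →ₐ[A] MvPolynomial (Fin n) B ⧸ Ideal.span (Set.range (Fmap P.f B)) :=
      Algebra.TensorProduct.lift (leftHom P B) ((Ideal.Quotient.mkₐ A _).comp
        (IsScalarTower.toAlgHom A B (MvPolynomial (Fin n) B))) fun _ _ => Commute.all _ _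
    have h : ν.toRingHom.comp (mu P) = Ideal.Quotient.mk _ := by
      refine MvPolynomial.ringHom_ext (fun r => ?_) fun i => ?_
      · change ν (mu P (MvPolynomial.C r)) = _
        rw [mu_C]
        simp [ν]
      · simp [ν, mu, leftHom_apply]
    rw [← Ideal.Quotient.eq_zero_iff_mem, ← h]
    change ν (mu P p) = 0
    rw [RingHom.mem_ker.1 hp, map_zero]
  · rintro _ ⟨i, rfl⟩
    rw [SetLike.mem_coe, RingHom.mem_ker, mu_map,
      RingHom.mem_ker.1 (P.ker_eq.ge (Ideal.subset_span (Set.mem_range_self i))), TensorProduct.zero_tmul]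

theorem lmul_mu (p : MvPolynomial (Fin n) B) :
    Algebra.TensorProduct.lmul' (S := B) A (mu P p) = MvPolynomial.eval pt p := by
  have h : (Algebra.TensorProduct.lmul' (S := B) A).toRingHom.comp (mu P) = MvPolynomial.eval pt := by
    refine MvPolynomial.ringHom_ext (fun r => ?_) fun i => ?_
    · change Algebra.TensorProduct.lmul' (S := B) A (mu P (MvPolynomial.C r)) = _
      rw [mu_C]; simp
    · simp [mu]
  exact RingHom.congr_fun h p

theorem eval_map (p : MvPolynomial (Fin n) A) :
    MvPolynomial.eval pt (MvPolynomial.map (algebraMap A B) p) = P.π p := by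
  rw [← lmul_mu, mu_map, Algebra.TensorProduct.lmul'_apply_tmul, mul_one]

/-- The Jacobian determinant in `B`. -/
noncomputable def jac : B :=
  P.π (Matrix.det (Matrix.of fun i j => MvPolynomial.pderiv j (P.f i)))

variable [Algebra.QuasiFinite A B]

theorem exists_delta : ∃ c : Matrix (Fin n) (Fin n) (MvPolynomial (Fin n) B),
    (∀ i, Fmap P.f B i = ∑ j, c i j * diag pt j) ∧ annI A B = Ideal.span {mu P c.det} ∧
      Algebra.TensorProduct.lmul' (S := B) A (mu P c.det) = jac P := by
  obtain ⟨c, hc, hd⟩ := exists_matrix pt (Fmap P.f B) fun i => by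
    rw [eval_map]
    exact P.ker_eq.ge (Ideal.subset_span (Set.mem_range_self i))
  refine ⟨c, hc, ?_, ?_⟩
  · have hI : RingHom.ker (Algebra.TensorProduct.lmul' (S := B) A) =
        Ideal.map (mu P) (Ideal.span (Set.range (diag pt))) := by
      rw [← ker_eval]
      have : RingHom.ker (MvPolynomial.eval pt) =
          (RingHom.ker (Algebra.TensorProduct.lmul' (S := B) A)).comap (mu P) := by
        ext p
        rw [RingHom.mem_ker, Ideal.mem_comap, RingHom.mem_ker, lmul_mu]
      rw [this, Ideal.map_comap_of_surjective _ (mu_surjective P)]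
    haveI := quasiFinite_baseChange P B
    rw [annI, hI]
    exact annihilator_span_image _ _ c hc (acyc _ (fiber_dim_zero _)) (mu P) (mu_surjective P) (ker_mu P)
  · rw [lmul_mu, jac, RingHom.map_det, AlgHom.map_det]
    congr 1
    ext i k
    simp only [RingHom.mapMatrix_apply, AlgHom.mapMatrix_apply, Matrix.map_apply, Matrix.of_apply]
    rw [hd, Fmap, MvPolynomial.pderiv_map, eval_map]

/-- S2210, second part. -/
theorem noetherDifferent_eq : _root_.Disc.noetherDifferent A B = Ideal.span {jac P} := by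
  obtain ⟨c, -, h, hl⟩ := exists_delta P
  change Ideal.map (Algebra.TensorProduct.lmul' (S := B) A) (annI A B) = _
  rw [h, Ideal.map_span, Set.image_singleton, hl]

/-- `Δ` stays nonzero at every point. -/
theorem det_notMem (L : Type u) [Field L] [Algebra A L] (x : Fin n → L)
    (c : Matrix (Fin n) (Fin n) (MvPolynomial (Fin n) L))
    (hc : ∀ i, Fmap P.f L i = ∑ j, c i j * diag x j) :
    c.det ∉ Ideal.span (Set.range (Fmap P.f L)) := by
  intro hdet
  haveI := quasiFinite_baseChange P L
  let R := MvPolynomial (Fin n) L ⧸ Ideal.span (Set.range (Fmap P.f L))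
  haveI : Module.Finite L R := Module.Finite.of_quasiFinite
  haveI : IsArtinianRing R := IsArtinianRing.of_finite L R
  let m : Ideal R := (Ideal.span (Set.range (diag x))).map (Ideal.Quotient.mk _)
  have hle : Ideal.span (Set.range (Fmap P.f L)) ≤ Ideal.span (Set.range (diag x)) := by
    rw [Ideal.span_le]
    rintro _ ⟨i, rfl⟩
    rw [hc i]
    exact Ideal.sum_mem _ fun j _ => Ideal.mul_mem_left _ _ (Ideal.subset_span (Set.mem_range_self j))
  haveI : (Ideal.span (Set.range (diag x))).IsPrime := ker_eval x ▸ RingHom.ker_isPrime _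
  haveI hm : m.IsPrime := Ideal.map_isPrime_of_surjective Ideal.Quotient.mk_surjective
    (by rwa [Ideal.mk_ker])
  have hmin : m ∈ (Module.annihilator R R).minimalPrimes :=
    ⟨⟨hm, by simp [Module.annihilator_eq_bot.2 inferInstance]⟩, fun q hq hqm => by
      haveI := hq.1
      exact ((IsArtinianRing.isMaximal_of_isPrime q).eq_of_le hm.ne_top hqm).ge⟩
  have hass := (isAssociatedPrime_iff (R := R) (M := R)).1
    (Module.associatedPrimes.minimalPrimes_annihilator_subset_associatedPrimes R R hmin)
  obtain ⟨-, y, hy⟩ := hass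
  obtain ⟨y, rfl⟩ := Ideal.Quotient.mk_surjective y
  have hyg : ∀ j, y * diag x j ∈ Ideal.span (Set.range (Fmap P.f L)) := by
    intro j
    have h : Ideal.Quotient.mk _ (diag x j) ∈ m :=
      Ideal.mem_map_of_mem _ (Ideal.subset_span (Set.mem_range_self j))
    rw [hy, Submodule.mem_colon_singleton, smul_eq_mul, Submodule.mem_bot, ← map_mul] at h
    rw [mul_comm]
    exact Ideal.Quotient.eq_zero_iff_mem.1 h
  have h := Link.mem_of_mul_mem _ _ c hc (acyc _ (fiber_dim_zero _)) hyg
  rw [sup_eq_right.2 ((Ideal.span_singleton_le_iff_mem _).2 hdet)] at h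
  refine hm.ne_top ?_
  rw [hy, Ideal.Quotient.eq_zero_iff_mem.2 h]
  ext; simp

section Free

variable [Module.Finite A B] [Module.Free A B]

/-- Tate: `ω` is free on one generator, the trace corresponding to the Jacobian. -/
theorem exists_equiv : ∃ e : B ≃ₗ[B] _root_.Disc.Omega A B,
    e (jac P) = _root_.Disc.Omega.trace A B := by
  classical
  obtain ⟨c, hc, hann, hl⟩ := exists_delta P
  have hΔ : mu P c.det ∈ annI A B := hann ▸ Ideal.mem_span_singleton_self _
  let Θ := toHom (mu P c.det) hΔ
  have hsurj : Function.Surjective Θ := by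
    rw [← LinearMap.range_eq_top]
    by_contra hne
    obtain ⟨M, hM, hle⟩ := Ideal.exists_le_maximal _ hne
    let b := Module.Free.chooseBasis A B
    choose p hp using fun i => P.surj (b i)
    let q : MvPolynomial (Fin n) B := ∑ i, MvPolynomial.map (algebraMap A B) (p i) *
      MvPolynomial.C (ev (b.coord i) (mu P c.det))
    have hq : mu P q = mu P c.det := by
      conv_rhs => rw [expand b (mu P c.det)]
      rw [map_sum]
      refine Finset.sum_congr rfl fun i _ => ?_
      rw [map_mul, mu_map, mu_C, hp, Algebra.TensorProduct.tmul_mul_tmul, mul_one, one_mul]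
    have hker : c.det - q ∈ Ideal.span (Set.range (Fmap P.f B)) := by
      rw [← ker_mu, RingHom.mem_ker, map_sub, hq, sub_self]
    letI := Ideal.Quotient.field M
    let q0 : B →+* B ⧸ M := Ideal.Quotient.mk M
    let φ := MvPolynomial.map (σ := Fin n) q0
    have hF : ∀ i, φ (Fmap P.f B i) = Fmap P.f (B ⧸ M) i := fun i => by
      simp only [φ, Fmap, MvPolynomial.map_map]; rfl
    have hq0 : φ q = 0 := by
      rw [map_sum]
      refine Finset.sum_eq_zero fun i _ => ?_
      have hmem : ev (b.coord i) (mu P c.det) ∈ M := hle ⟨⟨b.coord i⟩, rfl⟩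
      rw [map_mul, MvPolynomial.map_C, Ideal.Quotient.eq_zero_iff_mem.2 hmem, map_zero, mul_zero]
    refine det_notMem P (B ⧸ M) (fun i => q0 (P.π (MvPolynomial.X i))) (φ.mapMatrix c) (fun i => ?_) ?_
    · rw [← hF, hc, map_sum]
      refine Finset.sum_congr rfl fun j _ => ?_
      simp [φ, diag]
    · have h := Ideal.mem_map_of_mem φ hker
      rw [map_sub, hq0, sub_zero, Ideal.map_span, ← Set.range_comp,
        show φ ∘ Fmap P.f B = Fmap P.f (B ⧸ M) from funext hF] at h
      rwa [← RingHom.map_det]
  let b := Module.Free.chooseBasis A B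
  let E : B → _root_.Disc.Omega A B := fun x => ⟨b.toDual x⟩
  let G : B →ₗ[A] B :=
    { toFun := fun x => Θ (E x)
      map_add' := fun x y => by
        rw [show E (x + y) = E x + E y from _root_.Disc.Omega.ext (by simp [E]), map_add]
      map_smul' := fun a x => by
        rw [show E (a • x) = algebraMap A B a • E x from
          _root_.Disc.Omega.ext (LinearMap.ext fun y => by rw [Pairing.smul_algebraMap]; simp [E]), map_smul,
          RingHom.id_apply, smul_eq_mul]
        exact (Algebra.smul_def a _).symm }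
  have hE : Function.Surjective E := fun l =>
    ⟨b.toDualEquiv.symm l.toLinearMap, _root_.Disc.Omega.ext (b.toDualEquiv.apply_symm_apply _)⟩
  have hG : Function.Injective G :=
    OrzechProperty.injective_of_surjective_endomorphism G (hsurj.comp hE)
  have hinj : Function.Injective Θ := fun l m h => by
    obtain ⟨x, rfl⟩ := hE l
    obtain ⟨y, rfl⟩ := hE m
    rw [hG h]
  refine ⟨(LinearEquiv.ofBijective Θ ⟨hinj, hsurj⟩).symm, ?_⟩
  rw [LinearEquiv.symm_apply_eq]
  exact hl.symm.trans (ev_trace hΔ).symm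

theorem differentSet_eq : _root_.Disc.differentSet A B = (Ideal.span {jac P} : Set B) := by
  obtain ⟨e, he⟩ := exists_equiv P
  ext x
  rw [SetLike.mem_coe, Ideal.mem_span_singleton']
  constructor
  · intro h
    obtain ⟨c, hc⟩ := h (e 1).toLinearMap
    refine ⟨c, e.injective ?_⟩
    rw [← smul_eq_mul, map_smul, he]
    refine _root_.Disc.Omega.ext (LinearMap.ext fun y => ?_)
    rw [_root_.Disc.Omega.smul_toLinearMap_apply]
    refine (hc y).symm.trans ?_
    rw [← _root_.Disc.Omega.smul_toLinearMap_apply, ← map_smul, smul_eq_mul, mul_one]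
  · rintro ⟨a, rfl⟩ ψ
    refine ⟨a * e.symm ⟨ψ⟩, fun y => ?_⟩
    have h : (a * e.symm ⟨ψ⟩) • _root_.Disc.Omega.trace A B = (a * jac P) • ⟨ψ⟩ := by
      conv_rhs => rw [← e.apply_symm_apply (⟨ψ⟩ : _root_.Disc.Omega A B)]
      rw [← he, ← map_smul, ← map_smul, smul_eq_mul, smul_eq_mul, mul_right_comm]
    exact (LinearMap.congr_fun (congrArg _root_.Disc.Omega.toLinearMap h) y).symm

end Free

end

end Groth.Agent.Lib.Disc.Jacobian
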