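import Groth.Prelude.Def_QFDual
import Groth.Agent.Lib.Disc.QFSplit
import Groth.Agent.Lib.QFDual.FlatBase
import Mathlib.LinearAlgebra.Dual.BaseChange
import Mathlib.RingTheory.Flat.Stability
import Mathlib.RingTheory.IsTensorProduct
import Mathlib.RingTheory.Ideal.Quotient.Operations

/-! Functoriality of the base change map of `ω`, and base change of a clopen piece. -/

set_option autoImplicit false
set_option linter.style.haveILetI false

universe u

open scoped TensorProduct

namespace Groth.Agent.Lib.Disc.OmegaBC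

section Comp

variable {A B' A₁ B'₁ A₂ B'₂ : Type u} [CommRing A] [CommRing B'] [CommRing A₁] [CommRing B'₁]
  [CommRing A₂] [CommRing B'₂] [Algebra A B'] [Algebra A A₁] [Algebra B' B'₁] [Algebra A₁ B'₁]
  [Algebra A B'₁] [IsScalarTower A A₁ B'₁] [IsScalarTower A B' B'₁] [Algebra A₁ A₂]
  [Algebra B'₁ B'₂] [Algebra A₂ B'₂] [Algebra A₁ B'₂] [IsScalarTower A₁ A₂ B'₂]
  [IsScalarTower A₁ B'₁ B'₂] [Algebra A A₂] [IsScalarTower A A₁ A₂] [Algebra B' B'₂]
  [IsScalarTower B' B'₁ B'₂] [Algebra A B'₂] [IsScalarTower A A₂ B'₂] [IsScalarTower A B' B'₂]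
  (h : Algebra.IsPushout A A₁ B' B'₁) (h' : Algebra.IsPushout A₁ A₂ B'₁ B'₂)
  (h'' : Algebra.IsPushout A A₂ B' B'₂)

theorem bcFin_comp (φ : _root_.Disc.Omega A B') :
    _root_.QFDual.bcFin h' (_root_.QFDual.bcFin h φ) = _root_.QFDual.bcFin h'' φ := by
  refine _root_.Disc.Omega.ext (h''.out.algHom_ext _ _ fun x => ?_)
  change (_root_.QFDual.bcFin h' (_root_.QFDual.bcFin h φ)).toLinearMap (algebraMap B' B'₂ x) =
    (_root_.QFDual.bcFin h'' φ).toLinearMap (algebraMap B' B'₂ x)
  rw [_root_.QFDual.bcFin_apply_algebraMap, IsScalarTower.algebraMap_apply B' B'₁ B'₂,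
    _root_.QFDual.bcFin_apply_algebraMap, _root_.QFDual.bcFin_apply_algebraMap,
    ← IsScalarTower.algebraMap_apply A A₁ A₂]

theorem omegaBC_comp (C : Type u) [CommRing C] [Algebra B'₁ C] [Algebra B' C]
    [IsScalarTower B' B'₁ C] [Algebra B'₂ C] [IsScalarTower B'₁ B'₂ C] [IsScalarTower B' B'₂ C]
    (z : _root_.QFDual.omega A B' C) :
    _root_.QFDual.omegaBC (B₁ := C) h' (_root_.QFDual.omegaBC (B₁ := C) h z) =
      _root_.QFDual.omegaBC (B₁ := C) h'' z := by
  induction z using TensorProduct.induction_on with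
  | zero => simp
  | add a b ha hb => simp only [map_add, ha, hb]
  | tmul c φ =>
      rw [_root_.QFDual.omegaBC_tmul, _root_.QFDual.omegaBC_tmul, _root_.QFDual.omegaBC_tmul,
        bcFin_comp h h' h'']

end Comp

section Tensor

variable {A B' A₁ B'₁ : Type u} [CommRing A] [CommRing B'] [CommRing A₁] [CommRing B'₁]
  [Algebra A B'] [Algebra A A₁] [Algebra B' B'₁] [Algebra A₁ B'₁] [Algebra A B'₁]
  [IsScalarTower A A₁ B'₁] [IsScalarTower A B' B'₁] (h : Algebra.IsPushout A A₁ B' B'₁)
  {B₁ C : Type u} [CommRing B₁] [Algebra B'₁ B₁] [Algebra B' B₁] [IsScalarTower B' B'₁ B₁]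
  [CommRing C] [Algebra B₁ C] [Algebra B'₁ C] [Algebra B' C] [IsScalarTower B' B'₁ C]
  [IsScalarTower B'₁ B₁ C] [IsScalarTower B' B₁ C]

/-- Base change of `omegaBC` along `B₁ → C`. -/
theorem omegaBC_lTensor (z : C ⊗[B₁] _root_.QFDual.omega A B' B₁) :
    TensorProduct.AlgebraTensorModule.cancelBaseChange B'₁ B₁ C C (_root_.Disc.Omega A₁ B'₁)
        ((_root_.QFDual.omegaBC (B₁ := B₁) h).lTensor C z) =
      _root_.QFDual.omegaBC (B₁ := C) h
        (TensorProduct.AlgebraTensorModule.cancelBaseChange B' B₁ C C (_root_.Disc.Omega A B') z) := by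
  induction z using TensorProduct.induction_on with
  | zero => simp
  | add a b ha hb => simp only [map_add, ha, hb]
  | tmul c x =>
      induction x using TensorProduct.induction_on with
      | zero => simp
      | add a b ha hb => simp only [TensorProduct.tmul_add, map_add, ha, hb]
      | tmul b φ => simp

end Tensor

section Split

variable {A' A'' R R'' C C'' : Type u} [CommRing A'] [CommRing A''] [CommRing R] [CommRing R'']
  [CommRing C] [CommRing C''] [Algebra A' A''] [Algebra A' R] [Algebra A'' R''] [Algebra A' R'']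
  [Algebra R R''] [IsScalarTower A' A'' R''] [IsScalarTower A' R R'']
  [Algebra R C] [Algebra A' C] [IsScalarTower A' R C]
  [Algebra R'' C''] [Algebra A'' C''] [IsScalarTower A'' R'' C''] [Algebra C C''] [Algebra A' C'']
  [IsScalarTower A' C C''] [IsScalarTower A' A'' C''] [Algebra R C''] [IsScalarTower R R'' C'']
  [IsScalarTower R C C'']

theorem isPushout_right (h2 : Algebra.IsPushout A' A'' R R'') (hC : Algebra.IsPushout A' A'' C C'') :
    Algebra.IsPushout R C R'' C'' := by
  haveI := h2.symm
  haveI : IsScalarTower A' R C'' := IsScalarTower.of_algebraMap_eq fun a => by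
    rw [IsScalarTower.algebraMap_apply R C C'', ← IsScalarTower.algebraMap_apply A' R C,
      ← IsScalarTower.algebraMap_apply A' C C'']
  haveI : IsScalarTower A' R'' C'' := IsScalarTower.of_algebraMap_eq fun a => by
    rw [IsScalarTower.algebraMap_apply A' R R'', ← IsScalarTower.algebraMap_apply R R'' C'',
      ← IsScalarTower.algebraMap_apply A' R C'']
  exact (Algebra.IsPushout.comp_iff A' R A'' R'' (T := C) (T' := C'')).1 hC.symm

theorem surjective_right (h : Algebra.IsPushout R C R'' C'') (hs : Function.Surjective (algebraMap R C)) :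
    Function.Surjective (algebraMap R'' C'') := by
  intro z
  obtain ⟨y, rfl⟩ := (Algebra.IsPushout.equiv R C R'' C'').surjective z
  induction y using TensorProduct.induction_on with
  | zero => exact ⟨0, by simp⟩
  | add a b ha hb =>
      obtain ⟨x, hx⟩ := ha
      obtain ⟨y, hy⟩ := hb
      exact ⟨x + y, by rw [map_add, hx, hy, map_add]⟩
  | tmul c r =>
      obtain ⟨s, rfl⟩ := hs c
      refine ⟨algebraMap R R'' s * r, ?_⟩
      rw [Algebra.IsPushout.equiv_tmul, map_mul, ← IsScalarTower.algebraMap_apply R R'' C'',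
        ← IsScalarTower.algebraMap_apply R C C'']

theorem ker_right (h : Algebra.IsPushout R C R'' C'') (hs : Function.Surjective (algebraMap R C))
    {ε : R} (hker : RingHom.ker (algebraMap R C) = Ideal.span {ε}) :
    RingHom.ker (algebraMap R'' C'') = Ideal.span {algebraMap R R'' ε} := by
  haveI := h
  let J : Ideal R'' := Ideal.span {algebraMap R R'' ε}
  refine le_antisymm (fun x hx => ?_) ?_
  · let f : R →ₐ[R] R'' ⧸ J := Algebra.ofId R (R'' ⧸ J)
    let g : C →ₐ[R] R'' ⧸ J :=
      (Ideal.Quotient.liftₐ (RingHom.ker (Algebra.ofId R C)) f (fun a ha => by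
        obtain ⟨d, rfl⟩ := Ideal.mem_span_singleton'.1 (hker.le (ha : algebraMap R C a = 0))
        rw [map_mul]
        refine mul_eq_zero_of_right _ ?_
        exact Ideal.Quotient.eq_zero_iff_mem.2 (Ideal.mem_span_singleton_self _))).comp
        (Ideal.quotientKerAlgEquivOfSurjective (f := Algebra.ofId R C) hs).symm.toAlgHom
    let Φ := Algebra.pushoutDesc C'' g (Ideal.Quotient.mkₐ R J) fun _ _ => mul_comm _ _
    have h1 : Φ (algebraMap R'' C'' x) = Ideal.Quotient.mk J x :=
      Algebra.pushoutDesc_right C'' g (Ideal.Quotient.mkₐ R J) _ x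
    rw [RingHom.mem_ker.1 hx, map_zero] at h1
    exact Ideal.Quotient.eq_zero_iff_mem.1 h1.symm
  · rw [Ideal.span_le, Set.singleton_subset_iff, SetLike.mem_coe, RingHom.mem_ker,
      ← IsScalarTower.algebraMap_apply R R'' C'', IsScalarTower.algebraMap_apply R C C'',
      RingHom.mem_ker.1 (hker.ge (Ideal.mem_span_singleton_self ε)), map_zero]

/-- Base change of `ω` over a clopen piece which is finite free. -/
theorem omegaBC_bijective_split [Module.Finite A' C] [Module.Free A' C]
    (h2 : Algebra.IsPushout A' A'' R R'') (hC : Algebra.IsPushout A' A'' C C'')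
    (hs : Function.Surjective (algebraMap R C)) {ε : R} (hε : IsIdempotentElem ε)
    (hker : RingHom.ker (algebraMap R C) = Ideal.span {ε}) :
    Function.Bijective (_root_.QFDual.omegaBC (B₁ := C'') h2) := by
  have hR := isPushout_right h2 hC
  obtain ⟨e, he⟩ := QFSplit.exists_equiv_symm (A₁ := A') hs hε hker
  obtain ⟨e₂, he₂⟩ := QFSplit.exists_equiv_symm (A₁ := A'') (surjective_right hR hs)
    (hε.map (algebraMap R R'')) (ker_right hR hs hker)
  let cc := TensorProduct.AlgebraTensorModule.cancelBaseChange R C C'' C'' (_root_.Disc.Omega A' R)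
  let P := (TensorProduct.AlgebraTensorModule.congr (LinearEquiv.refl C'' C'') e.symm).trans cc
  let Q := (LinearEquiv.ofBijective (_root_.QFDual.omegaBC (B₁ := C'') hC)
      (QFDual.FlatBase.omegaBC_self_bijective_of hC (IsBaseChange.dual hC.out))).trans
    ((TensorProduct.lid C'' (_root_.Disc.Omega A'' C'')).trans e₂.symm)
  have key : ∀ y, _root_.QFDual.omegaBC (B₁ := C'') h2 (P y) = Q y := by
    intro y
    induction y using TensorProduct.induction_on with
    | zero => simp only [map_zero]
    | add a b ha hb => simp only [map_add, ha, hb]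
    | tmul c ψ =>
        have hφ : _root_.QFDual.bcFin h2
            ⟨ψ.toLinearMap.comp (IsScalarTower.toAlgHom A' R C).toLinearMap⟩ =
            ⟨(_root_.QFDual.bcFin hC ψ).toLinearMap.comp (IsScalarTower.toAlgHom A'' R'' C'').toLinearMap⟩ := by
          refine _root_.Disc.Omega.ext (h2.out.algHom_ext _ _ fun x => ?_)
          change (_root_.QFDual.bcFin h2 _).toLinearMap (algebraMap R R'' x) =
            (_root_.QFDual.bcFin hC ψ).toLinearMap (algebraMap R'' C'' (algebraMap R R'' x))
          rw [_root_.QFDual.bcFin_apply_algebraMap, ← IsScalarTower.algebraMap_apply R R'' C'',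
            IsScalarTower.algebraMap_apply R C C'', _root_.QFDual.bcFin_apply_algebraMap]
          rfl
        simp only [P, Q, LinearEquiv.trans_apply, TensorProduct.AlgebraTensorModule.congr_tmul,
          LinearEquiv.refl_apply, LinearEquiv.ofBijective_apply, he, cc,
          TensorProduct.AlgebraTensorModule.cancelBaseChange_tmul, _root_.QFDual.omegaBC_tmul,
          TensorProduct.lid_tmul, one_smul]
        rw [map_smul e₂.symm, he₂, hφ, TensorProduct.smul_tmul', smul_eq_mul, mul_one]
  have : ⇑(_root_.QFDual.omegaBC (B₁ := C'') h2) ∘ ⇑P = ⇑Q := funext key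
  exact (Function.Bijective.of_comp_iff _ P.bijective).1 (this ▸ Q.bijective)

end Split

end Groth.Agent.Lib.Disc.OmegaBC
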