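import Groth.Prelude.Def_Disc
import Mathlib.RingTheory.Kaehler.Basic
import Mathlib.RingTheory.Trace.Basic
import Mathlib.RingTheory.Norm.Defs
import Mathlib.RingTheory.Discriminant
import Mathlib.LinearAlgebra.Dual.Basis
import Mathlib.LinearAlgebra.FreeModule.Finite.Basic

/-! The trace pairing between the annihilator of the diagonal and the dual of `ω`. -/

set_option autoImplicit false

universe u v w

open scoped TensorProduct

namespace Groth.Agent.Lib.Disc.Pairing

variable {A : Type u} {B : Type v} [CommRing A] [CommRing B] [Algebra A B]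

/-- `ev l (x ⊗ y) = l x • y`. -/
noncomputable def ev (l : B →ₗ[A] A) : B ⊗[A] B →ₗ[A] B :=
  TensorProduct.lift ((LinearMap.lsmul A B).comp l)

@[simp] theorem ev_tmul (l : B →ₗ[A] A) (x y : B) : ev l (x ⊗ₜ[A] y) = l x • y := rfl

theorem ev_mul_left (l : B →ₗ[A] A) (c : B) (ξ : B ⊗[A] B) :
    ev l ((c ⊗ₜ[A] 1) * ξ) = ev (l.comp (LinearMap.mulLeft A c)) ξ := by
  induction ξ using TensorProduct.induction_on with
  | zero => simp
  | tmul x y => rw [Algebra.TensorProduct.tmul_mul_tmul, ev_tmul, ev_tmul, one_mul]; rfl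
  | add x y hx hy => rw [mul_add, map_add, map_add, hx, hy]

theorem ev_mul_right (l : B →ₗ[A] A) (c : B) (ξ : B ⊗[A] B) :
    ev l (((1 : B) ⊗ₜ[A] c) * ξ) = c * ev l ξ := by
  induction ξ using TensorProduct.induction_on with
  | zero => simp
  | tmul x y => rw [Algebra.TensorProduct.tmul_mul_tmul, ev_tmul, ev_tmul, one_mul, mul_smul_comm]
  | add x y hx hy => rw [mul_add, map_add, map_add, mul_add, hx, hy]

theorem expand {ι : Type w} [Fintype ι] (b : Module.Basis ι A B) (ξ : B ⊗[A] B) :
    ξ = ∑ i, b i ⊗ₜ[A] ev (b.coord i) ξ := by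
  induction ξ using TensorProduct.induction_on with
  | zero => simp
  | tmul x y =>
      simp only [ev_tmul, Module.Basis.coord_apply, ← TensorProduct.smul_tmul]
      rw [← TensorProduct.sum_tmul, b.sum_repr]
  | add x y hx hy =>
      simp only [map_add, TensorProduct.tmul_add, Finset.sum_add_distrib]
      rw [← hx, ← hy]

theorem ext_ev [Module.Free A B] [Module.Finite A B] {ξ η : B ⊗[A] B}
    (h : ∀ l : B →ₗ[A] A, ev l ξ = ev l η) : ξ = η := by
  let b := Module.Free.chooseBasis A B
  rw [expand b ξ, expand b η]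
  simp only [h]

/-- The annihilator of the diagonal ideal. -/
noncomputable abbrev annI (A : Type u) (B : Type v) [CommRing A] [CommRing B] [Algebra A B] :
    Ideal (B ⊗[A] B) :=
  Submodule.annihilator (RingHom.ker (Algebra.TensorProduct.lmul' (S := B) A))

theorem mem_annI {ξ : B ⊗[A] B} :
    ξ ∈ annI A B ↔ ∀ c : B, (c ⊗ₜ[A] 1) * ξ = ((1 : B) ⊗ₜ[A] c) * ξ := by
  have hker : RingHom.ker (Algebra.TensorProduct.lmul' (S := B) A) =
      Submodule.span (B ⊗[A] B) (Set.range fun s : B => (1 : B) ⊗ₜ[A] s - s ⊗ₜ[A] (1 : B)) :=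
    (KaehlerDifferential.span_range_eq_ideal A B).symm
  rw [annI, hker, Submodule.mem_annihilator_span]
  constructor
  · intro h c
    have := h ⟨_, c, rfl⟩
    rw [smul_eq_mul, mul_sub, sub_eq_zero] at this
    rw [mul_comm, ← this, mul_comm]
  · rintro h ⟨_, c, rfl⟩
    rw [smul_eq_mul, mul_sub, sub_eq_zero, mul_comm, ← h c, mul_comm]

/-- The homomorphism `ω → B` attached to an element of the annihilator of the diagonal. -/
noncomputable def toHom (ξ : B ⊗[A] B) (hξ : ξ ∈ annI A B) : _root_.Disc.Omega A B →ₗ[B] B where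
  toFun l := ev l.toLinearMap ξ
  map_add' l m := by
    simp only [ev, _root_.Disc.Omega.add_toLinearMap, LinearMap.comp_add]
    induction ξ using TensorProduct.induction_on with
    | zero => simp
    | tmul x y => simp [add_smul]
    | add x y hx hy =>
        simp only [map_add]
        rw [show TensorProduct.lift ((LinearMap.lsmul A B).comp l.toLinearMap +
          (LinearMap.lsmul A B).comp m.toLinearMap) = TensorProduct.lift ((LinearMap.lsmul A B).comp l.toLinearMap) +
          TensorProduct.lift ((LinearMap.lsmul A B).comp m.toLinearMap) from TensorProduct.ext' fun _ _ => rfl]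
        simp only [LinearMap.add_apply]
        abel
  map_smul' c l := by
    rw [RingHom.id_apply, smul_eq_mul, ← ev_mul_right, ← mem_annI.1 hξ c, ev_mul_left]
    rfl

theorem toHom_apply (ξ : B ⊗[A] B) (hξ : ξ ∈ annI A B) (l : _root_.Disc.Omega A B) :
    toHom ξ hξ l = ev l.toLinearMap ξ := rfl

/-- The underlying additive map of `ω`. -/
def toLin : _root_.Disc.Omega A B →+ (B →ₗ[A] A) where
  toFun l := l.toLinearMap
  map_zero' := rfl
  map_add' _ _ := rfl

theorem sum_toLinearMap {ι : Type w} (s : Finset ι) (l : ι → _root_.Disc.Omega A B) (x : B) :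
    (∑ i ∈ s, l i).toLinearMap x = ∑ i ∈ s, (l i).toLinearMap x := by
  have h : (∑ i ∈ s, l i).toLinearMap = ∑ i ∈ s, (l i).toLinearMap := map_sum toLin l s
  rw [h, LinearMap.sum_apply]

theorem smul_algebraMap (a : A) (l : _root_.Disc.Omega A B) (x : B) :
    (algebraMap A B a • l).toLinearMap x = a * l.toLinearMap x := by
  rw [_root_.Disc.Omega.smul_toLinearMap_apply, ← Algebra.smul_def, map_smul, smul_eq_mul]

theorem exists_of_hom [Module.Free A B] [Module.Finite A B] (Φ : _root_.Disc.Omega A B →ₗ[B] B) :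
    ∃ ξ ∈ annI A B, ∀ l : _root_.Disc.Omega A B, ev l.toLinearMap ξ = Φ l := by
  let b := Module.Free.chooseBasis A B
  let d : Module.Free.ChooseBasisIndex A B → _root_.Disc.Omega A B := fun i => ⟨b.coord i⟩
  have hev : ∀ l : _root_.Disc.Omega A B, ev l.toLinearMap (∑ i, b i ⊗ₜ[A] Φ (d i)) = Φ l := by
    intro l
    have hl : l = ∑ i, algebraMap A B (l.toLinearMap (b i)) • d i := by
      refine _root_.Disc.Omega.ext (LinearMap.ext fun x => ?_)
      rw [sum_toLinearMap]
      simp only [smul_algebraMap, d, Module.Basis.coord_apply]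
      conv_lhs => rw [← b.sum_repr x]
      rw [map_sum]
      refine Finset.sum_congr rfl fun i _ => ?_
      rw [map_smul, smul_eq_mul, mul_comm]
    conv_rhs => rw [hl]
    rw [map_sum, map_sum]
    refine Finset.sum_congr rfl fun i _ => ?_
    rw [ev_tmul, map_smul, Algebra.smul_def, smul_eq_mul]
  refine ⟨_, mem_annI.2 fun c => ext_ev fun l => ?_, hev⟩
  have h1 := hev ⟨l.comp (LinearMap.mulLeft A c)⟩
  have h2 := hev ⟨l⟩
  rw [ev_mul_left, ev_mul_right, h1, h2]
  exact (congrArg Φ (_root_.Disc.Omega.ext rfl : (⟨l.comp (LinearMap.mulLeft A c)⟩ : _root_.Disc.Omega A B) = c • ⟨l⟩)).trans (map_smul Φ c _)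

/-- Pairing with the trace is multiplication. -/
theorem ev_trace [Module.Free A B] [Module.Finite A B] {ξ : B ⊗[A] B} (hξ : ξ ∈ annI A B) :
    ev (Algebra.trace A B) ξ = Algebra.TensorProduct.lmul' (S := B) A ξ := by
  classical
  let b := Module.Free.chooseBasis A B
  set y := fun i => ev (b.coord i) ξ with hy
  have hξ' : ξ = ∑ i, b i ⊗ₜ[A] y i := expand b ξ
  have hk : ∀ j k, ∑ i, b.repr (b j * b i) k • y i = b j * y k := by
    intro j k
    have h := congrArg (ev (b.coord k)) (mem_annI.1 hξ (b j))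
    rw [ev_mul_left, ev_mul_right, ← show y k = ev (b.coord k) ξ from rfl] at h
    conv_lhs at h => rw [hξ', map_sum]
    simpa using h
  conv_lhs => rw [hξ', map_sum]
  conv_rhs => rw [hξ', map_sum]
  simp only [ev_tmul, Algebra.TensorProduct.lmul'_apply_tmul]
  calc ∑ i, Algebra.trace A B (b i) • y i
      = ∑ i, ∑ k, b.repr (b k * b i) k • y i := Finset.sum_congr rfl fun i _ => by
        rw [Algebra.trace_eq_matrix_trace b, Matrix.trace, Finset.sum_smul]
        refine Finset.sum_congr rfl fun k _ => ?_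
        rw [Matrix.diag_apply, Algebra.leftMulMatrix_eq_repr_mul, mul_comm]
    _ = ∑ k, b k * y k := by
        rw [Finset.sum_comm]
        exact Finset.sum_congr rfl fun k _ => hk k k

theorem mem_noetherDifferent_iff [Module.Free A B] [Module.Finite A B] {x : B} :
    x ∈ _root_.Disc.noetherDifferent A B ↔
      ∃ φ : _root_.Disc.Omega A B →ₗ[B] B, φ (_root_.Disc.Omega.trace A B) = x := by
  have hs : Function.Surjective (Algebra.TensorProduct.lmul' (S := B) A) :=
    fun y => ⟨1 ⊗ₜ[A] y, by simp⟩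
  rw [_root_.Disc.noetherDifferent, Ideal.mem_map_iff_of_surjective _ hs]
  constructor
  · rintro ⟨ξ, hξ, rfl⟩
    exact ⟨toHom ξ hξ, ev_trace hξ⟩
  · rintro ⟨φ, rfl⟩
    obtain ⟨ξ, hξ, h⟩ := exists_of_hom φ
    exact ⟨ξ, hξ, by rw [← h, ← ev_trace hξ]; rfl⟩

end Groth.Agent.Lib.Disc.Pairing
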