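import Groth.Agent.Lib.Disc.Square
import Groth.Prelude.Def_RegImm
import Mathlib.RingTheory.Nakayama
import Mathlib.RingTheory.LocalRing.Module
import Mathlib.RingTheory.Jacobson.Ideal
import Mathlib.RingTheory.FinitePresentation
import Mathlib.RingTheory.Jacobson.Artinian
import Mathlib.RingTheory.LocalRing.ResidueField.Fiber

/-! Finite syntomic algebras over local rings have square presentations. -/

set_option autoImplicit false

universe u

open scoped TensorProduct

namespace Groth.Agent.Lib.Disc.Present

open MvPolynomial Groth.Agent.Lib.Disc.Jacobian Groth.Agent.Lib.Disc.Square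

theorem isSquare_of_isLCIOver {k : Type u} [Field k] {C : Type u} [CommRing C] [Algebra k C]
    [Module.Finite k C] (h : Synt.IsLCIOver k C) : IsSquare k C := by
  haveI : IsArtinianRing C := IsArtinianRing.of_finite k C
  refine isSquare_of_cover fun p => ?_
  obtain ⟨g, hg, hG⟩ := h.2 p
  refine ⟨g, hg, ?_⟩
  haveI : IsArtinianRing (Localization.Away g) :=
    inferInstanceAs (IsArtinianRing (Localization (Submonoid.powers g)))
  rcases hG with hsub | ⟨n, c, hc, φ, r, hφ, hker, hdim⟩
  · exact IsSquare.of_subsingleton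
  · rcases subsingleton_or_nontrivial (Localization.Away g) with hs | hs
    · exact IsSquare.of_subsingleton
    · rw [Jacobian.dim_of_artinian] at hdim
      have h0 : n - c = 0 := by
        have h := hdim.symm
        exact_mod_cast h
      obtain rfl : c = n := by omega
      exact ⟨c, ⟨⟨r, φ, hφ, hker⟩⟩⟩

theorem isUnit_of_sub_one_mem_map {A B : Type u} [CommRing A] [IsLocalRing A] [CommRing B]
    [Algebra A B] [Module.Finite A B] {x : B}
    (hx : x - 1 ∈ (IsLocalRing.maximalIdeal A).map (algebraMap A B)) : IsUnit x := by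
  haveI : Algebra.IsIntegral A B := Algebra.IsIntegral.of_finite A B
  by_contra hu
  obtain ⟨q, hq, hxq⟩ := exists_max_ideal_of_mem_nonunits hu
  have hle : (IsLocalRing.maximalIdeal A).map (algebraMap A B) ≤ q :=
    Ideal.map_le_iff_le_comap.2
      (IsLocalRing.eq_maximalIdeal (Ideal.isMaximal_comap_of_isIntegral_of_isMaximal q)).ge
  exact hq.ne_top ((Ideal.eq_top_iff_one q).2 (by simpa using sub_mem hxq (hle hx)))

/-- Lifting a square presentation of the closed fibre. -/
theorem isSquare_of_fiber {A B : Type u} [CommRing A] [IsLocalRing A] [CommRing B] [Algebra A B]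
    [Module.Finite A B] [Module.Flat A B] [Algebra.FinitePresentation A B]
    {k C : Type u} [CommRing k] [Algebra A k] (hk : Function.Surjective (algebraMap A k))
    (hkker : RingHom.ker (algebraMap A k) = IsLocalRing.maximalIdeal A)
    [CommRing C] [Algebra A C] [Algebra k C] [IsScalarTower A k C]
    (ρ : B →ₐ[A] C) (hρ : Function.Surjective ρ)
    (hρker : RingHom.ker ρ = (IsLocalRing.maximalIdeal A).map (algebraMap A B))
    (hC : IsSquare k C) : IsSquare A B := by
  classical
  obtain ⟨n, ⟨Q⟩⟩ := hC
  set m := IsLocalRing.maximalIdeal A with hm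
  let q : MvPolynomial (Fin n) A →+* MvPolynomial (Fin n) k := MvPolynomial.map (algebraMap A k)
  have hq : Function.Surjective q := MvPolynomial.map_surjective _ hk
  have hqker : RingHom.ker q = m.map (algebraMap A (MvPolynomial (Fin n) A)) := by
    rw [← hkker, MvPolynomial.algebraMap_eq]
    exact MvPolynomial.ker_map (algebraMap A k)
  choose z hz using fun i => hρ (Q.π (MvPolynomial.X i))
  let φ : MvPolynomial (Fin n) A →ₐ[A] B := MvPolynomial.aeval z
  have hρφ : ∀ p, ρ (φ p) = Q.π (q p) := by
    intro p
    induction p using MvPolynomial.induction_on with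
    | C a =>
        rw [show φ (MvPolynomial.C a) = algebraMap A B a from MvPolynomial.aeval_C z a, AlgHom.commutes,
          show q (MvPolynomial.C a) = MvPolynomial.C (algebraMap A k a) from MvPolynomial.map_C _ a,
          ← MvPolynomial.algebraMap_eq, AlgHom.commutes, ← IsScalarTower.algebraMap_apply]
    | add p p' hp hp' => simp only [map_add, hp, hp']
    | mul_X p i hp => simp only [map_mul, hp]; simp [φ, q, hz]
  have hφ : Function.Surjective φ := by
    have hle : (⊤ : Submodule A B) ≤ LinearMap.range φ.toLinearMap ⊔ m • (⊤ : Submodule A B) := by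
      intro b _
      obtain ⟨p, hp⟩ := Q.surj (ρ b)
      obtain ⟨p, rfl⟩ := hq p
      have hmem : b - φ p ∈ RingHom.ker ρ := by
        rw [RingHom.mem_ker, map_sub, hρφ, hp, sub_self]
      rw [hρker] at hmem
      rw [Ideal.smul_top_eq_map, ← add_sub_cancel (φ p) b]
      exact Submodule.add_mem_sup (LinearMap.mem_range_self φ.toLinearMap p) hmem
    have htop := Submodule.le_of_le_smul_of_le_jacobson_bot (Module.Finite.fg_top)
      (IsLocalRing.maximalIdeal_le_jacobson ⊥) hle
    exact LinearMap.range_eq_top.1 (top_le_iff.1 htop)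
  have hφm : ∀ b ∈ m.map (algebraMap A B), ∃ e ∈ RingHom.ker q, φ e = b := by
    intro b hb
    rw [hqker]
    have h := Ideal.map_map (I := m) (algebraMap A (MvPolynomial (Fin n) A)) φ.toRingHom
    rw [show φ.toRingHom.comp (algebraMap A (MvPolynomial (Fin n) A)) = algebraMap A B from φ.comp_algebraMap] at h
    rw [← h] at hb
    exact (Ideal.mem_map_iff_of_surjective φ.toRingHom hφ).1 hb
  choose r hr using fun i => hq (Q.f i)
  choose e he he' using fun i => hφm (φ (r i)) (by
    rw [← hρker, RingHom.mem_ker, hρφ, hr]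
    exact RingHom.mem_ker.1 (Q.ker_eq.ge (Ideal.subset_span (Set.mem_range_self i))))
  let f : Fin n → MvPolynomial (Fin n) A := fun i => r i - e i
  have hqf : ∀ i, q (f i) = Q.f i := fun i => by rw [map_sub, hr, RingHom.mem_ker.1 (he i), sub_zero]
  have hφf : ∀ i, φ (f i) = 0 := fun i => by rw [map_sub, he', sub_self]
  set K : Ideal (MvPolynomial (Fin n) A) := RingHom.ker φ with hK
  haveI : Module.Free A B := Module.free_of_flat_of_isLocalRing
  obtain ⟨s, hs⟩ := Module.projective_lifting_property φ.toLinearMap LinearMap.id hφ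
  have hsφ : ∀ b, φ (s b) = b := fun b => LinearMap.congr_fun hs b
  have hfK : Ideal.span (Set.range f) ≤ K := Ideal.span_le.2 (by rintro _ ⟨i, rfl⟩; exact hφf i)
  set M : Ideal (MvPolynomial (Fin n) A) := m.map (algebraMap A (MvPolynomial (Fin n) A)) with hM
  have hKle : K ≤ Ideal.span (Set.range f) ⊔ M * K := by
    intro x hx
    have h1 : q x ∈ Ideal.span (Set.range Q.f) := by
      rw [← Q.ker_eq, RingHom.mem_ker, ← hρφ, RingHom.mem_ker.1 hx, map_zero]
    rw [show Set.range Q.f = q '' Set.range f by rw [← Set.range_comp]; exact (congrArg Set.range (funext hqf)).symm,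
      ← Ideal.map_span, Ideal.mem_map_iff_of_surjective _ hq] at h1
    obtain ⟨x₀, hx₀, hx₀'⟩ := h1
    have hy : x - x₀ ∈ M := by
      rw [← hqker, RingHom.mem_ker, map_sub, hx₀', sub_self]
    have hy' : φ (x - x₀) = 0 := by
      rw [map_sub, RingHom.mem_ker.1 hx, RingHom.mem_ker.1 (hfK hx₀), sub_zero]
    have key : ∀ y ∈ m • (⊤ : Submodule A (MvPolynomial (Fin n) A)), y - s (φ y) ∈ M * K := by
      intro y hy
      refine Submodule.smul_induction_on hy (fun a ha p _ => ?_) fun y y' h h' => ?_
      · rw [map_smul, map_smul, ← smul_sub, Algebra.smul_def]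
        exact Ideal.mul_mem_mul (Ideal.mem_map_of_mem _ ha)
          (RingHom.mem_ker.2 (by rw [map_sub, hsφ, sub_self]))
      · rw [map_add, map_add, add_sub_add_comm]
        exact add_mem h h'
    have h2 := key (x - x₀) (by rw [Ideal.smul_top_eq_map]; exact hy)
    rw [hy', map_zero, sub_zero] at h2
    rw [← add_sub_cancel x₀ x]
    exact Submodule.add_mem_sup hx₀ h2
  have hKfg : K.FG := Algebra.FinitePresentation.ker_fG_of_surjective φ hφ
  let N : Submodule (MvPolynomial (Fin n) A) (MvPolynomial (Fin n) A ⧸ Ideal.span (Set.range f)) :=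
    Submodule.map (Submodule.mkQ (Ideal.span (Set.range f))) K
  have hN : N ≤ M • N := by
    rintro _ ⟨x, hx, rfl⟩
    obtain ⟨a, ha, b, hb, rfl⟩ := Submodule.mem_sup.1 (hKle hx)
    rw [map_add, Submodule.mkQ_apply, (Submodule.Quotient.mk_eq_zero _).2 ha, zero_add,
      ← Submodule.map_smul'']
    exact Submodule.mem_map_of_mem hb
  obtain ⟨R, hR, hR'⟩ := Submodule.exists_sub_one_mem_and_smul_eq_zero_of_fg_of_le_smul M N
    (Submodule.FG.map _ hKfg) hN
  have hRK : ∀ x ∈ K, R * x ∈ Ideal.span (Set.range f) := fun x hx => by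
    have h := hR' _ (Submodule.mem_map_of_mem hx)
    rw [← map_smul, Submodule.mkQ_apply, Submodule.Quotient.mk_eq_zero] at h
    exact h
  have hu : IsUnit (φ R) := by
    refine isUnit_of_sub_one_mem_map (A := A) ?_
    have h := Ideal.mem_map_of_mem φ.toRingHom hR
    rw [hM, Ideal.map_map, show φ.toRingHom.comp (algebraMap A (MvPolynomial (Fin n) A)) = algebraMap A B from φ.comp_algebraMap, map_sub, map_one] at h
    exact h
  obtain ⟨v, hv⟩ := hφ (↑hu.unit⁻¹)
  let T : MvPolynomial (Fin (n + 1)) A := MvPolynomial.X (Fin.last n)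
  let F : Fin (n + 1) → MvPolynomial (Fin (n + 1)) A := Fin.snoc (fun i => inc (f i)) (T * inc R - 1)
  refine ⟨n + 1, ⟨⟨F, φ.comp (setLast v), fun b => ?_, le_antisymm (fun p hp => ?_) (Ideal.span_le.2 ?_)⟩⟩⟩
  · obtain ⟨p, rfl⟩ := hφ b
    exact ⟨inc p, by rw [AlgHom.comp_apply, setLast_inc]⟩
  · set J := Ideal.span (Set.range F)
    have hlast : T * inc R - 1 ∈ J := Ideal.subset_span ⟨Fin.last n, by simp [F]⟩
    have hf : ∀ i, inc (f i) ∈ J := fun i => Ideal.subset_span ⟨i.castSucc, by simp [F]⟩
    have hKJ : ∀ x ∈ K, inc x ∈ J := fun x hx => by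
      have := sub_mem (Ideal.mul_mem_left J T (inc_mem hf (hRK x hx)))
        (Ideal.mul_mem_left J (inc x) hlast)
      convert this using 1
      rw [map_mul]
      ring
    have hRv : R * v - 1 ∈ K := by
      rw [hK, RingHom.mem_ker, map_sub, map_mul, hv, hu.mul_val_inv, map_one, sub_self]
    have hT : T - inc v ∈ J := by
      have := sub_mem (Ideal.mul_mem_left J (inc v) hlast) (Ideal.mul_mem_left J T (hKJ _ hRv))
      convert this using 1
      rw [map_sub, map_mul, map_one]
      ring
    rw [← sub_add_cancel p (inc (setLast v p))]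
    exact add_mem ((Ideal.span_singleton_le_iff_mem _).2 hT (sub_inc_setLast_mem v p)) (hKJ _ hp)
  · rintro _ ⟨i, rfl⟩
    induction i using Fin.lastCases with
    | last =>
        have hTv : setLast v T = v := by simp [T, setLast]
        simp [RingHom.mem_ker, F, setLast_inc, hTv, hv]
    | cast j => simp [RingHom.mem_ker, F, setLast_inc, hφf]

theorem isSquare_of_isSyntomic {A B : Type u} [CommRing A] [IsLocalRing A] [CommRing B] [Algebra A B]
    [Module.Finite A B] (h : Synt.IsSyntomic A B) : IsSquare A B := by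
  obtain ⟨hflat, hfp, hfib⟩ := h
  set m := IsLocalRing.maximalIdeal A
  have hk : Function.Surjective (algebraMap A m.ResidueField) := by
    rw [IsScalarTower.algebraMap_eq A (A ⧸ m) m.ResidueField]
    exact (Ideal.bijective_algebraMap_quotient_residueField m).2.comp Ideal.Quotient.mk_surjective
  haveI : Module.Finite m.ResidueField (m.Fiber B) := inferInstance
  let ρ : B →ₐ[A] m.Fiber B := Algebra.TensorProduct.includeRight
  refine isSquare_of_fiber hk (Ideal.ker_algebraMap_residueField m) ρ
    (Algebra.TensorProduct.includeRight_surjective _ hk) ?_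
    (isSquare_of_isLCIOver (hfib ⟨m, inferInstance⟩))
  refine le_antisymm (fun x hx => ?_) ?_
  · have h1 : (1 : A) ⊗ₜ[A] x ∈ RingHom.ker
        (Algebra.TensorProduct.map (Algebra.ofId A m.ResidueField) (AlgHom.id A B)) := by
      rw [RingHom.mem_ker, Algebra.TensorProduct.map_tmul, map_one]
      exact hx
    rw [Algebra.TensorProduct.rTensor_ker (Algebra.ofId A m.ResidueField) hk] at h1
    have h2 := Ideal.mem_map_of_mem (Algebra.TensorProduct.lid A B).toAlgHom.toRingHom h1
    rw [show RingHom.ker (Algebra.ofId A m.ResidueField) = m from Ideal.ker_algebraMap_residueField m] at h2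
    erw [Ideal.map_map] at h2
    convert h2 using 1
    · exact congrArg (fun φ => Ideal.map φ m) (RingHom.ext fun a => by simp [Algebra.smul_def])
    · simp
  · rw [Ideal.map_le_iff_le_comap]
    intro a ha
    rw [Ideal.mem_comap, RingHom.mem_ker, AlgHom.commutes, IsScalarTower.algebraMap_apply A m.ResidueField (m.Fiber B),
      (RingHom.mem_ker.1 ((Ideal.ker_algebraMap_residueField m).ge ha)), map_zero]

end Groth.Agent.Lib.Disc.Present
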