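import Groth.Agent.Lib.Disc.Square
import Mathlib.RingTheory.TensorProduct.MvPolynomial
import Mathlib.LinearAlgebra.TensorProduct.RightExactness

/-! Base change of square presentations. -/

set_option autoImplicit false

universe u

open scoped TensorProduct

namespace Groth.Agent.Lib.Disc.SquareBC

open Groth.Agent.Lib.Disc.Jacobian

theorem baseChange {A B : Type u} [CommRing A] [CommRing B] [Algebra A B]
    (L : Type u) [CommRing L] [Algebra A L] (h : Square.IsSquare A B) :
    Square.IsSquare L (L ⊗[A] B) := by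
  obtain ⟨n, ⟨P⟩⟩ := h
  let e := MvPolynomial.algebraTensorAlgEquiv (σ := Fin n) A L
  let m : L ⊗[A] MvPolynomial (Fin n) A →ₐ[L] L ⊗[A] B :=
    Algebra.TensorProduct.map (AlgHom.id L L) P.π
  refine ⟨n, ⟨⟨Fmap P.f L, m.comp e.symm.toAlgHom,
    (Algebra.TensorProduct.map_surjective _ _ Function.surjective_id P.surj).comp e.symm.surjective, ?_⟩⟩⟩
  ext p
  have hk : RingHom.ker m = (Ideal.span (Set.range P.f)).map
      (Algebra.TensorProduct.includeRight : MvPolynomial (Fin n) A →ₐ[A] L ⊗[A] MvPolynomial (Fin n) A) := by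
    rw [← P.ker_eq]
    exact Algebra.TensorProduct.lTensor_ker (A := L) P.π P.surj
  have hmap : Ideal.map e.symm.toRingEquiv.toRingHom (Ideal.span (Set.range (Fmap P.f L))) = RingHom.ker m := by
    rw [hk, Ideal.map_span, Ideal.map_span, ← Set.range_comp, ← Set.range_comp]
    congr 1
    ext i
    simp [Fmap, e]
  rw [RingHom.mem_ker, AlgHom.comp_apply]
  change m (e.symm p) = 0 ↔ p ∈ _
  rw [← RingHom.mem_ker (f := m), ← hmap]
  refine ⟨fun hp => ?_, fun hp => Ideal.mem_map_of_mem _ hp⟩
  obtain ⟨q, hq, hqp⟩ := (Ideal.mem_map_iff_of_surjective e.symm.toRingEquiv.toRingHom e.symm.surjective).1 hp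
  rwa [← e.symm.injective hqp]

end Groth.Agent.Lib.Disc.SquareBC
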