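import Groth.Agent.Lib.Disc.Present
import Groth.Agent.Lib.Disc.SquareBC
import Groth.Agent.Lib.Disc.QFSplit
import Groth.Agent.Lib.Disc.Cover
import Groth.Agent.Lib.QFDual.FlatBase
import Mathlib.RingTheory.Etale.QuasiFinite
import Mathlib.RingTheory.RingHom.Flat
import Mathlib.RingTheory.Localization.Away.Lemmas
import Mathlib.Algebra.Category.Ring.Epi
import Mathlib.AlgebraicGeometry.Morphisms.Flat
import Mathlib.AlgebraicGeometry.Morphisms.SurjectiveOnStalks
import Mathlib.AlgebraicGeometry.Morphisms.FiniteType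

/-! Étale-local charts of flat quasi-finite algebras. -/

set_option autoImplicit false
set_option linter.style.haveILetI false

universe u

open scoped TensorProduct

namespace Groth.Agent.Lib.Disc.QFChart

open AlgebraicGeometry CategoryTheory

attribute [local instance] Algebra.TensorProduct.rightAlgebra

variable {A B' B : Type u} [CommRing A] [CommRing B'] [CommRing B] [Algebra A B'] [Algebra B' B]
  [Algebra A B] [IsScalarTower A B' B]

section Open

variable (hopen : IsOpenImmersion (Spec.map (CommRingCat.ofHom (algebraMap B' B))))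
include hopen

theorem epi : Epi (CommRingCat.ofHom (algebraMap B' B)) := by
  haveI := hopen
  haveI : Mono (Scheme.Spec.map (CommRingCat.ofHom (algebraMap B' B)).op) :=
    (inferInstance : Mono (Spec.map (CommRingCat.ofHom (algebraMap B' B))))
  haveI : Mono (CommRingCat.ofHom (algebraMap B' B)).op :=
    Scheme.Spec.mono_of_mono_map (f := (CommRingCat.ofHom (algebraMap B' B)).op) inferInstance
  exact CategoryTheory.unop_epi_of_mono (CommRingCat.ofHom (algebraMap B' B)).op

theorem flat : (algebraMap B' B).Flat := by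
  haveI := hopen
  exact (HasRingHomProperty.Spec_iff (P := @AlgebraicGeometry.Flat)
    (φ := CommRingCat.ofHom (algebraMap B' B))).1 inferInstance

theorem finiteType [IsNoetherianRing A] [Module.Finite A B'] : Algebra.FiniteType A B := by
  haveI := hopen
  haveI : IsNoetherianRing B' := IsNoetherianRing.of_finite A B'
  have h : RingHom.FiniteType (algebraMap B' B) :=
    (HasRingHomProperty.Spec_iff (P := @LocallyOfFiniteType)
      (φ := CommRingCat.ofHom (algebraMap B' B))).1 inferInstance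
  haveI : Algebra.FiniteType B' B := RingHom.finiteType_algebraMap.1 h
  haveI : Algebra.FiniteType A B' := inferInstance
  exact Algebra.FiniteType.trans ‹_› ‹Algebra.FiniteType B' B›

theorem quasiFinite [IsNoetherianRing A] [Module.Finite A B'] : Algebra.QuasiFinite A B := by
  haveI := hopen
  haveI := finiteType (A := A) hopen
  rw [Algebra.QuasiFinite.iff_finite_primesOver]
  intro I hI
  have hinj : Function.Injective (PrimeSpectrum.comap (algebraMap B' B)) :=
    (Scheme.Hom.isOpenEmbedding (Spec.map (CommRingCat.ofHom (algebraMap B' B)))).injective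
  refine Set.Finite.of_finite_image ((Algebra.QuasiFinite.finite_primesOver (R := A) (S := B') I).subset ?_)
    (f := fun J : Ideal B => J.comap (algebraMap B' B)) ?_
  · rintro _ ⟨J, ⟨hJ, hJI⟩, rfl⟩
    haveI := hJ
    refine ⟨inferInstance, ⟨?_⟩⟩
    rw [hJI.over, Ideal.under, Ideal.under, Ideal.comap_comap, ← IsScalarTower.algebraMap_eq]
  · intro J hJ J' hJ' h
    exact congrArg PrimeSpectrum.asIdeal (@hinj ⟨J, hJ.1⟩ ⟨J', hJ'.1⟩ (PrimeSpectrum.ext h))

end Open

section Chart

variable (A₁ : Type u) [CommRing A₁] [Algebra A A₁] (e : A₁ ⊗[A] B)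

/-- The clopen piece of `A₁ ⊗ B`. -/
abbrev CC : Type u := (A₁ ⊗[A] B) ⧸ Ideal.span {1 - e}

theorem flat_CC [Module.Flat A A₁] (he : IsIdempotentElem e) : Module.Flat B (CC A₁ e) := by
  haveI : Module.Flat B (A₁ ⊗[A] B) :=
    Module.Flat.isBaseChange A B A₁ (A₁ ⊗[A] B)
      (Algebra.IsPushout.out (R := A) (S := B) (R' := A₁) (S' := A₁ ⊗[A] B))
  haveI : IsLocalization.Away e (CC A₁ e) :=
    IsLocalization.away_of_isIdempotentElem he Ideal.mk_ker Ideal.Quotient.mk_surjective
  haveI : Module.Flat (A₁ ⊗[A] B) (CC A₁ e) := IsLocalization.flat _ (Submonoid.powers e)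
  exact Module.Flat.trans B (A₁ ⊗[A] B) (CC A₁ e)

theorem flat_CC_base [Module.Flat A B] (he : IsIdempotentElem e) : Module.Flat A₁ (CC A₁ e) := by
  haveI : IsLocalization.Away e (CC A₁ e) :=
    IsLocalization.away_of_isIdempotentElem he Ideal.mk_ker Ideal.Quotient.mk_surjective
  haveI : Module.Flat (A₁ ⊗[A] B) (CC A₁ e) := IsLocalization.flat _ (Submonoid.powers e)
  exact Module.Flat.trans A₁ (A₁ ⊗[A] B) (CC A₁ e)

/-- The map of `A₁ ⊗ B'` onto the clopen piece. -/
noncomputable def chartMap : A₁ ⊗[A] B' →ₐ[A₁] CC A₁ e :=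
  (Ideal.Quotient.mkₐ A₁ (Ideal.span {1 - e})).comp
    (Algebra.TensorProduct.map (AlgHom.id A₁ A₁) (IsScalarTower.toAlgHom A B' B))

theorem flat_chartMap
    (hopen : IsOpenImmersion (Spec.map (CommRingCat.ofHom (algebraMap B' B))))
    (he : IsIdempotentElem e) [Algebra (A₁ ⊗[A] B') (CC A₁ e)]
    (hR : algebraMap (A₁ ⊗[A] B') (CC A₁ e) = (chartMap (B' := B') A₁ e).toRingHom) :
    Module.Flat (A₁ ⊗[A] B') (CC A₁ e) := by
  let R := A₁ ⊗[A] B'
  let ι : B' →ₐ[A] B := IsScalarTower.toAlgHom A B' B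
  let m : R →ₐ[A₁] A₁ ⊗[A] B := Algebra.TensorProduct.map (AlgHom.id A₁ A₁) ι
  have h1 : m.toRingHom.Flat := RingHom.Flat.tensorProductMap (f := AlgHom.id A₁ A₁) (g := ι)
    (RingHom.Flat.id A₁) (flat hopen)
  haveI : IsLocalization.Away e (CC A₁ e) :=
    IsLocalization.away_of_isIdempotentElem he Ideal.mk_ker Ideal.Quotient.mk_surjective
  have h2 : (Ideal.Quotient.mk (Ideal.span {1 - e}) : A₁ ⊗[A] B →+* CC A₁ e).Flat :=
    RingHom.flat_algebraMap_iff.2 (IsLocalization.flat (CC A₁ e) (Submonoid.powers e))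
  rw [← RingHom.flat_algebraMap_iff, hR]
  exact RingHom.Flat.comp h1 h2

theorem surjective_chartMap
    (hopen : IsOpenImmersion (Spec.map (CommRingCat.ofHom (algebraMap B' B))))
    [Module.Finite A₁ (CC A₁ e)] : Function.Surjective (chartMap (B' := B') A₁ e) := by
  let R := A₁ ⊗[A] B'
  let ι : B' →ₐ[A] B := IsScalarTower.toAlgHom A B' B
  let m : R →ₐ[A₁] A₁ ⊗[A] B := Algebra.TensorProduct.map (AlgHom.id A₁ A₁) ι
  let g : R →ₐ[A₁] CC A₁ e := (Ideal.Quotient.mkₐ A₁ (Ideal.span {1 - e})).comp m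
  letI : Algebra R (CC A₁ e) := g.toRingHom.toAlgebra
  haveI : IsScalarTower A₁ R (CC A₁ e) := IsScalarTower.of_algebraMap_eq' g.comp_algebraMap.symm
  haveI : Module.Finite R (CC A₁ e) := Module.Finite.of_restrictScalars_finite A₁ _ _
  change Function.Surjective (algebraMap R (CC A₁ e))
  let f := CommRingCat.ofHom (algebraMap R (CC A₁ e))
  haveI : Epi f := ⟨fun {T} φ ψ H => by
    have hh : ∀ r : R, φ.hom (g r) = ψ.hom (g r) := fun r =>
      RingHom.congr_fun (congrArg CommRingCat.Hom.hom H) r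
    let incB : B →+* CC A₁ e := algebraMap B (CC A₁ e)
    have hB : CommRingCat.ofHom (φ.hom.comp incB) = CommRingCat.ofHom (ψ.hom.comp incB) := by
      haveI := epi hopen
      refine (cancel_epi (CommRingCat.ofHom (algebraMap B' B))).1
        (CommRingCat.hom_ext (RingHom.ext fun b => ?_))
      have := hh ((1 : A₁) ⊗ₜ[A] b)
      exact this
    refine CommRingCat.hom_ext (RingHom.ext fun z => ?_)
    obtain ⟨z, rfl⟩ := Ideal.Quotient.mk_surjective z
    induction z using TensorProduct.induction_on with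
    | zero => rw [map_zero, map_zero, map_zero]
    | add x y hx hy => rw [map_add, map_add, map_add, hx, hy]
    | tmul a b =>
        have h1 := hh (a ⊗ₜ[A] (1 : B'))
        have h2 := RingHom.congr_fun (congrArg CommRingCat.Hom.hom hB) b
        rw [show a ⊗ₜ[A] b = a ⊗ₜ[A] (1 : B) * (1 : A₁) ⊗ₜ[A] b by
          rw [Algebra.TensorProduct.tmul_mul_tmul, mul_one, one_mul], map_mul, map_mul, map_mul]
        congr 1
        · have h3 : g (a ⊗ₜ[A] (1 : B')) = Ideal.Quotient.mk _ (a ⊗ₜ[A] (1 : B)) := by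
            change Ideal.Quotient.mk _ (m (a ⊗ₜ[A] (1 : B'))) = _
            rw [show m (a ⊗ₜ[A] (1 : B')) = a ⊗ₜ[A] (1 : B) from congrArg (a ⊗ₜ[A] ·) (map_one ι)]
          rwa [h3] at h1⟩
  exact RingHom.surjective_of_epi_of_finite f (RingHom.finite_algebraMap.2 inferInstance)

theorem omega_equiv [IsNoetherianRing A] [Module.Finite A B'] [IsNoetherianRing A₁] [Module.Flat A A₁]
    (hopen : IsOpenImmersion (Spec.map (CommRingCat.ofHom (algebraMap B' B))))
    (he : IsIdempotentElem e) [Module.Finite A₁ (CC A₁ e)] :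
    Nonempty (CC A₁ e ⊗[B] (B ⊗[B'] _root_.Disc.Omega A B') ≃ₗ[CC A₁ e]
      _root_.Disc.Omega A₁ (CC A₁ e)) := by
  letI : Algebra B' (CC A₁ e) := ((algebraMap B (CC A₁ e)).comp (algebraMap B' B)).toAlgebra
  haveI : IsScalarTower B' B (CC A₁ e) := IsScalarTower.of_algebraMap_eq' (R := B') (S := B) (A := CC A₁ e) rfl
  haveI : IsScalarTower A B' (CC A₁ e) := IsScalarTower.of_algebraMap_eq fun a => by
    rw [IsScalarTower.algebraMap_apply A B (CC A₁ e), IsScalarTower.algebraMap_apply A B' B]
    rfl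
  let R := A₁ ⊗[A] B'
  let ι : B' →ₐ[A] B := IsScalarTower.toAlgHom A B' B
  let m : R →ₐ[A₁] A₁ ⊗[A] B := Algebra.TensorProduct.map (AlgHom.id A₁ A₁) ι
  let g : R →ₐ[A₁] CC A₁ e := (Ideal.Quotient.mkₐ A₁ (Ideal.span {1 - e})).comp m
  letI : Algebra R (CC A₁ e) := g.toRingHom.toAlgebra
  haveI : IsScalarTower A₁ R (CC A₁ e) := IsScalarTower.of_algebraMap_eq' g.comp_algebraMap.symm
  haveI : IsScalarTower B' R (CC A₁ e) := IsScalarTower.of_algebraMap_eq fun b => by
    change algebraMap B' (CC A₁ e) b = g ((1 : A₁) ⊗ₜ[A] b)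
    simp only [g, m, AlgHom.comp_apply, Algebra.TensorProduct.map_tmul, AlgHom.id_apply]
    rw [IsScalarTower.algebraMap_apply B' B (CC A₁ e)]
    rfl
  haveI : Module.FinitePresentation A B' := Module.finitePresentation_of_finite A B'
  haveI : IsNoetherianRing R := IsNoetherianRing.of_finite A₁ R
  haveI : Module.Finite R (CC A₁ e) := Module.Finite.of_restrictScalars_finite A₁ _ _
  haveI : Module.Flat R (CC A₁ e) := flat_chartMap A₁ e hopen he rfl
  have hs : Function.Surjective (algebraMap R (CC A₁ e)) := surjective_chartMap A₁ e hopen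
  obtain ⟨θ⟩ := QFSplit.exists_equiv (A₁ := A₁) (R := R) (C := CC A₁ e) hs
  have h : Algebra.IsPushout A A₁ B' R := inferInstance
  exact ⟨((TensorProduct.AlgebraTensorModule.cancelBaseChange B' B (CC A₁ e) (CC A₁ e)
    (_root_.Disc.Omega A B')).trans
    (LinearEquiv.ofBijective (_root_.QFDual.omegaBC (B₁ := CC A₁ e) h)
      (QFDual.FlatBase.omegaBC_bijective h (CC A₁ e)))).trans θ⟩

theorem isSquare_CC [IsLocalRing A₁] [Module.Flat A B] [Algebra.FiniteType A B] [IsNoetherianRing A₁]
    (he : IsIdempotentElem e) [Module.Finite A₁ (CC A₁ e)]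
    (h : Square.IsSquare (IsLocalRing.ResidueField A₁) (IsLocalRing.ResidueField A₁ ⊗[A] B)) :
    Square.IsSquare A₁ (CC A₁ e) := by
  haveI := flat_CC_base A₁ e he
  let k := IsLocalRing.ResidueField A₁
  let r : A₁ ⊗[A] B →ₐ[A₁] k ⊗[A] B := Algebra.TensorProduct.map (Algebra.ofId A₁ k) (AlgHom.id A B)
  have hk : Function.Surjective (algebraMap A₁ k) := IsLocalRing.residue_surjective
  have hr : Function.Surjective r := Algebra.TensorProduct.map_surjective _ _ hk Function.surjective_id
  let J : Ideal (k ⊗[A] B) := Ideal.span {1 - r e}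
  have hle : Ideal.span {1 - e} ≤ J.comap r := by
    rw [Ideal.span_le, Set.singleton_subset_iff, SetLike.mem_coe, Ideal.mem_comap, map_sub, map_one]
    exact Ideal.mem_span_singleton_self _
  let ρ : CC A₁ e →ₐ[A₁] (k ⊗[A] B) ⧸ J := Ideal.quotientMapₐ J r hle
  have hρ : Function.Surjective ρ := by
    intro z
    obtain ⟨z, rfl⟩ := Ideal.Quotient.mk_surjective z
    obtain ⟨s, rfl⟩ := hr z
    exact ⟨Ideal.Quotient.mk _ s, rfl⟩
  haveI : Algebra.FinitePresentation A₁ (CC A₁ e) :=
    (Algebra.FinitePresentation.of_finiteType).1 inferInstance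
  refine Present.isSquare_of_fiber hk IsLocalRing.ker_residue ρ hρ ?_ ?_
  · refine le_antisymm (fun x hx => ?_) ?_
    · obtain ⟨s, rfl⟩ := Ideal.Quotient.mk_surjective x
      obtain ⟨d, hd⟩ := Ideal.mem_span_singleton'.1
        (Ideal.Quotient.eq_zero_iff_mem.1 (hx : Ideal.Quotient.mk J (r s) = 0))
      obtain ⟨d, rfl⟩ := hr d
      have hker : s - d * (1 - e) ∈ RingHom.ker r := by
        rw [RingHom.mem_ker, map_sub, map_mul, map_sub, map_one, hd]
        exact sub_self _
      rw [Algebra.TensorProduct.rTensor_ker (Algebra.ofId A₁ k) hk,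
        show RingHom.ker (Algebra.ofId A₁ k) = IsLocalRing.maximalIdeal A₁ from IsLocalRing.ker_residue] at hker
      have h2 := Ideal.mem_map_of_mem (Ideal.Quotient.mk (Ideal.span {1 - e})) hker
      rw [map_sub, Ideal.Quotient.eq_zero_iff_mem.2 (Ideal.mul_mem_left _ d (Ideal.mem_span_singleton_self _)),
        sub_zero] at h2
      erw [Ideal.map_map] at h2
      exact h2
    · rw [Ideal.map_le_iff_le_comap]
      intro a ha
      rw [Ideal.mem_comap, RingHom.mem_ker, AlgHom.commutes,
        IsScalarTower.algebraMap_apply A₁ k ((k ⊗[A] B) ⧸ J),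
        show algebraMap A₁ k a = 0 from RingHom.mem_ker.1 (IsLocalRing.ker_residue.ge ha), map_zero]
  · refine h.quot_idem (Ideal.Quotient.mkₐ k J) Ideal.Quotient.mk_surjective (1 - r e)
      (he.map r).one_sub ?_
    exact Ideal.Quotient.mkₐ_ker k J

end Chart

theorem fiber_square [IsNoetherianRing A] [Module.Finite A B']
    (hopen : IsOpenImmersion (Spec.map (CommRingCat.ofHom (algebraMap B' B))))
    (hfib : ∀ p : PrimeSpectrum A, Synt.IsLCIOver p.asIdeal.ResidueField (p.asIdeal.Fiber B))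
    (k : Type u) [Field k] [Algebra A k] : Square.IsSquare k (k ⊗[A] B) := by
  haveI := quasiFinite (A := A) hopen
  haveI := finiteType (A := A) hopen
  let p : Ideal A := RingHom.ker (algebraMap A k)
  haveI : p.IsPrime := RingHom.ker_isPrime _
  let j : p.ResidueField →ₐ[A] k := Ideal.ResidueField.liftₐ p (Algebra.ofId A k) le_rfl
    (fun x hx => isUnit_iff_ne_zero.2 hx)
  letI : Algebra p.ResidueField k := j.toRingHom.toAlgebra
  haveI : IsScalarTower A p.ResidueField k := IsScalarTower.of_algebraMap_eq' j.comp_algebraMap.symm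
  haveI : Module.Finite p.ResidueField (p.Fiber B) := Module.Finite.of_quasiFinite
  exact (SquareBC.baseChange k (Present.isSquare_of_isLCIOver (hfib ⟨p, inferInstance⟩))).of_equiv
    (Algebra.TensorProduct.cancelBaseChange A p.ResidueField k k B)

/-- Charts. -/
theorem exists_chart [IsNoetherianRing A] [Module.Finite A B'] [Module.Flat A B]
    (hopen : IsOpenImmersion (Spec.map (CommRingCat.ofHom (algebraMap B' B))))
    (q : Ideal B) [q.IsPrime] :
    ∃ (A₁ : Type u) (_ : CommRing A₁) (_ : Algebra A A₁) (_ : IsNoetherianRing A₁) (_ : IsLocalRing A₁)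
      (_ : Module.Flat A A₁) (e : A₁ ⊗[A] B) (_ : IsIdempotentElem e) (_ : Module.Finite A₁ (CC A₁ e)),
      q.map (algebraMap B (CC A₁ e)) ≠ ⊤ := by
  haveI := finiteType (A := A) hopen
  haveI := quasiFinite (A := A) hopen
  let p := q.under A
  obtain ⟨A', _, _, _, P, _, _, e', he', P', _, _, hP'q, heP', -, hfin, -⟩ :=
    Algebra.exists_etale_isIdempotentElem_forall_liesOver_eq (R := A) (S := B) p q
  let A₁ := Localization.AtPrime P
  haveI : Module.Flat A' A₁ := IsLocalization.flat _ P.primeCompl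
  haveI : Module.Flat A A₁ := Module.Flat.trans A A' A₁
  haveI : IsNoetherianRing A' := Algebra.FiniteType.isNoetherianRing A A'
  haveI : IsNoetherianRing A₁ := IsLocalization.isNoetherianRing P.primeCompl _ inferInstance
  let m : A' ⊗[A] B →ₐ[A'] A₁ ⊗[A] B := Algebra.TensorProduct.map (Algebra.ofId A' A₁) (AlgHom.id A B)
  let e := m e'
  have he : IsIdempotentElem e := he'.map m
  let π : A' ⊗[A] B →ₐ[A'] CC A₁ e := ((Ideal.Quotient.mkₐ A₁ _).restrictScalars A').comp m
  have hπe : π e' = 1 := by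
    change Ideal.Quotient.mk _ e = 1
    rw [← map_one (Ideal.Quotient.mk _), Ideal.Quotient.eq, Ideal.mem_span_singleton']
    exact ⟨-1, by ring⟩
  haveI : Module.Finite A₁ (CC A₁ e) := by
    let φ : Localization.Away e' →ₐ[A'] CC A₁ e :=
      IsLocalization.liftAlgHom (M := Submonoid.powers e') (f := π) (by
        rintro ⟨_, n, rfl⟩
        rw [map_pow, hπe, one_pow]
        exact isUnit_one)
    let Φ : A₁ ⊗[A'] Localization.Away e' →ₐ[A₁] CC A₁ e :=
      Algebra.TensorProduct.lift (Algebra.ofId A₁ _) φ fun _ _ => Commute.all _ _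
    refine Module.Finite.of_surjective Φ.toLinearMap fun z => ?_
    obtain ⟨z, rfl⟩ := Ideal.Quotient.mk_surjective z
    induction z using TensorProduct.induction_on with
    | zero => exact ⟨0, map_zero _⟩
    | add x y hx hy =>
        obtain ⟨x', hx'⟩ := hx
        obtain ⟨y', hy'⟩ := hy
        exact ⟨x' + y', by rw [map_add, hx', hy', map_add]⟩
    | tmul a b =>
        refine ⟨a ⊗ₜ[A'] algebraMap _ (Localization.Away e') ((1 : A') ⊗ₜ[A] b), ?_⟩
        have hφ : φ (algebraMap _ (Localization.Away e') ((1 : A') ⊗ₜ[A] b)) =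
            Ideal.Quotient.mk _ ((1 : A₁) ⊗ₜ[A] b) := by
          refine (IsLocalization.lift_eq _ _).trans ?_
          simp [π, m]
        change Φ (a ⊗ₜ[A'] _) = _
        rw [Algebra.TensorProduct.lift_tmul, hφ]
        change Ideal.Quotient.mk _ (algebraMap A₁ (A₁ ⊗[A] B) a) * _ = _
        rw [← map_mul]
        simp [Algebra.TensorProduct.tmul_mul_tmul]
  refine ⟨A₁, inferInstance, inferInstance, inferInstance, inferInstance, inferInstance, e, he,
    inferInstance, fun htop => ?_⟩
  let g : A' ⊗[A] B →ₐ[A] P'.ResidueField := IsScalarTower.toAlgHom A (A' ⊗[A] B) P'.ResidueField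
  have hu : ∀ y : P.primeCompl, IsUnit (g.comp Algebra.TensorProduct.includeLeft (y : A')) := by
    intro y
    refine isUnit_iff_ne_zero.2 fun h0 => y.2 ?_
    have h1 : algebraMap A' (A' ⊗[A] B) y ∈ P' := Ideal.algebraMap_residueField_eq_zero.1 h0
    exact (Ideal.over_def P' P).ge h1
  let lA : A₁ →ₐ[A] P'.ResidueField := IsLocalization.liftAlgHom (M := P.primeCompl) hu
  let ψ : A₁ ⊗[A] B →ₐ[A] P'.ResidueField :=
    Algebra.TensorProduct.productMap lA (g.comp Algebra.TensorProduct.includeRight)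
  have hψm : ∀ z, ψ (m z) = g z := by
    intro z
    induction z using TensorProduct.induction_on with
    | zero => simp
    | add x y hx hy => simp only [map_add, hx, hy]
    | tmul a b =>
        simp only [m, Algebra.TensorProduct.map_tmul, AlgHom.id_apply, ψ,
          Algebra.TensorProduct.productMap_apply_tmul, AlgHom.comp_apply]
        rw [show lA (Algebra.ofId A' A₁ a) = g (a ⊗ₜ[A] (1 : B)) from IsLocalization.lift_eq _ a,
          ← map_mul]
        simp [Algebra.TensorProduct.tmul_mul_tmul]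
  have hge : g e' = 1 := by
    have hne : g e' ≠ 0 := fun h0 => heP' (Ideal.algebraMap_residueField_eq_zero.1 h0)
    exact mul_left_cancel₀ hne (by rw [mul_one, ← map_mul, he'.eq])
  let χ : CC A₁ e →+* P'.ResidueField := Ideal.Quotient.lift _ ψ.toRingHom (by
    intro a ha
    obtain ⟨d, rfl⟩ := Ideal.mem_span_singleton'.1 ha
    change ψ (d * (1 - m e')) = 0
    rw [map_mul, map_sub, map_one, hψm, hge, sub_self, mul_zero])
  have hle : q.map (algebraMap B (CC A₁ e)) ≤ RingHom.ker χ := by
    rw [Ideal.map_le_iff_le_comap]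
    intro b hb
    rw [Ideal.mem_comap, RingHom.mem_ker]
    change ψ ((1 : A₁) ⊗ₜ[A] b) = 0
    rw [show ψ ((1 : A₁) ⊗ₜ[A] b) = g ((1 : A') ⊗ₜ[A] b) by simp [ψ]]
    rw [← hP'q] at hb
    exact Ideal.algebraMap_residueField_eq_zero.2 hb
  rw [htop] at hle
  exact RingHom.ker_ne_top χ (top_le_iff.1 hle)

end Groth.Agent.Lib.Disc.QFChart
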