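import Groth.Agent.Lib.Disc.OmegaBC
import Groth.Agent.Lib.Disc.QFChart
import Groth.Agent.Lib.Disc.QFOmega
import Mathlib.RingTheory.Finiteness.ModuleFinitePresentation

/-! Base change of `ω` of a flat quasi-finite algebra. -/

set_option autoImplicit false
set_option linter.style.haveILetI false

universe u

open scoped TensorProduct

namespace Groth.Agent.Lib.Disc.QFBC

attribute [local instance] Algebra.TensorProduct.rightAlgebra

section Abstract

variable {A B' A₁ B'₁ A' R A'' R'' C C₁ : Type u} [CommRing A] [CommRing B'] [CommRing A₁]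
  [CommRing B'₁] [CommRing A'] [CommRing R] [CommRing A''] [CommRing R''] [CommRing C] [CommRing C₁]
  [Algebra A B'] [Algebra A A₁] [Algebra B' B'₁] [Algebra A₁ B'₁] [Algebra A B'₁]
  [IsScalarTower A A₁ B'₁] [IsScalarTower A B' B'₁]
  [Algebra A A'] [Algebra A' R] [Algebra B' R] [Algebra A R] [IsScalarTower A A' R] [IsScalarTower A B' R]
  [Algebra A A''] [Algebra A₁ A''] [Algebra A' A''] [IsScalarTower A A₁ A''] [IsScalarTower A A' A'']
  [Algebra A'' R''] [Algebra B'₁ R''] [Algebra A₁ R''] [IsScalarTower A₁ A'' R''] [IsScalarTower A₁ B'₁ R'']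
  [Algebra B' R''] [IsScalarTower B' B'₁ R''] [Algebra A R''] [IsScalarTower A A'' R''] [IsScalarTower A B' R'']
  [Algebra A' R''] [Algebra R R''] [IsScalarTower A' A'' R''] [IsScalarTower A' R R''] [IsScalarTower B' R R'']
  [Algebra R C] [Algebra A' C] [IsScalarTower A' R C]
  [Algebra R'' C₁] [Algebra A'' C₁] [IsScalarTower A'' R'' C₁] [Algebra C C₁] [Algebra A' C₁]
  [IsScalarTower A' C C₁] [IsScalarTower A' A'' C₁] [Algebra R C₁] [IsScalarTower R R'' C₁]
  [IsScalarTower R C C₁]
  [Algebra B'₁ C₁] [IsScalarTower B'₁ R'' C₁] [Algebra B' C₁] [IsScalarTower B' B'₁ C₁]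
  [IsScalarTower B' R'' C₁] [IsScalarTower B' R C₁]

theorem bijective_chart [Module.FinitePresentation A B'] [Module.FinitePresentation A₁ B'₁]
    [Module.Flat A A'] [Module.Flat A₁ A''] [Module.Finite A' C] [Module.Free A' C]
    (h : Algebra.IsPushout A A₁ B' B'₁) (hR : Algebra.IsPushout A A' B' R)
    (h1 : Algebra.IsPushout A₁ A'' B'₁ R'') (hbig : Algebra.IsPushout A A'' B' R'')
    (h2 : Algebra.IsPushout A' A'' R R'') (hC : Algebra.IsPushout A' A'' C C₁)
    (hs : Function.Surjective (algebraMap R C)) {ε : R} (hε : IsIdempotentElem ε)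
    (hker : RingHom.ker (algebraMap R C) = Ideal.span {ε}) :
    Function.Bijective (_root_.QFDual.omegaBC (B₁ := C₁) h) := by
  have hb1 := QFDual.FlatBase.omegaBC_bijective h1 C₁
  have hbR := QFDual.FlatBase.omegaBC_bijective hR C₁
  have hb2 := OmegaBC.omegaBC_bijective_split h2 hC hs hε hker
  have e1 : (_root_.QFDual.omegaBC (B₁ := C₁) h1) ∘ (_root_.QFDual.omegaBC (B₁ := C₁) h) =
      (_root_.QFDual.omegaBC (B₁ := C₁) h2) ∘ (_root_.QFDual.omegaBC (B₁ := C₁) hR) :=
    funext fun z => (OmegaBC.omegaBC_comp h h1 hbig C₁ z).trans (OmegaBC.omegaBC_comp hR h2 hbig C₁ z).symm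
  exact (Function.Bijective.of_comp_iff' hb1 _).1 (e1 ▸ hb2.comp hbR)

end Abstract

section Chart

variable {A B' B A₁ B'₁ B₁ : Type u} [CommRing A] [CommRing B'] [CommRing B] [CommRing A₁]
  [CommRing B'₁] [CommRing B₁] [IsNoetherianRing A] [IsNoetherianRing A₁]
  [Algebra A B'] [Algebra B' B] [Algebra A B] [IsScalarTower A B' B] [Module.Flat A B] [Module.Finite A B']
  [Algebra A A₁] [Algebra B' B'₁] [Algebra A₁ B'₁] [Algebra A B'₁]
  [IsScalarTower A A₁ B'₁] [IsScalarTower A B' B'₁]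
  [Algebra B B₁] [Algebra A₁ B₁] [Algebra A B₁] [IsScalarTower A A₁ B₁] [IsScalarTower A B B₁]
  [Algebra B'₁ B₁] [Algebra B' B₁] [IsScalarTower B' B'₁ B₁] [IsScalarTower B' B B₁]
  [IsScalarTower A₁ B'₁ B₁]
  (h : Algebra.IsPushout A A₁ B' B'₁) (hB : Algebra.IsPushout A A₁ B B₁)
  {A' : Type u} [CommRing A'] [Algebra A A'] [Module.Flat A A']
  {C C₁ : Type u} [CommRing C] [CommRing C₁] [Algebra A C] [Algebra B C] [IsScalarTower A B C]
  [Algebra A' C] [IsScalarTower A A' C] [Module.Finite A' C] [Module.Free A' C]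
  [Algebra (A' ⊗[A] B') C] [IsScalarTower A' (A' ⊗[A] B') C]
  [Algebra B' C] [IsScalarTower B' (A' ⊗[A] B') C] [IsScalarTower B' B C]
  [Algebra C C₁] [Algebra B₁ C₁] [Algebra B C₁] [IsScalarTower B C C₁] [IsScalarTower B B₁ C₁]
  [Algebra A C₁] [IsScalarTower A C C₁] [Algebra A' C₁] [IsScalarTower A' C C₁]
  [IsScalarTower A A' C₁]
  [Algebra B'₁ C₁] [IsScalarTower B'₁ B₁ C₁] [Algebra B' C₁] [IsScalarTower B' B'₁ C₁]

include hB in
theorem bijective_piece (hBC : Algebra.IsPushout B C B₁ C₁)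
    (hs : Function.Surjective (algebraMap (A' ⊗[A] B') C)) {ε : A' ⊗[A] B'} (hε : IsIdempotentElem ε)
    (hker : RingHom.ker (algebraMap (A' ⊗[A] B') C) = Ideal.span {ε}) :
    Function.Bijective (_root_.QFDual.omegaBC (B₁ := C₁) h) := by
  haveI := h
  haveI := hB
  let R := A' ⊗[A] B'
  let A'' := A' ⊗[A] A₁
  let R'' := A'' ⊗[A₁] B'₁
  -- R → R''
  letI : Algebra B' R'' := ((algebraMap B'₁ R'').comp (algebraMap B' B'₁)).toAlgebra
  haveI : IsScalarTower B' B'₁ R'' := IsScalarTower.of_algebraMap_eq' (R := B') (S := B'₁) (A := R'') rfl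
  haveI : IsScalarTower A A₁ R'' := inferInstance
  haveI : IsScalarTower A B' R'' := IsScalarTower.of_algebraMap_eq (R := A) (S := B') (A := R'') fun a => by
    change algebraMap A R'' a = algebraMap B'₁ R'' (algebraMap B' B'₁ (algebraMap A B' a))
    rw [← IsScalarTower.algebraMap_apply A B' B'₁, IsScalarTower.algebraMap_apply A A₁ B'₁,
      ← IsScalarTower.algebraMap_apply A₁ B'₁ R'', ← IsScalarTower.algebraMap_apply A A₁ R'']
  let f : R →ₐ[A] R'' := Algebra.TensorProduct.productMap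
    ((IsScalarTower.toAlgHom A A'' R'').comp (Algebra.TensorProduct.includeLeft : A' →ₐ[A] A''))
    (IsScalarTower.toAlgHom A B' R'')
  letI : Algebra R R'' := f.toRingHom.toAlgebra
  haveI : IsScalarTower A' R R'' := IsScalarTower.of_algebraMap_eq (R := A') (S := R) (A := R'') fun a => by
    change _ = f (a ⊗ₜ[A] 1)
    rw [Algebra.TensorProduct.productMap_apply_tmul, map_one, mul_one]
    rfl
  haveI : IsScalarTower B' R R'' := IsScalarTower.of_algebraMap_eq (R := B') (S := R) (A := R'') fun b => by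
    change _ = f ((1 : A') ⊗ₜ[A] b)
    rw [Algebra.TensorProduct.productMap_apply_tmul, map_one, one_mul]
    rfl
  -- A'' → C₁
  letI : Algebra A₁ C₁ := ((algebraMap B₁ C₁).comp (algebraMap A₁ B₁)).toAlgebra
  haveI : IsScalarTower A₁ B₁ C₁ := IsScalarTower.of_algebraMap_eq' (R := A₁) (S := B₁) (A := C₁) rfl
  haveI : IsScalarTower A B C₁ := IsScalarTower.of_algebraMap_eq (R := A) (S := B) (A := C₁) fun a => by
    rw [IsScalarTower.algebraMap_apply A C C₁, IsScalarTower.algebraMap_apply A B C,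
      ← IsScalarTower.algebraMap_apply B C C₁]
  haveI : IsScalarTower A A₁ C₁ := IsScalarTower.of_algebraMap_eq (R := A) (S := A₁) (A := C₁) fun a => by
    change algebraMap A C₁ a = algebraMap B₁ C₁ (algebraMap A₁ B₁ (algebraMap A A₁ a))
    rw [← IsScalarTower.algebraMap_apply A A₁ B₁, IsScalarTower.algebraMap_apply A B B₁,
      ← IsScalarTower.algebraMap_apply B B₁ C₁, ← IsScalarTower.algebraMap_apply A B C₁]
  let g : A'' →ₐ[A] C₁ := Algebra.TensorProduct.productMap
    (IsScalarTower.toAlgHom A A' C₁) (IsScalarTower.toAlgHom A A₁ C₁)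
  letI : Algebra A'' C₁ := g.toRingHom.toAlgebra
  haveI : IsScalarTower A' A'' C₁ := IsScalarTower.of_algebraMap_eq (R := A') (S := A'') (A := C₁) fun a => by
    change _ = g (a ⊗ₜ[A] 1)
    rw [Algebra.TensorProduct.productMap_apply_tmul, map_one, mul_one]
    rfl
  haveI : IsScalarTower A₁ A'' C₁ := IsScalarTower.of_algebraMap_eq (R := A₁) (S := A'') (A := C₁) fun a => by
    change _ = g ((1 : A') ⊗ₜ[A] a)
    rw [Algebra.TensorProduct.productMap_apply_tmul, map_one, one_mul]
    rfl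
  haveI : IsScalarTower A₁ B'₁ C₁ := IsScalarTower.of_algebraMap_eq (R := A₁) (S := B'₁) (A := C₁) fun a => by
    rw [IsScalarTower.algebraMap_apply B'₁ B₁ C₁, ← IsScalarTower.algebraMap_apply A₁ B'₁ B₁,
      ← IsScalarTower.algebraMap_apply A₁ B₁ C₁]
  haveI : IsScalarTower B' B C₁ := IsScalarTower.of_algebraMap_eq (R := B') (S := B) (A := C₁) fun b => by
    rw [IsScalarTower.algebraMap_apply B' B'₁ C₁, IsScalarTower.algebraMap_apply B'₁ B₁ C₁,
      ← IsScalarTower.algebraMap_apply B' B'₁ B₁, IsScalarTower.algebraMap_apply B' B B₁,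
      ← IsScalarTower.algebraMap_apply B B₁ C₁]
  -- R'' → C₁
  let k : R'' →ₐ[A₁] C₁ := Algebra.TensorProduct.productMap
    (IsScalarTower.toAlgHom A₁ A'' C₁) (IsScalarTower.toAlgHom A₁ B'₁ C₁)
  letI : Algebra R'' C₁ := k.toRingHom.toAlgebra
  haveI : IsScalarTower A'' R'' C₁ := IsScalarTower.of_algebraMap_eq (R := A'') (S := R'') (A := C₁) fun a => by
    change _ = k (a ⊗ₜ[A₁] 1)
    rw [Algebra.TensorProduct.productMap_apply_tmul, map_one, mul_one]
    rfl
  haveI : IsScalarTower B'₁ R'' C₁ := IsScalarTower.of_algebraMap_eq (R := B'₁) (S := R'') (A := C₁) fun b => by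
    change _ = k ((1 : A'') ⊗ₜ[A₁] b)
    rw [Algebra.TensorProduct.productMap_apply_tmul, map_one, one_mul]
    rfl
  haveI : IsScalarTower B' R'' C₁ := IsScalarTower.of_algebraMap_eq (R := B') (S := R'') (A := C₁) fun b => by
    rw [IsScalarTower.algebraMap_apply B' B'₁ R'', ← IsScalarTower.algebraMap_apply B'₁ R'' C₁,
      ← IsScalarTower.algebraMap_apply B' B'₁ C₁]
  letI : Algebra R C₁ := ((algebraMap C C₁).comp (algebraMap R C)).toAlgebra
  haveI : IsScalarTower R C C₁ := IsScalarTower.of_algebraMap_eq' (R := R) (S := C) (A := C₁) rfl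
  have hRC : ∀ b : B', algebraMap R C ((1 : A') ⊗ₜ[A] b) = algebraMap B C (algebraMap B' B b) := fun b =>
    (IsScalarTower.algebraMap_apply B' R C b).symm.trans (IsScalarTower.algebraMap_apply B' B C b)
  haveI : IsScalarTower B' R C₁ := IsScalarTower.of_algebraMap_eq (R := B') (S := R) (A := C₁) fun b => by
    change algebraMap B' C₁ b = algebraMap C C₁ (algebraMap R C ((1 : A') ⊗ₜ[A] b))
    rw [hRC, ← IsScalarTower.algebraMap_apply B C C₁, ← IsScalarTower.algebraMap_apply B' B C₁]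
  haveI : IsScalarTower A' A'' R'' := inferInstance
  haveI : IsScalarTower R R'' C₁ := IsScalarTower.of_algebraMap_eq' (R := R) (S := R'') (A := C₁) (by
    refine Algebra.TensorProduct.ringHom_ext ?_ ?_
    · refine RingHom.ext fun a => ?_
      change algebraMap R C₁ (algebraMap A' R a) = algebraMap R'' C₁ (algebraMap R R'' (algebraMap A' R a))
      rw [← IsScalarTower.algebraMap_apply A' R R'', IsScalarTower.algebraMap_apply A' A'' R'',
        ← IsScalarTower.algebraMap_apply A'' R'' C₁, ← IsScalarTower.algebraMap_apply A' A'' C₁,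
        IsScalarTower.algebraMap_apply R C C₁, ← IsScalarTower.algebraMap_apply A' R C,
        ← IsScalarTower.algebraMap_apply A' C C₁]
    · refine RingHom.ext fun b => ?_
      change algebraMap R C₁ (algebraMap B' R b) = algebraMap R'' C₁ (algebraMap R R'' (algebraMap B' R b))
      rw [← IsScalarTower.algebraMap_apply B' R R'', ← IsScalarTower.algebraMap_apply B' R'' C₁,
        ← IsScalarTower.algebraMap_apply B' R C₁])
  haveI : IsScalarTower A B'₁ R'' := IsScalarTower.of_algebraMap_eq (R := A) (S := B'₁) (A := R'') fun a => by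
    rw [IsScalarTower.algebraMap_apply A A₁ R'', IsScalarTower.algebraMap_apply A A₁ B'₁,
      ← IsScalarTower.algebraMap_apply A₁ B'₁ R'']
  haveI : IsScalarTower A B₁ C₁ := IsScalarTower.of_algebraMap_eq (R := A) (S := B₁) (A := C₁) fun a => by
    rw [IsScalarTower.algebraMap_apply A B C₁, IsScalarTower.algebraMap_apply A B B₁,
      ← IsScalarTower.algebraMap_apply B B₁ C₁]
  -- pushouts
  have hR : Algebra.IsPushout A A' B' R := inferInstance
  haveI := hR
  have h1 : Algebra.IsPushout A₁ A'' B'₁ R'' := inferInstance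
  have hbig : Algebra.IsPushout A A'' B' R'' :=
    (Algebra.IsPushout.comp_iff A A₁ B' B'₁ (T := A'') (T' := R'')).2 h1
  have h2 : Algebra.IsPushout A' A'' R R'' :=
    (Algebra.IsPushout.comp_iff A A' B' R (T := A'') (T' := R'')).1 hbig
  haveI hAA : Algebra.IsPushout A A' A₁ A'' := inferInstance
  haveI := hB.symm
  have hAC : Algebra.IsPushout A C A₁ C₁ :=
    (Algebra.IsPushout.comp_iff A B A₁ B₁ (T := C) (T' := C₁)).2 hBC
  have hC : Algebra.IsPushout A' A'' C C₁ :=
    ((Algebra.IsPushout.comp_iff A A' A₁ A'' (T := C) (T' := C₁)).1 hAC).symm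
  haveI : Module.FinitePresentation A B' := Module.finitePresentation_of_finite _ _
  haveI : Module.Finite A₁ B'₁ := Module.Finite.equiv (Algebra.IsPushout.equiv A A₁ B' B'₁).toLinearEquiv
  haveI : Module.FinitePresentation A₁ B'₁ := Module.finitePresentation_of_finite _ _
  haveI : Module.Flat A₁ A'' :=
    Module.Flat.isBaseChange A A₁ A' A'' (Algebra.IsPushout.out (R := A) (S := A₁) (R' := A') (S' := A''))
  exact bijective_chart h hR h1 hbig h2 hC hs hε hker

include hB in
theorem bijective_lTensor_piece [IsScalarTower B' B₁ C₁] (hBC : Algebra.IsPushout B C B₁ C₁)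
    (hs : Function.Surjective (algebraMap (A' ⊗[A] B') C)) {ε : A' ⊗[A] B'} (hε : IsIdempotentElem ε)
    (hker : RingHom.ker (algebraMap (A' ⊗[A] B') C) = Ideal.span {ε}) :
    Function.Bijective ((_root_.QFDual.omegaBC (B₁ := B₁) h).lTensor C₁) := by
  have hb := bijective_piece (C₁ := C₁) h hB hBC hs hε hker
  refine (Function.Bijective.of_comp_iff' (LinearEquiv.bijective
    (TensorProduct.AlgebraTensorModule.cancelBaseChange B'₁ B₁ C₁ C₁ (_root_.Disc.Omega A₁ B'₁))) _).1 ?_
  rw [show (TensorProduct.AlgebraTensorModule.cancelBaseChange B'₁ B₁ C₁ C₁ (_root_.Disc.Omega A₁ B'₁)) ∘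
      ((_root_.QFDual.omegaBC (B₁ := B₁) h).lTensor C₁) = _ from
    funext fun z => OmegaBC.omegaBC_lTensor h (C := C₁) z]
  exact hb.comp (LinearEquiv.bijective _)

end Chart


section Cover

variable {B B₁ : Type u} [CommRing B] [CommRing B₁] [Algebra B B₁]
  {X Y : Type u} [AddCommGroup X] [Module B₁ X] [AddCommGroup Y] [Module B₁ Y] (F : X →ₗ[B₁] Y)

theorem bijective_of_cover
    (hcov : ∀ q : Ideal B, q.IsMaximal → ∃ (C : Type u) (_ : CommRing C) (_ : Algebra B C)
      (_ : Module.Flat B C), q.map (algebraMap B C) ≠ ⊤ ∧ Function.Bijective (F.lTensor (C ⊗[B] B₁))) :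
    Function.Bijective F := by
  letI : Module B X := Module.compHom X (algebraMap B B₁)
  letI : Module B Y := Module.compHom Y (algebraMap B B₁)
  haveI : IsScalarTower B B₁ X := IsScalarTower.of_algebraMap_smul fun _ _ => rfl
  haveI : IsScalarTower B B₁ Y := IsScalarTower.of_algebraMap_smul fun _ _ => rfl
  constructor
  · refine (injective_iff_map_eq_zero _).2 fun z hz => Cover.eq_zero_of_cover (B := B) z fun q hq => ?_
    obtain ⟨C, _, _, _, hne, hbij⟩ := hcov q hq
    refine ⟨C, inferInstance, inferInstance, inferInstance, hne, ?_⟩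
    have h0 : (1 : C ⊗[B] B₁) ⊗ₜ[B₁] z = 0 := hbij.1 (by
      rw [LinearMap.lTensor_tmul, hz, TensorProduct.tmul_zero, map_zero])
    have := congrArg (Algebra.IsPushout.cancelBaseChange B C B₁ (C ⊗[B] B₁) X) h0
    rwa [Algebra.IsPushout.cancelBaseChange_tmul, map_zero] at this
  · intro y
    suffices hy : Submodule.Quotient.mk (p := LinearMap.range F) y = 0 by
      exact LinearMap.mem_range.1 ((Submodule.Quotient.mk_eq_zero _).1 hy)
    refine Cover.eq_zero_of_cover (B := B) _ fun q hq => ?_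
    obtain ⟨C, _, _, _, hne, hbij⟩ := hcov q hq
    refine ⟨C, inferInstance, inferInstance, inferInstance, hne, ?_⟩
    obtain ⟨w, hw⟩ := hbij.2 ((1 : C ⊗[B] B₁) ⊗ₜ[B₁] y)
    have hzero : (LinearMap.range F).mkQ.lTensor (C ⊗[B] B₁) (F.lTensor (C ⊗[B] B₁) w) = 0 := by
      rw [← LinearMap.lTensor_comp_apply, LinearMap.range_mkQ_comp, LinearMap.lTensor_zero, LinearMap.zero_apply]
    rw [hw, LinearMap.lTensor_tmul] at hzero
    have := congrArg (Algebra.IsPushout.cancelBaseChange B C B₁ (C ⊗[B] B₁) _) hzero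
    rwa [Algebra.IsPushout.cancelBaseChange_tmul, map_zero] at this

end Cover

section Main

variable {A B' B A₁ B'₁ B₁ : Type u} [CommRing A] [CommRing B'] [CommRing B] [CommRing A₁]
  [CommRing B'₁] [CommRing B₁] [IsNoetherianRing A] [IsNoetherianRing A₁]
  [Algebra A B'] [Algebra B' B] [Algebra A B] [IsScalarTower A B' B] [Module.Flat A B] [Module.Finite A B']
  [Algebra A A₁] [Algebra B' B'₁] [Algebra A₁ B'₁] [Algebra A B'₁]
  [IsScalarTower A A₁ B'₁] [IsScalarTower A B' B'₁]
  [Algebra B B₁] [Algebra A₁ B₁] [Algebra A B₁] [IsScalarTower A A₁ B₁] [IsScalarTower A B B₁]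
  [Algebra B'₁ B₁] [Algebra B' B₁] [IsScalarTower B' B'₁ B₁] [IsScalarTower B' B B₁]
  [IsScalarTower A₁ B'₁ B₁]

open AlgebraicGeometry in
/-- For a flat quasi-finite algebra, the formation of `ω` commutes with arbitrary base change. -/
theorem omegaBC_bijective (hopen : IsOpenImmersion (Spec.map (CommRingCat.ofHom (algebraMap B' B))))
    (h : Algebra.IsPushout A A₁ B' B'₁) (hB : Algebra.IsPushout A A₁ B B₁) :
    Function.Bijective (_root_.QFDual.omegaBC (B₁ := B₁) h) := by
  refine bijective_of_cover (B := B) _ fun q hq => ?_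
  haveI := hq.isPrime
  obtain ⟨A', _, _, _, _, _, e, he, hfin, hne⟩ := QFChart.exists_chart (A := A) hopen q
  haveI := hfin
  refine ⟨QFChart.CC A' e, inferInstance, inferInstance, QFChart.flat_CC A' e he, hne, ?_⟩
  letI : Algebra (A' ⊗[A] B') (QFChart.CC A' e) := (QFChart.chartMap (B' := B') A' e).toRingHom.toAlgebra
  haveI : IsScalarTower A' (A' ⊗[A] B') (QFChart.CC A' e) :=
    IsScalarTower.of_algebraMap_eq' (R := A') (S := A' ⊗[A] B') (A := QFChart.CC A' e)
      (QFChart.chartMap (B' := B') A' e).comp_algebraMap.symm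
  haveI : Module.Flat (A' ⊗[A] B') (QFChart.CC A' e) := QFChart.flat_chartMap A' e hopen he rfl
  have hs : Function.Surjective (algebraMap (A' ⊗[A] B') (QFChart.CC A' e)) :=
    QFChart.surjective_chartMap A' e hopen
  haveI : IsNoetherianRing (A' ⊗[A] B') := IsNoetherianRing.of_finite A' _
  obtain ⟨ε, hε, hker⟩ := QFSplit.exists_idem hs
  haveI : Module.Free A' (QFChart.CC A' e) := by
    haveI := QFChart.flat_CC_base A' e he
    haveI : Module.FinitePresentation A' (QFChart.CC A' e) := Module.finitePresentation_of_finite _ _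
    exact Module.free_of_flat_of_isLocalRing
  letI : Algebra B' (QFChart.CC A' e) :=
    ((algebraMap B (QFChart.CC A' e)).comp (algebraMap B' B)).toAlgebra
  haveI : IsScalarTower B' B (QFChart.CC A' e) :=
    IsScalarTower.of_algebraMap_eq' (R := B') (S := B) (A := QFChart.CC A' e) rfl
  haveI : IsScalarTower B' (A' ⊗[A] B') (QFChart.CC A' e) :=
    IsScalarTower.of_algebraMap_eq (R := B') (S := A' ⊗[A] B') (A := QFChart.CC A' e) fun b => rfl
  letI : Algebra B'₁ (QFChart.CC A' e ⊗[B] B₁) :=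
    ((algebraMap B₁ (QFChart.CC A' e ⊗[B] B₁)).comp (algebraMap B'₁ B₁)).toAlgebra
  haveI : IsScalarTower B'₁ B₁ (QFChart.CC A' e ⊗[B] B₁) :=
    IsScalarTower.of_algebraMap_eq' (R := B'₁) (S := B₁) (A := QFChart.CC A' e ⊗[B] B₁) rfl
  haveI : IsScalarTower B' B₁ (QFChart.CC A' e ⊗[B] B₁) :=
    IsScalarTower.of_algebraMap_eq (R := B') (S := B₁) (A := QFChart.CC A' e ⊗[B] B₁) fun b => by
      rw [IsScalarTower.algebraMap_apply B' (QFChart.CC A' e) (QFChart.CC A' e ⊗[B] B₁),
        IsScalarTower.algebraMap_apply B' B (QFChart.CC A' e),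
        ← IsScalarTower.algebraMap_apply B (QFChart.CC A' e) (QFChart.CC A' e ⊗[B] B₁),
        IsScalarTower.algebraMap_apply B B₁ (QFChart.CC A' e ⊗[B] B₁),
        ← IsScalarTower.algebraMap_apply B' B B₁]
  haveI : IsScalarTower B' B'₁ (QFChart.CC A' e ⊗[B] B₁) :=
    IsScalarTower.of_algebraMap_eq (R := B') (S := B'₁) (A := QFChart.CC A' e ⊗[B] B₁) fun b => by
      rw [IsScalarTower.algebraMap_apply B'₁ B₁ (QFChart.CC A' e ⊗[B] B₁),
        ← IsScalarTower.algebraMap_apply B' B'₁ B₁,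
        ← IsScalarTower.algebraMap_apply B' B₁ (QFChart.CC A' e ⊗[B] B₁)]
  exact bijective_lTensor_piece (A' := A') (C := QFChart.CC A' e) (C₁ := QFChart.CC A' e ⊗[B] B₁) h hB
    inferInstance hs hε hker

end Main

end Groth.Agent.Lib.Disc.QFBC
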