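import Groth.Agent.Lib.Disc.QFBC
import Groth.Agent.Lib.Disc.Fibre
import Groth.Agent.S8944

/-! Invertibility of `ω` is a fibrewise condition. -/

set_option autoImplicit false
set_option linter.style.haveILetI false

universe u

open scoped TensorProduct

namespace Groth.Agent.Lib.Disc.QFInv

attribute [local instance] Algebra.TensorProduct.rightAlgebra

open AlgebraicGeometry

variable {A B' B : Type u} [CommRing A] [CommRing B'] [CommRing B] [IsNoetherianRing A]
  [Algebra A B'] [Algebra B' B] [Algebra A B] [IsScalarTower A B' B] [Module.Flat A B] [Module.Finite A B']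

section Fibre

variable {A₁ B'₁ B₁ : Type u} [CommRing A₁] [CommRing B'₁] [CommRing B₁] [IsNoetherianRing A₁]
  [Algebra A A₁] [Algebra B' B'₁] [Algebra A₁ B'₁] [Algebra A B'₁]
  [IsScalarTower A A₁ B'₁] [IsScalarTower A B' B'₁]
  [Algebra B B₁] [Algebra A₁ B₁] [Algebra A B₁] [IsScalarTower A A₁ B₁] [IsScalarTower A B B₁]
  [Algebra B'₁ B₁] [Algebra B' B₁] [IsScalarTower B' B'₁ B₁] [IsScalarTower B' B B₁]
  [IsScalarTower A₁ B'₁ B₁]
  (hopen : IsOpenImmersion (Spec.map (CommRingCat.ofHom (algebraMap B' B))))
  (h : Algebra.IsPushout A A₁ B' B'₁) (hB : Algebra.IsPushout A A₁ B B₁)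

include hopen h hB

theorem invertible_fibre [Module.Invertible B (_root_.QFDual.omega A B' B)] :
    Module.Invertible B₁ (_root_.QFDual.omega A₁ B'₁ B₁) :=
  Module.Invertible.congr
    ((TensorProduct.AlgebraTensorModule.cancelBaseChange B' B B₁ B₁ (_root_.Disc.Omega A B')).trans
      (LinearEquiv.ofBijective _ (QFBC.omegaBC_bijective hopen h hB)))

theorem free_fibre_equiv [Module.Invertible B₁ (_root_.QFDual.omega A₁ B'₁ B₁)]
    (D : Type u) [CommRing D] [IsLocalRing D] [Algebra B D] [Algebra B₁ D] [Algebra B' D]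
    [IsScalarTower B B₁ D] [IsScalarTower B' B D] [IsScalarTower B' B₁ D] :
    Nonempty (D ⊗[B] _root_.QFDual.omega A B' B ≃ₗ[D] D) := by
  let e := ((TensorProduct.AlgebraTensorModule.cancelBaseChange B' B D D (_root_.Disc.Omega A B')).trans
    (TensorProduct.AlgebraTensorModule.cancelBaseChange B' B₁ D D (_root_.Disc.Omega A B')).symm).trans
    (TensorProduct.AlgebraTensorModule.congr (LinearEquiv.refl D D)
      (LinearEquiv.ofBijective _ (QFBC.omegaBC_bijective hopen h hB)))
  haveI : Module.FinitePresentation D (D ⊗[B₁] _root_.QFDual.omega A₁ B'₁ B₁) :=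
    Module.finitePresentation_of_projective _ _
  haveI : Module.Free D (D ⊗[B₁] _root_.QFDual.omega A₁ B'₁ B₁) := Module.free_of_flat_of_isLocalRing
  obtain ⟨f⟩ := Module.Invertible.free_iff_linearEquiv.1 ‹Module.Free D (D ⊗[B₁] _root_.QFDual.omega A₁ B'₁ B₁)›
  exact ⟨e.trans f⟩

end Fibre

theorem invertible_of_fibres [IsNoetherianRing B]
    (hopen : IsOpenImmersion (Spec.map (CommRingCat.ofHom (algebraMap B' B))))
    (H : ∀ (p : Ideal A) [p.IsPrime] (B'₁ B₁ : Type u) [CommRing B'₁] [CommRing B₁] [Algebra B' B'₁]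
      [Algebra p.ResidueField B'₁] [Algebra A B'₁] [IsScalarTower A p.ResidueField B'₁]
      [IsScalarTower A B' B'₁] [Algebra B B₁] [Algebra p.ResidueField B₁] [Algebra A B₁]
      [IsScalarTower A p.ResidueField B₁] [IsScalarTower A B B₁] [Algebra B'₁ B₁] [Algebra B' B₁]
      [IsScalarTower B' B'₁ B₁] [IsScalarTower B' B B₁] [IsScalarTower p.ResidueField B'₁ B₁],
      Algebra.IsPushout A p.ResidueField B' B'₁ → Algebra.IsPushout A p.ResidueField B B₁ →
        Module.Invertible B₁ (_root_.QFDual.omega p.ResidueField B'₁ B₁)) :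
    Module.Invertible B (_root_.QFDual.omega A B' B) := by
  haveI : Module.Finite B' (_root_.Disc.Omega A B') := QFOmega.finite_omega A B'
  haveI : Module.Finite B (_root_.QFDual.omega A B' B) := Module.Finite.base_change B' B _
  haveI : Module.Flat A (_root_.QFDual.omega A B' B) := Groth.Agent.S8944.result A B B' hopen
  refine Fibre.invertible_of_fibres (A := A) fun q hq => ?_
  haveI := hq
  haveI : Nontrivial (Localization.AtPrime q ⧸ (q.under A).map (algebraMap A (Localization.AtPrime q))) := by
    refine Ideal.Quotient.nontrivial_iff.2 (ne_top_of_le_ne_top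
      (IsLocalRing.maximalIdeal.isMaximal (Localization.AtPrime q)).ne_top (Ideal.map_le_iff_le_comap.2 ?_))
    intro a ha
    rw [Ideal.mem_comap, IsScalarTower.algebraMap_apply A B (Localization.AtPrime q),
      IsLocalization.AtPrime.to_map_mem_maximal_iff (Localization.AtPrime q) q]
    exact ha
  let D := Localization.AtPrime q ⧸ (q.under A).map (algebraMap A (Localization.AtPrime q))
  haveI : IsLocalRing D := IsLocalRing.of_surjective' (Ideal.Quotient.mk _) Ideal.Quotient.mk_surjective
  have hu : (q.under A).primeCompl ≤ (IsUnit.submonoid D).comap (algebraMap A D) := fun a ha => by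
    change IsUnit (algebraMap A D a)
    rw [IsScalarTower.algebraMap_apply A (Localization.AtPrime q) D,
      IsScalarTower.algebraMap_apply A B (Localization.AtPrime q)]
    exact (IsLocalization.map_units (Localization.AtPrime q) (⟨algebraMap A B a, ha⟩ : q.primeCompl)).map _
  have h0 : q.under A ≤ RingHom.ker (algebraMap A D) := fun a ha => by
    rw [RingHom.mem_ker, IsScalarTower.algebraMap_apply A (Localization.AtPrime q) D]
    exact Ideal.Quotient.eq_zero_iff_mem.2 (Ideal.mem_map_of_mem _ ha)
  let m : (q.under A).Fiber B' →ₐ[(q.under A).ResidueField] (q.under A).Fiber B :=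
    Algebra.TensorProduct.map (AlgHom.id _ _) (IsScalarTower.toAlgHom A B' B)
  letI : Algebra ((q.under A).Fiber B') ((q.under A).Fiber B) := m.toRingHom.toAlgebra
  letI : Algebra B' ((q.under A).Fiber B) :=
    ((algebraMap B ((q.under A).Fiber B)).comp (algebraMap B' B)).toAlgebra
  haveI : IsScalarTower B' B ((q.under A).Fiber B) :=
    IsScalarTower.of_algebraMap_eq' (R := B') (S := B) (A := (q.under A).Fiber B) rfl
  haveI : IsScalarTower (q.under A).ResidueField ((q.under A).Fiber B') ((q.under A).Fiber B) :=
    IsScalarTower.of_algebraMap_eq' (R := (q.under A).ResidueField) (S := (q.under A).Fiber B')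
      (A := (q.under A).Fiber B) m.comp_algebraMap.symm
  haveI : IsScalarTower B' ((q.under A).Fiber B') ((q.under A).Fiber B) :=
    IsScalarTower.of_algebraMap_eq (R := B') (S := (q.under A).Fiber B') (A := (q.under A).Fiber B) fun b => rfl
  haveI := H (q.under A) ((q.under A).Fiber B') ((q.under A).Fiber B) inferInstance inferInstance
  let φ : (q.under A).Fiber B →ₐ[A] D := Algebra.TensorProduct.productMap
    (Ideal.ResidueField.liftₐ (q.under A) (Algebra.ofId A D) h0 hu) (IsScalarTower.toAlgHom A B D)
  letI : Algebra ((q.under A).Fiber B) D := φ.toRingHom.toAlgebra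
  haveI : IsScalarTower B ((q.under A).Fiber B) D :=
    IsScalarTower.of_algebraMap_eq (R := B) (S := (q.under A).Fiber B) (A := D) fun b => by
      change _ = φ ((1 : (q.under A).ResidueField) ⊗ₜ[A] b)
      rw [Algebra.TensorProduct.productMap_apply_tmul, map_one, one_mul]
      rfl
  haveI : IsScalarTower B' B D := inferInstance
  haveI : IsScalarTower B' ((q.under A).Fiber B) D :=
    IsScalarTower.of_algebraMap_eq (R := B') (S := (q.under A).Fiber B) (A := D) fun b => by
      rw [IsScalarTower.algebraMap_apply B' B ((q.under A).Fiber B),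
        ← IsScalarTower.algebraMap_apply B ((q.under A).Fiber B) D, ← IsScalarTower.algebraMap_apply B' B D]
  exact free_fibre_equiv (A₁ := (q.under A).ResidueField) (B'₁ := (q.under A).Fiber B') (B₁ := (q.under A).Fiber B) hopen inferInstance inferInstance D

end Groth.Agent.Lib.Disc.QFInv
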