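import Groth.Agent.Lib.Disc.Jacobian
import Mathlib.RingTheory.Ideal.Quotient.Operations
import Mathlib.RingTheory.Localization.Away.Basic
import Mathlib.RingTheory.Artinian.Module

/-! Algebras with square presentations: products and idempotent quotients. -/

set_option autoImplicit false

universe u

namespace Groth.Agent.Lib.Disc.Square

open MvPolynomial Groth.Agent.Lib.Disc.Jacobian

variable {A : Type u} [CommRing A] {B : Type u} [CommRing B] [Algebra A B]

/-- `B` has a presentation with as many equations as variables. -/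
def IsSquare (A : Type u) [CommRing A] (B : Type u) [CommRing B] [Algebra A B] : Prop :=
  ∃ n, Nonempty (Pres A B n)

theorem IsSquare.of_equiv {C : Type u} [CommRing C] [Algebra A C] (e : B ≃ₐ[A] C) :
    IsSquare A B → IsSquare A C := by
  rintro ⟨n, ⟨P⟩⟩
  refine ⟨n, ⟨⟨P.f, e.toAlgHom.comp P.π, e.surjective.comp P.surj, ?_⟩⟩⟩
  rw [← P.ker_eq]
  ext p
  simp [RingHom.mem_ker]

theorem IsSquare.of_subsingleton [Subsingleton B] : IsSquare A B := by
  refine ⟨1, ⟨⟨fun _ => 1, MvPolynomial.aeval fun _ => (0 : B),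
    fun y => ⟨0, Subsingleton.elim _ _⟩, ?_⟩⟩⟩
  rw [Set.range_const, Ideal.span_singleton_one]
  exact Ideal.eq_top_iff_one _ |>.2 (RingHom.mem_ker.2 (Subsingleton.elim _ _))

variable {n : ℕ}

/-- Adding a last variable. -/
noncomputable def inc : MvPolynomial (Fin n) A →ₐ[A] MvPolynomial (Fin (n + 1)) A :=
  MvPolynomial.rename Fin.castSucc

/-- Evaluating the last variable. -/
noncomputable def setLast (v : MvPolynomial (Fin n) A) :
    MvPolynomial (Fin (n + 1)) A →ₐ[A] MvPolynomial (Fin n) A :=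
  MvPolynomial.aeval (Fin.snoc MvPolynomial.X v)

theorem setLast_inc (v p : MvPolynomial (Fin n) A) : setLast v (inc p) = p := by
  have h : (setLast v).comp inc = AlgHom.id A (MvPolynomial (Fin n) A) := by
    refine MvPolynomial.algHom_ext fun i => ?_
    simp [setLast, inc]
  exact DFunLike.congr_fun h p

theorem sub_inc_setLast_mem (v : MvPolynomial (Fin n) A) (q : MvPolynomial (Fin (n + 1)) A) :
    q - inc (setLast v q) ∈ Ideal.span {MvPolynomial.X (Fin.last n) - inc v} := by
  rw [← Ideal.Quotient.eq]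
  have h : (Ideal.Quotient.mkₐ A (Ideal.span {MvPolynomial.X (Fin.last n) - inc v})).comp
      (AlgHom.id A _) = (Ideal.Quotient.mkₐ A _).comp (inc.comp (setLast v)) := by
    refine MvPolynomial.algHom_ext fun i => ?_
    induction i using Fin.lastCases with
    | last =>
        simp only [AlgHom.comp_apply, AlgHom.id_apply, Ideal.Quotient.mkₐ_eq_mk, Ideal.Quotient.eq,
          setLast, MvPolynomial.aeval_X, Fin.snoc_last]
        exact Ideal.mem_span_singleton_self _
    | cast j =>
        change Ideal.Quotient.mk _ (MvPolynomial.X j.castSucc) =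
          Ideal.Quotient.mk _ (inc (setLast v (MvPolynomial.X j.castSucc)))
        rw [show setLast v (MvPolynomial.X j.castSucc) = MvPolynomial.X j by simp [setLast],
          show inc (A := A) (MvPolynomial.X j) = MvPolynomial.X j.castSucc by simp [inc]]
  exact DFunLike.congr_fun h q

theorem inc_mem {J : Ideal (MvPolynomial (Fin (n + 1)) A)} {f : Fin n → MvPolynomial (Fin n) A}
    (h : ∀ i, inc (f i) ∈ J) {p : MvPolynomial (Fin n) A} (hp : p ∈ Ideal.span (Set.range f)) :
    inc p ∈ J := by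
  refine (Ideal.map_le_iff_le_comap.1 ?_ : Ideal.span (Set.range f) ≤ J.comap inc) hp
  rw [Ideal.map_span, Ideal.span_le]
  rintro _ ⟨_, ⟨i, rfl⟩, rfl⟩
  exact h i

/-- One more variable. -/
theorem pad (P : Pres A B n) : Nonempty (Pres A B (n + 1)) := by
  refine ⟨⟨Fin.snoc (fun i => inc (P.f i)) (MvPolynomial.X (Fin.last n)), P.π.comp (setLast 0),
    fun b => ?_, le_antisymm (fun q hq => ?_) (Ideal.span_le.2 ?_)⟩⟩
  · obtain ⟨p, rfl⟩ := P.surj b
    exact ⟨inc p, by rw [AlgHom.comp_apply, setLast_inc]⟩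
  · set J := Ideal.span (Set.range (Fin.snoc (fun i => inc (P.f i)) (MvPolynomial.X (Fin.last n)) :
      Fin (n + 1) → _))
    have hX : MvPolynomial.X (Fin.last n) ∈ J := Ideal.subset_span ⟨Fin.last n, by simp⟩
    have hI : ∀ i, inc (P.f i) ∈ J := fun i => Ideal.subset_span ⟨i.castSucc, by simp⟩
    have h1 := sub_inc_setLast_mem 0 q
    rw [map_zero, sub_zero] at h1
    rw [← sub_add_cancel q (inc (setLast 0 q))]
    refine add_mem ((Ideal.span_singleton_le_iff_mem _).2 hX h1) ?_
    refine inc_mem hI (P.ker_eq.le ?_)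
    exact hq
  · rintro _ ⟨i, rfl⟩
    induction i using Fin.lastCases with
    | last => simp [RingHom.mem_ker, setLast]
    | cast j =>
        rw [SetLike.mem_coe, RingHom.mem_ker, Fin.snoc_castSucc, AlgHom.comp_apply, setLast_inc]
        exact RingHom.mem_ker.1 (P.ker_eq.ge (Ideal.subset_span (Set.mem_range_self j)))

theorem pad_le {m : ℕ} (h : n ≤ m) (P : Pres A B n) : Nonempty (Pres A B m) := by
  induction h with
  | refl => exact ⟨P⟩
  | step _ ih => exact ih.elim pad

/-- Quotient by an idempotent. -/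
theorem IsSquare.quot_idem {C : Type u} [CommRing C] [Algebra A C] (φ : B →ₐ[A] C)
    (hφ : Function.Surjective φ) (e : B) (he : IsIdempotentElem e)
    (hker : RingHom.ker φ = Ideal.span {e}) : IsSquare A B → IsSquare A C := by
  rintro ⟨n, ⟨P⟩⟩
  obtain ⟨E, hE⟩ := P.surj e
  have hφe : φ e = 0 := RingHom.mem_ker.1 (hker.ge (Ideal.mem_span_singleton_self e))
  refine ⟨n + 1, ⟨⟨Fin.snoc (fun i => inc (P.f i))
    (MvPolynomial.X (Fin.last n) * inc (1 - E) - 1),
    (φ.comp P.π).comp (setLast 1), fun c => ?_, le_antisymm (fun q hq => ?_) (Ideal.span_le.2 ?_)⟩⟩⟩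
  · obtain ⟨b, rfl⟩ := hφ c
    obtain ⟨p, rfl⟩ := P.surj b
    exact ⟨inc p, by rw [AlgHom.comp_apply, setLast_inc, AlgHom.comp_apply]⟩
  · set J := Ideal.span (Set.range (Fin.snoc (fun i => inc (P.f i))
      (MvPolynomial.X (Fin.last n) * inc (1 - E) - 1) : Fin (n + 1) → _))
    have hlast : MvPolynomial.X (Fin.last n) * inc (1 - E) - 1 ∈ J :=
      Ideal.subset_span ⟨Fin.last n, by simp⟩
    have hI : ∀ i, inc (P.f i) ∈ J := fun i => Ideal.subset_span ⟨i.castSucc, by simp⟩
    have hK : ∀ p, P.π p = 0 → inc p ∈ J := fun p hp => inc_mem hI (P.ker_eq.le hp)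
    have hEE : inc (1 - E) * inc E ∈ J := by
      rw [← map_mul]
      exact hK _ (by rw [map_mul, map_sub, map_one, hE, he.one_sub_mul_self])
    have hincE : inc E ∈ J := by
      have := sub_mem (Ideal.mul_mem_left J (MvPolynomial.X (Fin.last n)) hEE) (Ideal.mul_mem_right (inc E) J hlast)
      convert this using 1
      ring
    have ht : MvPolynomial.X (Fin.last n) - inc (1 : MvPolynomial (Fin n) A) ∈ J := by
      have := add_mem hlast (Ideal.mul_mem_left J (MvPolynomial.X (Fin.last n)) hincE)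
      convert this using 1
      rw [map_sub, map_one]
      ring
    rw [← sub_add_cancel q (inc (setLast 1 q))]
    refine add_mem ((Ideal.span_singleton_le_iff_mem _).2 ht (sub_inc_setLast_mem 1 q)) ?_
    obtain ⟨a, ha⟩ := Ideal.mem_span_singleton'.1 (hker.le (show P.π (setLast 1 q) ∈ RingHom.ker φ from hq))
    obtain ⟨a, rfl⟩ := P.surj a
    rw [← sub_add_cancel (setLast 1 q) (a * E), map_add, map_mul]
    exact add_mem (hK _ (by rw [map_sub, map_mul, hE, ha, sub_self])) (Ideal.mul_mem_left J _ hincE)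
  · rintro _ ⟨i, rfl⟩
    induction i using Fin.lastCases with
    | last =>
        simp [RingHom.mem_ker, setLast_inc, hE, hφe]
        simp [setLast]
    | cast j =>
        rw [SetLike.mem_coe, RingHom.mem_ker, Fin.snoc_castSucc, AlgHom.comp_apply, setLast_inc,
          AlgHom.comp_apply, RingHom.mem_ker.1 (P.ker_eq.ge (Ideal.subset_span (Set.mem_range_self j))),
          map_zero]

/-- Products. -/
theorem IsSquare.prod {C : Type u} [CommRing C] [Algebra A C] :
    IsSquare A B → IsSquare A C → IsSquare A (B × C) := by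
  rintro ⟨n₁, ⟨P₁⟩⟩ ⟨n₂, ⟨P₂⟩⟩
  obtain ⟨P⟩ := pad_le (le_max_left n₁ n₂) P₁
  obtain ⟨Q⟩ := pad_le (le_max_right n₁ n₂) P₂
  set n := max n₁ n₂
  let π : MvPolynomial (Fin (n + 1)) A →ₐ[A] B × C :=
    (P.π.comp (setLast 0)).prod (Q.π.comp (setLast 1))
  let T : MvPolynomial (Fin (n + 1)) A := MvPolynomial.X (Fin.last n)
  let F : Fin (n + 1) → MvPolynomial (Fin (n + 1)) A :=
    Fin.snoc (fun i => (1 - T) * inc (P.f i) + T * inc (Q.f i)) (T * T - T)
  have hT : ∀ v, setLast v T = v := fun v => by simp [T, setLast]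
  refine ⟨n + 1, ⟨⟨F, π, ?_, le_antisymm (fun q hq => ?_) (Ideal.span_le.2 ?_)⟩⟩⟩
  · rintro ⟨b, c⟩
    obtain ⟨p, rfl⟩ := P.surj b
    obtain ⟨q, rfl⟩ := Q.surj c
    refine ⟨(1 - T) * inc p + T * inc q, ?_⟩
    simp [π, hT, setLast_inc]
  · set J := Ideal.span (Set.range F)
    have hlast : T * T - T ∈ J := Ideal.subset_span ⟨Fin.last n, by simp [F]⟩
    have hF : ∀ i : Fin n, (1 - T) * inc (P.f i) + T * inc (Q.f i) ∈ J := fun i =>
      Ideal.subset_span ⟨i.castSucc, by simp [F]⟩
    have hP : ∀ p, P.π p = 0 → (1 - T) * inc p ∈ J := fun p hp =>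
      (inc_mem (J := J.colon {1 - T}) (fun i => Submodule.mem_colon_singleton.2 (by
        have := add_mem (Ideal.mul_mem_left J (1 - T) (hF i))
          (Ideal.mul_mem_left J (inc (Q.f i) - inc (P.f i)) hlast)
        convert this using 1
        rw [smul_eq_mul]; ring)) (P.ker_eq.le hp) |> Submodule.mem_colon_singleton.1 |> fun h => by
          rwa [smul_eq_mul, mul_comm] at h)
    have hQ : ∀ p, Q.π p = 0 → T * inc p ∈ J := fun p hp =>
      (inc_mem (J := J.colon {T}) (fun i => Submodule.mem_colon_singleton.2 (by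
        have := add_mem (Ideal.mul_mem_left J T (hF i))
          (Ideal.mul_mem_left J (inc (P.f i) - inc (Q.f i)) hlast)
        convert this using 1
        rw [smul_eq_mul]; ring)) (Q.ker_eq.le hp) |> Submodule.mem_colon_singleton.1 |> fun h => by
          rwa [smul_eq_mul, mul_comm] at h)
    have h0 : q - inc (setLast 0 q) ∈ Ideal.span {T} := by
      have := sub_inc_setLast_mem 0 q
      rwa [map_zero, sub_zero] at this
    have h1 : q - inc (setLast 1 q) ∈ Ideal.span {T - 1} := by
      have := sub_inc_setLast_mem 1 q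
      rwa [map_one] at this
    obtain ⟨a, ha⟩ := Ideal.mem_span_singleton'.1 h0
    obtain ⟨b, hb⟩ := Ideal.mem_span_singleton'.1 h1
    have hπ : P.π (setLast 0 q) = 0 ∧ Q.π (setLast 1 q) = 0 := by
      simpa [π, RingHom.mem_ker, Prod.ext_iff] using hq
    have : q = (1 - T) * inc (setLast 0 q) + T * inc (setLast 1 q) + (b - a) * (T * T - T) := by
      linear_combination (T - 1) * ha - T * hb
    rw [this]
    exact add_mem (add_mem (hP _ hπ.1) (hQ _ hπ.2)) (Ideal.mul_mem_left _ _ hlast)
  · rintro _ ⟨i, rfl⟩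
    induction i using Fin.lastCases with
    | last => simp [RingHom.mem_ker, π, F, hT]
    | cast j =>
        simp [RingHom.mem_ker, π, F, hT, setLast_inc,
          RingHom.mem_ker.1 (P.ker_eq.ge (Ideal.subset_span (Set.mem_range_self j))),
          RingHom.mem_ker.1 (Q.ker_eq.ge (Ideal.subset_span (Set.mem_range_self j)))]

theorem IsSquare.quot_inf {J₁ J₂ : Ideal B} (h : IsCoprime J₁ J₂) :
    IsSquare A (B ⧸ J₁) → IsSquare A (B ⧸ J₂) → IsSquare A (B ⧸ J₁ ⊓ J₂) := fun h₁ h₂ =>
  (h₁.prod h₂).of_equiv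
    (AlgEquiv.ofRingEquiv (f := Ideal.quotientInfEquivQuotientProd J₁ J₂ h) fun _ => rfl).symm

theorem IsSquare.quot_sup_idem {J : Ideal B} {e : B} (he : IsIdempotentElem e) :
    IsSquare A (B ⧸ J) → IsSquare A (B ⧸ J ⊔ Ideal.span {e}) := by
  refine IsSquare.quot_idem (Ideal.Quotient.factorₐ A le_sup_left)
    (Ideal.Quotient.factor_surjective le_sup_left) (Ideal.Quotient.mk J e) (he.map _) ?_
  refine le_antisymm (fun x hx => ?_) ((Ideal.span_singleton_le_iff_mem _).2 ?_)
  · obtain ⟨b, rfl⟩ := Ideal.Quotient.mk_surjective x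
    obtain ⟨a, ha, c, hc, rfl⟩ := Submodule.mem_sup.1 (Ideal.Quotient.eq_zero_iff_mem.1 hx : b ∈ J ⊔ Ideal.span {e})
    obtain ⟨d, rfl⟩ := Ideal.mem_span_singleton'.1 hc
    rw [map_add, Ideal.Quotient.eq_zero_iff_mem.2 ha, zero_add, map_mul]
    exact Ideal.mul_mem_left _ _ (Ideal.mem_span_singleton_self _)
  · exact Ideal.Quotient.eq_zero_iff_mem.2 (Ideal.mem_sup_right (Ideal.mem_span_singleton_self e))

theorem exists_idem_localization [IsArtinianRing B] (g : B) :
    ∃ e : B, IsIdempotentElem e ∧ (∀ p : Ideal B, p.IsPrime → g ∉ p → e ∉ p) ∧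
      IsLocalization.Away g (B ⧸ Ideal.span {1 - e}) := by
  obtain ⟨N, y, hN⟩ := IsArtinian.exists_pow_succ_smul_dvd (M := B) g (1 : B)
  simp only [smul_eq_mul, mul_one] at hN
  have hy : ∀ j, g ^ (N + j) * y ^ j = g ^ N := by
    intro j
    induction j with
    | zero => simp
    | succ j ih =>
        calc g ^ (N + (j + 1)) * y ^ (j + 1) = g ^ j * y ^ j * (g ^ (N + 1) * y) := by ring
          _ = g ^ (N + j) * y ^ j := by rw [hN]; ring
          _ = g ^ N := ih
  let e := g ^ N * y ^ N
  have hge : g ^ N * e = g ^ N := by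
    rw [← mul_assoc, ← pow_add]; exact hy N
  have he : IsIdempotentElem e := by
    change g ^ N * y ^ N * e = g ^ N * y ^ N
    rw [mul_right_comm, hge]
  refine ⟨e, he, fun p hp hg h => hg (hp.mem_of_pow_mem N (hge ▸ Ideal.mul_mem_left _ _ h)), ?_⟩
  have he1 : Ideal.Quotient.mk (Ideal.span {1 - e}) e = 1 := by
    rw [← map_one (Ideal.Quotient.mk _), Ideal.Quotient.eq, Ideal.mem_span_singleton']
    exact ⟨-1, by ring⟩
  have hu : IsUnit (Ideal.Quotient.mk (Ideal.span {1 - e}) g) := by
    refine IsUnit.of_mul_eq_one (Ideal.Quotient.mk _ (g ^ N * y ^ (N + 1))) ?_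
    rw [← map_mul, ← he1]
    congr 1
    calc g * (g ^ N * y ^ (N + 1)) = g ^ (N + 1) * y * y ^ N := by ring
      _ = e := by rw [hN]
  refine (isLocalization_iff _ _).2 ⟨?_, fun z => ?_, fun {x x'} h => ?_⟩
  · rintro ⟨_, k, rfl⟩
    change IsUnit (Ideal.Quotient.mk _ (g ^ k))
    rw [map_pow]
    exact hu.pow k
  · obtain ⟨b, rfl⟩ := Ideal.Quotient.mk_surjective z
    exact ⟨⟨b, 1⟩, by simp⟩
  · obtain ⟨d, hd⟩ := Ideal.mem_span_singleton'.1 (Ideal.Quotient.eq.1 h)
    refine ⟨⟨g ^ N, N, rfl⟩, sub_eq_zero.1 ?_⟩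
    rw [← mul_sub, ← hd, mul_left_comm, mul_sub, mul_one, hge, sub_self, mul_zero]

theorem isSquare_of_cover [IsArtinianRing B]
    (h : ∀ p : PrimeSpectrum B, ∃ g ∉ p.asIdeal, IsSquare A (Localization.Away g)) : IsSquare A B := by
  classical
  let D : B → Prop := fun e => IsIdempotentElem e ∧ IsSquare A (B ⧸ Ideal.span {1 - e})
  have hjoin : ∀ e e', D e → D e' → D (e + e' * (1 - e)) := by
    rintro e e' ⟨he, hs⟩ ⟨he', hs'⟩
    have h1 : e * (1 - e) = 0 := by rw [mul_sub, mul_one, he, sub_self]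
    refine ⟨?_, ?_⟩
    · change (e + e' * (1 - e)) * (e + e' * (1 - e)) = e + e' * (1 - e)
      linear_combination (1 - e') ^ 2 * he.eq + (1 - e) * he'.eq
    set J := Ideal.span {1 - e'} ⊔ Ideal.span {e}
    have hJ : IsSquare A (B ⧸ J) := hs'.quot_sup_idem he
    have hcop : IsCoprime (Ideal.span {1 - e}) J :=
      Ideal.isCoprime_iff_exists.2 ⟨1 - e, Ideal.mem_span_singleton_self _, e,
        Ideal.mem_sup_right (Ideal.mem_span_singleton_self e), sub_add_cancel _ _⟩
    have heq : Ideal.span {1 - (e + e' * (1 - e))} = Ideal.span {1 - e} ⊓ J := by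
      refine le_antisymm ((Ideal.span_singleton_le_iff_mem _).2 ⟨?_, ?_⟩) ?_
      · exact Ideal.mem_span_singleton'.2 ⟨1 - e', by ring⟩
      · rw [show 1 - (e + e' * (1 - e)) = (1 - e) * (1 - e') by ring]
        exact Ideal.mul_mem_left _ _ (Ideal.mem_sup_left (Ideal.mem_span_singleton_self _))
      · rintro x ⟨hx1, hx2⟩
        obtain ⟨d, rfl⟩ := Ideal.mem_span_singleton'.1 hx1
        obtain ⟨a, ha, b, hb, hab⟩ := Submodule.mem_sup.1 hx2
        obtain ⟨a, rfl⟩ := Ideal.mem_span_singleton'.1 ha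
        obtain ⟨b, rfl⟩ := Ideal.mem_span_singleton'.1 hb
        refine Ideal.mem_span_singleton'.2 ⟨a, ?_⟩
        linear_combination (1 - e) * hab + (-b) * h1 + d * he.eq
    rw [heq]
    exact hs.quot_inf hcop hJ
  have hex : ∀ p : PrimeSpectrum B, ∃ e ∉ p.asIdeal, D e := by
    intro p
    obtain ⟨g, hg, hs⟩ := h p
    obtain ⟨e, he, hep, _⟩ := exists_idem_localization g
    exact ⟨e, hep _ p.2 hg, he, hs.of_equiv
      ((IsLocalization.algEquiv (Submonoid.powers g) (Localization.Away g)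
        (B ⧸ Ideal.span {1 - e})).restrictScalars A)⟩
  choose E hE hDE using hex
  haveI : Finite (PrimeSpectrum B) := inferInstance
  haveI := Fintype.ofFinite (PrimeSpectrum B)
  obtain ⟨e, he, hle⟩ : ∃ e, D e ∧ ∀ p ∈ (Finset.univ : Finset (PrimeSpectrum B)), e ∉ p.asIdeal := by
    have key : ∀ S : Finset (PrimeSpectrum B), ∃ e, D e ∧ ∀ p ∈ S, e ∉ p.asIdeal := by
      intro S
      induction S using Finset.induction_on with
      | empty =>
          haveI : Subsingleton (B ⧸ Ideal.span {(1 : B) - 0}) := by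
            rw [Ideal.Quotient.subsingleton_iff, sub_zero, Ideal.span_singleton_one]
          exact ⟨0, ⟨IsIdempotentElem.zero, IsSquare.of_subsingleton⟩, by simp⟩
      | insert p S _ ih =>
          obtain ⟨e, he, heS⟩ := ih
          refine ⟨_, hjoin e (E p) he (hDE p), fun q hq h' => ?_⟩
          have h2 : e ∈ q.asIdeal := by
            have := Ideal.mul_mem_left q.asIdeal e h'
            rwa [show e * (e + E p * (1 - e)) = e by linear_combination (1 - E p) * he.1.eq] at this
          rcases Finset.mem_insert.1 hq with rfl | hq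
          · refine hE q ?_
            have := sub_mem h' (Ideal.mul_mem_left q.asIdeal (1 - E q) h2)
            convert this using 1
            ring
          · exact heS q hq h2
    exact key _
  have hu : IsUnit e := by
    by_contra hu
    obtain ⟨m, hm, hem⟩ := exists_max_ideal_of_mem_nonunits hu
    exact hle ⟨m, hm.isPrime⟩ (Finset.mem_univ _) hem
  have he1 : e = 1 := hu.mul_left_cancel (by rw [mul_one]; exact he.1)
  have hb : (Ideal.span {1 - e}) = (⊥ : Ideal B) := by rw [he1, sub_self, Ideal.span_singleton_eq_bot]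
  exact he.2.of_equiv ((Ideal.quotientEquivAlgOfEq A hb).trans (AlgEquiv.quotientBot A B))

end Groth.Agent.Lib.Disc.Square
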