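import Groth.Agent.Lib.Synt92.IsLCIOverBasic
import Mathlib.RingTheory.FinitePresentation
import Mathlib.RingTheory.Flat.Stability
import Mathlib.RingTheory.LocalRing.ResidueField.Fiber

/-! Syntomic ring maps are invariant under isomorphism. -/

set_option autoImplicit false

universe u

namespace Groth.Agent.Lib.Disc.SyntCongr

theorem isLCIOver_congr {k : Type u} [Field k] {S T : Type u} [CommRing S] [Algebra k S] [CommRing T]
    [Algebra k T] (e : S ≃ₐ[k] T) (h : Synt.IsLCIOver k S) : Synt.IsLCIOver k T := by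
  refine ⟨h.1.equiv e, fun p => ?_⟩
  obtain ⟨g, hg, hG⟩ := h.2 (PrimeSpectrum.comap e.toAlgHom.toRingHom p)
  refine ⟨e g, hg, Synt92.IsLCIOverBasic.isGlobalCI_congr k ?_ hG⟩
  exact IsLocalization.algEquivOfAlgEquiv (M := Submonoid.powers g) (T := Submonoid.powers (e g))
    _ _ e (Submonoid.map_powers _ _)

theorem isSyntomic_congr {R : Type u} [CommRing R] {S T : Type u} [CommRing S] [Algebra R S]
    [CommRing T] [Algebra R T] (e : S ≃ₐ[R] T) (h : Synt.IsSyntomic R S) : Synt.IsSyntomic R T := by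
  haveI := h.1
  haveI := h.2.1
  refine ⟨Module.Flat.of_linearEquiv e.symm.toLinearEquiv, Algebra.FinitePresentation.equiv e, fun p => ?_⟩
  exact isLCIOver_congr (Algebra.TensorProduct.congr AlgEquiv.refl e) (h.2.2 p)

end Groth.Agent.Lib.Disc.SyntCongr
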