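import Groth.Prelude.Def_Disc
import Mathlib.RingTheory.Flat.Stability
import Mathlib.RingTheory.RingHom.Flat
import Mathlib.RingTheory.Kaehler.Basic
import Mathlib.RingTheory.IsTensorProduct
import Mathlib.LinearAlgebra.TensorProduct.Pi

/-! The Noether different under flat maps. -/

set_option autoImplicit false

universe u

open scoped TensorProduct

namespace Groth.Agent.Lib.Disc.Transfer

theorem annihilator_map {R R' : Type u} [CommRing R] [CommRing R'] (φ : R →+* R') (hφ : φ.Flat)
    (J : Ideal R) (hJ : J.FG) :
    Submodule.annihilator (J.map φ) = (Submodule.annihilator J).map φ := by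
  algebraize [φ]
  haveI : Module.Flat R R' := hφ
  obtain ⟨s, g, hg⟩ := Submodule.fg_iff_exists_fin_generating_family.1 hJ
  change Submodule.annihilator (J.map (algebraMap R R')) = (Submodule.annihilator J).map (algebraMap R R')
  refine le_antisymm (fun x hx => ?_) ?_
  · let l : R →ₗ[R] (Fin s → R) := LinearMap.pi fun j => LinearMap.mulLeft R (g j)
    have hker : ∀ y : R, y ∈ LinearMap.ker l → y ∈ Submodule.annihilator J := by
      intro y hy
      rw [Submodule.mem_annihilator]
      intro z hz
      rw [← hg] at hz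
      obtain ⟨c, rfl⟩ := (Submodule.mem_span_range_iff_exists_fun R).1 hz
      rw [Finset.smul_sum]
      refine Finset.sum_eq_zero fun j _ => ?_
      have hj : g j * y = 0 := congr_fun (LinearMap.mem_ker.1 hy) j
      rw [smul_comm, smul_eq_mul, smul_eq_mul, mul_comm y, hj, mul_zero]
    have h2 : ∀ z : R', TensorProduct.piScalarRight R R R' (Fin s) (l.lTensor R' (z ⊗ₜ[R] (1 : R))) =
        fun j => algebraMap R R' (g j) * z := fun z => funext fun j => by
      simp [l, Algebra.smul_def]
    have h3 : l.lTensor R' (x ⊗ₜ[R] (1 : R)) = 0 := by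
      apply (TensorProduct.piScalarRight R R R' (Fin s)).injective
      rw [h2, map_zero]
      funext j
      have := Submodule.mem_annihilator.1 hx _
        (Ideal.mem_map_of_mem (algebraMap R R') (hg ▸ Submodule.subset_span (Set.mem_range_self j)))
      rw [smul_eq_mul, mul_comm] at this
      exact this
    obtain ⟨z, hz⟩ := (Module.Flat.lTensor_exact R' (LinearMap.exact_subtype_ker_map l) _).1 h3
    have key : ∀ z : R' ⊗[R] LinearMap.ker l,
        TensorProduct.rid R R' ((LinearMap.ker l).subtype.lTensor R' z) ∈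
          (Submodule.annihilator J).map (algebraMap R R') := by
      intro z
      induction z using TensorProduct.induction_on with
      | zero => simp
      | tmul a y =>
          simp only [LinearMap.lTensor_tmul, TensorProduct.rid_tmul, Submodule.subtype_apply, Algebra.smul_def]
          exact Ideal.mul_mem_right _ _ (Ideal.mem_map_of_mem _ (hker _ y.2))
      | add a b ha hb => rw [map_add, map_add]; exact add_mem ha hb
    have := key z
    rwa [hz, TensorProduct.rid_tmul, one_smul] at this
  · rw [Ideal.map_le_iff_le_comap]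
    intro y hy
    rw [Ideal.mem_comap, Submodule.mem_annihilator]
    intro z hz
    induction hz using Submodule.span_induction with
    | mem z hz =>
        obtain ⟨w, hw, rfl⟩ := hz
        rw [smul_eq_mul, ← map_mul, ← smul_eq_mul, Submodule.mem_annihilator.1 hy w hw, map_zero]
    | zero => rw [smul_zero]
    | add a b _ _ ha hb => rw [smul_add, ha, hb, add_zero]
    | smul r a _ ha => rw [smul_comm, ha, smul_zero]

theorem noetherDifferent_map {A B A' B' : Type u} [CommRing A] [CommRing B] [Algebra A B]
    [CommRing A'] [CommRing B'] [Algebra A' B'] [Algebra.FiniteType A B]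
    (φ : B ⊗[A] B →+* B' ⊗[A'] B') (hφ : φ.Flat) (ψ : B →+* B')
    (hcomm : ∀ z, Algebra.TensorProduct.lmul' (S := B') A' (φ z) =
      ψ (Algebra.TensorProduct.lmul' (S := B) A z))
    (hker : ∀ s : B', (1 : B') ⊗ₜ[A'] s - s ⊗ₜ[A'] (1 : B') ∈
      (RingHom.ker (Algebra.TensorProduct.lmul' (S := B) A)).map φ) :
    _root_.Disc.noetherDifferent A' B' = (_root_.Disc.noetherDifferent A B).map ψ := by
  have hk : RingHom.ker (Algebra.TensorProduct.lmul' (S := B') A') =
      (RingHom.ker (Algebra.TensorProduct.lmul' (S := B) A)).map φ := by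
    refine le_antisymm ?_ ?_
    · change KaehlerDifferential.ideal A' B' ≤ _
      rw [← KaehlerDifferential.span_range_eq_ideal, Ideal.span_le]
      rintro _ ⟨s, rfl⟩
      exact hker s
    · rw [Ideal.map_le_iff_le_comap]
      intro z hz
      rw [Ideal.mem_comap, RingHom.mem_ker, hcomm, RingHom.mem_ker.1 hz, map_zero]
  have hfg : (RingHom.ker (Algebra.TensorProduct.lmul' (S := B) A)).FG :=
    KaehlerDifferential.ideal_fg A B
  rw [_root_.Disc.noetherDifferent, _root_.Disc.noetherDifferent, hk, annihilator_map φ hφ _ hfg]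
  change Ideal.map (Algebra.TensorProduct.lmul' (S := B') A').toRingHom (Ideal.map φ _) =
    Ideal.map ψ (Ideal.map (Algebra.TensorProduct.lmul' (S := B) A).toRingHom _)
  rw [Ideal.map_map, Ideal.map_map]
  congr 1
  exact RingHom.ext hcomm

theorem noetherDifferent_baseChange {A B A' B' : Type u} [CommRing A] [CommRing B]
    [CommRing A'] [CommRing B'] [Algebra A B] [Algebra A A'] [Algebra A B'] [Algebra B B']
    [Algebra A' B'] [IsScalarTower A B B'] [IsScalarTower A A' B']
    [h : Algebra.IsPushout A B A' B'] [Algebra.FiniteType A B] [Module.Flat A A'] :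
    _root_.Disc.noetherDifferent A' B' = (_root_.Disc.noetherDifferent A B).map (algebraMap B B') := by
  haveI : Algebra.IsPushout A A' B B' := h.symm
  let ι : B →ₐ[A] B' := IsScalarTower.toAlgHom A B B'
  have hι : ι.toRingHom.Flat := RingHom.flat_algebraMap_iff.2 (Module.Flat.isBaseChange A B A' B' h.out)
  let E : B' ⊗[A] B ≃ₐ[A'] B' ⊗[A'] B' :=
    ((Algebra.TensorProduct.cancelBaseChange A A' A' B' B).symm).trans
      (Algebra.TensorProduct.congr AlgEquiv.refl (Algebra.IsPushout.equiv A A' B B'))
  have hE : ∀ x b, E (x ⊗ₜ[A] b) = x ⊗ₜ[A'] ι b := by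
    intro x b
    simp [E, ι, Algebra.IsPushout.equiv_tmul]
  let m : B ⊗[A] B →ₐ[A] B' ⊗[A] B := Algebra.TensorProduct.map ι (AlgHom.id A B)
  have hm : m.toRingHom.Flat := RingHom.Flat.tensorProductMap hι (RingHom.Flat.id B)
  let φ : B ⊗[A] B →+* B' ⊗[A'] B' := E.toRingEquiv.toRingHom.comp m.toRingHom
  have hφ : ∀ x y, φ (x ⊗ₜ[A] y) = ι x ⊗ₜ[A'] ι y := fun x y => hE (ι x) y
  refine noetherDifferent_map φ (RingHom.Flat.comp hm (RingHom.Flat.of_bijective E.bijective)) _ ?_ ?_
  · intro z
    induction z using TensorProduct.induction_on with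
    | zero => simp
    | tmul x y => rw [hφ]; simp [ι]
    | add x y hx hy => simp only [map_add, hx, hy]
  · intro s
    refine IsBaseChange.inductionOn (S := A') (Algebra.IsPushout.out (R := A) (S := A') (R' := B) (S' := B')) s
      (fun s => (1 : B') ⊗ₜ[A'] s - s ⊗ₜ[A'] (1 : B') ∈
        (RingHom.ker (Algebra.TensorProduct.lmul' (S := B) A)).map φ)
      ?_ (fun b => ?_) (fun a s hs => ?_) (fun s t hs ht => ?_)
    · simp
    · have hb : (1 : B) ⊗ₜ[A] b - b ⊗ₜ[A] (1 : B) ∈ RingHom.ker (Algebra.TensorProduct.lmul' (S := B) A) := by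
        simp [RingHom.mem_ker]
      have := Ideal.mem_map_of_mem φ hb
      rw [map_sub, hφ, hφ, map_one] at this
      exact this
    · rw [TensorProduct.tmul_smul, ← TensorProduct.smul_tmul', ← smul_sub]
      exact Submodule.smul_of_tower_mem _ a hs
    · rw [TensorProduct.tmul_add, TensorProduct.add_tmul, add_sub_add_comm]
      exact add_mem hs ht

end Groth.Agent.Lib.Disc.Transfer
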