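import Groth.Agent.Lib.Disc.Pairing
import Groth.Agent.Lib.Disc.Different
import Mathlib.RingTheory.Unramified.Locus
import Mathlib.LinearAlgebra.Matrix.Charpoly.LinearMap
import Mathlib.LinearAlgebra.Dual.Lemmas

/-! The Noether different cuts out the ramified locus. -/

set_option autoImplicit false

universe u v

open scoped TensorProduct
open Polynomial

namespace Groth.Agent.Lib.Disc.Unram

variable {A : Type u} {B : Type v} [CommRing A] [CommRing B] [Algebra A B]

local notation "μ" => Algebra.TensorProduct.lmul' (S := B) A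

theorem diag_mem (b : B) : (1 : B) ⊗ₜ[A] b - b ⊗ₜ[A] (1 : B) ∈ KaehlerDifferential.ideal A B :=
  KaehlerDifferential.one_smul_sub_smul_one_mem_ideal A b

theorem mem_annihilator_iff (s : B) :
    s ∈ Module.annihilator B Ω[B⁄A] ↔
      ∀ x ∈ KaehlerDifferential.ideal A B, (s ⊗ₜ[A] (1 : B)) * x ∈ KaehlerDifferential.ideal A B ^ 2 := by
  have key : ∀ x : KaehlerDifferential.ideal A B,
      s • (KaehlerDifferential.ideal A B).toCotangent x = 0 ↔
        (s ⊗ₜ[A] (1 : B)) * (x : B ⊗[A] B) ∈ KaehlerDifferential.ideal A B ^ 2 := by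
    intro x
    rw [show s • (KaehlerDifferential.ideal A B).toCotangent x =
        (KaehlerDifferential.ideal A B).toCotangent ((s ⊗ₜ[A] (1 : B)) • x) by
      rw [map_smul]
      exact (algebraMap_smul (B ⊗[A] B) s _).symm, Ideal.toCotangent_eq_zero]
    rfl
  rw [Module.mem_annihilator]
  refine ⟨fun h x hx => (key ⟨x, hx⟩).1 (h _), fun h ω => ?_⟩
  obtain ⟨x, rfl⟩ := Ideal.toCotangent_surjective (KaehlerDifferential.ideal A B) ω
  exact (key x).2 (h _ x.2)

theorem noetherDifferent_le_annihilator :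
    _root_.Disc.noetherDifferent A B ≤ Module.annihilator B Ω[B⁄A] := by
  have hs : Function.Surjective μ := fun y => ⟨1 ⊗ₜ[A] y, by simp⟩
  intro d hd
  rw [_root_.Disc.noetherDifferent, Ideal.mem_map_iff_of_surjective _ hs] at hd
  obtain ⟨ξ, hξ, rfl⟩ := hd
  rw [mem_annihilator_iff]
  intro x hx
  have h0 : ξ * x = 0 := Submodule.mem_annihilator.1 hξ x hx
  have h1 : (μ ξ) ⊗ₜ[A] (1 : B) - ξ ∈ KaehlerDifferential.ideal A B := by
    show μ ((μ ξ) ⊗ₜ[A] (1 : B) - ξ) = 0
    rw [map_sub, Algebra.TensorProduct.lmul'_apply_tmul, mul_one, sub_self]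
  have h2 := Ideal.mul_mem_mul h1 hx
  rw [sub_mul, h0, sub_zero, ← pow_two] at h2
  exact h2

theorem exists_pow_mem [Algebra.EssFiniteType A B] {s : B} (hs : s ∈ Module.annihilator B Ω[B⁄A]) :
    ∃ n : ℕ, s ^ n ∈ _root_.Disc.noetherDifferent A B := by
  set I := KaehlerDifferential.ideal A B with hI
  haveI : Module.Finite (B ⊗[A] B) I := Module.Finite.iff_fg.2 (KaehlerDifferential.ideal_fg A B)
  let G : B ⊗[A] B := s ⊗ₜ[A] (1 : B)
  let f : Module.End (B ⊗[A] B) I := algebraMap (B ⊗[A] B) (Module.End (B ⊗[A] B) I) G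
  have hf : LinearMap.range f ≤ I • ⊤ := by
    rintro _ ⟨x, rfl⟩
    rw [Submodule.mem_smul_top_iff, smul_eq_mul, ← pow_two]
    exact (mem_annihilator_iff s).1 hs x x.2
  obtain ⟨p, hp, -, hc, h0⟩ :=
    LinearMap.exists_monic_and_natDegree_eq_and_coeff_mem_pow_and_aeval_eq_zero (B ⊗[A] B) f I hf
  refine ⟨p.natDegree, ?_⟩
  have hx : p.eval G ∈ Submodule.annihilator I := by
    refine Submodule.mem_annihilator.2 fun y hy => ?_
    have h1 := LinearMap.congr_fun h0 ⟨y, hy⟩
    rw [show f = algebraMap (B ⊗[A] B) (Module.End (B ⊗[A] B) I) G from rfl,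
      Polynomial.aeval_algebraMap_apply, Polynomial.coe_aeval_eq_eval] at h1
    exact congrArg Subtype.val h1
  have hmap : p.map (RingHomClass.toRingHom μ) = X ^ p.natDegree := by
    ext k
    rw [coeff_map, coeff_X_pow]
    rcases lt_trichotomy k p.natDegree with hk | hk | hk
    · rw [if_neg hk.ne]
      exact Ideal.pow_le_self (by omega) (hc k)
    · subst hk
      rw [if_pos rfl, hp.coeff_natDegree, map_one]
    · rw [if_neg hk.ne', coeff_eq_zero_of_natDegree_lt hk, map_zero]
  have h3 : μ (p.eval G) = s ^ p.natDegree := by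
    have := congrArg (Polynomial.eval s) hmap
    rw [eval_map, eval_pow, eval_X, show s = (RingHomClass.toRingHom μ) G by simp [G], eval₂_hom] at this
    simpa [G] using this
  rw [← h3]
  exact Ideal.mem_map_of_mem _ hx

theorem noetherDifferent_le_iff [Algebra.FiniteType A B] (q : Ideal B) [q.IsPrime] :
    _root_.Disc.noetherDifferent A B ≤ q ↔ ¬Algebra.IsUnramifiedAt A q := by
  have h : Algebra.IsUnramifiedAt A q ↔ ¬ Module.annihilator B Ω[B⁄A] ≤ q := by
    have h' := Set.ext_iff.1 (Algebra.unramifiedLocus_eq_compl_support (R := A) (A := B)) ⟨q, inferInstance⟩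
    rw [Module.support_eq_zeroLocus] at h'
    exact h'
  rw [h, not_not]
  exact ⟨fun hle s hs => by
    obtain ⟨n, hn⟩ := exists_pow_mem (A := A) hs
    exact Ideal.IsPrime.mem_of_pow_mem ‹_› n (hle hn), fun hle => noetherDifferent_le_annihilator.trans hle⟩

section Free

open Pairing

variable [Module.Free A B] [Module.Finite A B]

omit [Module.Free A B] [Module.Finite A B] in
theorem comm_mem_annI {ξ : B ⊗[A] B} (hξ : ξ ∈ annI A B) :
    Algebra.TensorProduct.comm A B B ξ ∈ annI A B := by
  refine mem_annI.2 fun c => ?_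
  have h := congrArg (Algebra.TensorProduct.comm A B B) (mem_annI.1 hξ c)
  rw [map_mul, map_mul, Algebra.TensorProduct.comm_tmul, Algebra.TensorProduct.comm_tmul] at h
  exact h.symm

omit [Module.Free A B] [Module.Finite A B] in
theorem pairing_symm (τ ψ : B →ₗ[A] A) (x : B) (ξ : B ⊗[A] B) :
    ψ (ev τ ((x ⊗ₜ[A] 1) * Algebra.TensorProduct.comm A B B ξ)) = τ (ev ψ ξ * x) := by
  induction ξ using TensorProduct.induction_on with
  | zero => simp
  | add a b ha hb => simp only [map_add, mul_add, add_mul, ha, hb]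
  | tmul a b =>
      rw [Algebra.TensorProduct.comm_tmul, Algebra.TensorProduct.tmul_mul_tmul, one_mul, ev_tmul,
        ev_tmul, smul_mul_assoc, map_smul, map_smul, smul_eq_mul, smul_eq_mul, mul_comm x b, mul_comm]

theorem noetherDifferent_subset_differentSet :
    (_root_.Disc.noetherDifferent A B : Set B) ⊆ _root_.Disc.differentSet A B := by
  have hs : Function.Surjective μ := fun y => ⟨1 ⊗ₜ[A] y, by simp⟩
  intro d hd
  rw [SetLike.mem_coe, _root_.Disc.noetherDifferent, Ideal.mem_map_iff_of_surjective _ hs] at hd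
  obtain ⟨ξ, hξ, rfl⟩ := hd
  intro ψ
  refine ⟨ev ψ ξ, fun x => ?_⟩
  rw [← pairing_symm (Algebra.trace A B) ψ x ξ,
    ev_trace (Ideal.mul_mem_left _ _ (comm_mem_annI hξ)),
    map_mul (Algebra.TensorProduct.lmul' (S := B) A),
    Algebra.TensorProduct.lmul'_apply_tmul, mul_one, mul_comm]
  congr 2
  clear hξ
  induction ξ using TensorProduct.induction_on with
  | zero => simp
  | add a b ha hb => simp only [map_add, ha, hb]
  | tmul a b => simp [mul_comm]

theorem exists_hom_of_mem_differentSet {b : B} (hb : b ∈ _root_.Disc.differentSet A B) :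
    b * b ∈ _root_.Disc.noetherDifferent A B := by
  choose c hc using (Different.mem_differentSet_iff.1 hb)
  have key : ∀ e : B, e • _root_.Disc.Omega.trace A B = 0 → b * e = 0 := by
    intro e he
    refine (Module.forall_dual_apply_eq_zero_iff A _).1 fun φ => ?_
    have h1 : e • b • (⟨φ⟩ : _root_.Disc.Omega A B) = 0 := by rw [hc, smul_comm, he, smul_zero]
    have h2 := congrArg (fun l : _root_.Disc.Omega A B => l.toLinearMap 1) h1
    simpa using h2
  have sub : ∀ e e' : B, e • _root_.Disc.Omega.trace A B = e' • _root_.Disc.Omega.trace A B →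
      b * e = b * e' := fun e e' h => by
    rw [← sub_eq_zero, ← mul_sub]
    exact key _ (by rw [sub_smul, h, sub_self])
  let Φ : _root_.Disc.Omega A B →ₗ[B] B :=
    { toFun := fun ψ => b * c ψ
      map_add' := fun ψ ψ' => by
        rw [← mul_add]
        exact sub _ _ (by rw [← hc, smul_add, hc, hc, add_smul])
      map_smul' := fun r ψ => by
        rw [RingHom.id_apply, smul_eq_mul, mul_left_comm]
        exact sub _ _ (by rw [← hc, smul_comm, hc, smul_smul]) }
  refine Pairing.mem_noetherDifferent_iff.2 ⟨Φ, ?_⟩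
  exact sub _ _ (hc _).symm

theorem differentSet_subset_iff (q : Ideal B) [q.IsPrime] :
    _root_.Disc.differentSet A B ⊆ q ↔ _root_.Disc.noetherDifferent A B ≤ q :=
  ⟨fun h => fun d hd => h (noetherDifferent_subset_differentSet hd), fun h b hb =>
    (Ideal.IsPrime.mem_or_mem ‹_› (h (exists_hom_of_mem_differentSet hb))).elim id id⟩

end Free

end Groth.Agent.Lib.Disc.Unram
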